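import Cfsg.Agent.H95.Co1Cent
import Cfsg.Agent.H95.Co1OutData
import Cfsg.Prelude.Def_Spor_Conway

/-!
Words in seven elements of the lattice group, read modulo the centre.
-/

set_option autoImplicit false

namespace H95

open Cfsg Finset

/-- the quotient map -/
noncomputable def qC : Co0 →* Spor.Co1 := QuotientGroup.mk' (Subgroup.center Co0)

theorem qC_surjective : Function.Surjective qC := QuotientGroup.mk'_surjective _

theorem negOne_comm (g : Co0) : negOne * g = g * negOne :=
  ((Subgroup.mem_center_iff.mp negOne_mem_center) g).symm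

theorem qC_negOne : qC negOne = 1 := (QuotientGroup.eq_one_iff negOne).mpr negOne_mem_center

theorem qC_eq_one {a : Co0} : qC a = 1 ↔ a = 1 ∨ a = negOne := by
  constructor
  · exact fun h => center_cases ((QuotientGroup.eq_one_iff a).mp h)
  · rintro (rfl | rfl)
    · exact map_one _
    · exact qC_negOne

theorem qC_eq_iff {a b : Co0} : qC a = qC b ↔ a = b ∨ a = negOne * b := by
  constructor
  · intro h
    have h1 : qC (a * b⁻¹) = 1 := by rw [map_mul, map_inv, h, mul_inv_cancel]
    rcases qC_eq_one.mp h1 with e | e
    · exact Or.inl (mul_inv_eq_one.mp e)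
    · exact Or.inr (mul_inv_eq_iff_eq_mul.mp e)
  · rintro (rfl | rfl)
    · rfl
    · rw [map_mul, qC_negOne, one_mul]

theorem negOne_sq : negOne * negOne = (1 : Co0) := co0_ext fun v => by
  rw [mul_smul, negOne_smul, negOne_smul, neg_neg, one_smul]

/-- the elements -/
noncomputable def genC : ℕ → Co0
  | 0 => tauT
  | 1 => permHom dblPerm
  | 2 => dEl
  | 3 => permHom twStab.1
  | 4 => piEl
  | 5 => co3Mat.elt
  | _ => fMat.elt

/-- their action on lists -/
def genL : ℕ → List ℤ → List ℤ
  | 0, l => shiftL 1 l
  | 1, l => scaleL 1 l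
  | 2, l => signL l
  | 3, l => twL l
  | 4, l => projL l
  | 5, l => applyL co3Rows l
  | _, l => applyL fRows l

theorem vecL_genC (a : ℕ) (u : leechLattice) :
    vecL ((genC a • u : leechLattice) : GolayPt → ℤ) = genL a (vecL (u : GolayPt → ℤ)) := by
  rcases a with _ | _ | _ | _ | _ | _ | a
  · show vecL ((permHom translOne • u : leechLattice) : GolayPt → ℤ) = _
    rw [show permHom translOne = permHom (translOne ^ 1) by rw [pow_one], vecL_translate]
    rfl
  · show vecL ((permHom dblPerm • u : leechLattice) : GolayPt → ℤ) = _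
    rw [show permHom dblPerm = permHom (dblPerm ^ 1) by rw [pow_one], vecL_double]
    rfl
  · exact vecL_sign u
  · exact vecL_twist u
  · exact vecL_proj u
  · exact co3Mat.vecL_elt u
  · exact fMat.vecL_elt u

/-- a word on lists -/
def wordC : List ℕ → List ℤ → List ℤ
  | [], l => l
  | a :: w, l => forceL (wordC w l) fun r => forceL (genL a r) id

/-- the value of a word -/
noncomputable def evalC (w : List ℕ) : Co0 := (w.map genC).prod

theorem vecL_evalC (w : List ℕ) (u : leechLattice) :
    vecL ((evalC w • u : leechLattice) : GolayPt → ℤ) = wordC w (vecL (u : GolayPt → ℤ)) := by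
  induction w with
  | nil => simp [evalC, wordC]
  | cons a w ih =>
    rw [evalC, List.map_cons, List.prod_cons, mul_smul, vecL_genC]
    rw [wordC, forceL_eq, forceL_eq, ← ih]
    rfl

theorem vecL_evalC_pow (w : List ℕ) (n : ℕ) (u : leechLattice) :
    vecL (((evalC w) ^ n • u : leechLattice) : GolayPt → ℤ) = (wordC w)^[n] (vecL (u : GolayPt → ℤ)) := by
  induction n with
  | zero => simp
  | succ n ih => rw [pow_succ', mul_smul, vecL_evalC, ih, Function.iterate_succ_apply']

theorem eq_of_eights {g h : Co0}
    (H : ∀ i : Fin 24, vecL ((g • eight (H90.pt i) : leechLattice) : GolayPt → ℤ)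
      = vecL ((h • eight (H90.pt i) : leechLattice) : GolayPt → ℤ)) : g = h := by
  rw [← inv_mul_eq_one]
  refine co0_eq_one_of_eights fun p => ?_
  have := eq_of_vecL (H (H90.idx p))
  rw [H90.pt_idx] at this
  rw [mul_smul, ← this, inv_smul_smul]

/-- two words give one element -/
def sameC (w w' : List ℕ) : Bool :=
  (List.finRange 24).all fun i => wordC w (eightL i) == wordC w' (eightL i)

theorem sameC_spec {w w' : List ℕ} (h : sameC w w' = true) : evalC w = evalC w' := by
  refine eq_of_eights fun i => ?_
  rw [vecL_evalC, vecL_evalC, vecL_eight]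
  exact beq_iff_eq.mp (List.all_eq_true.mp h i (List.mem_finRange _))

theorem evalC_append (w w' : List ℕ) : evalC (w ++ w') = evalC w * evalC w' := by
  simp [evalC]

theorem evalC_replicate (n a : ℕ) : evalC (List.replicate n a) = genC a ^ n := by
  simp [evalC]

theorem evalC_cons (a : ℕ) (w : List ℕ) : evalC (a :: w) = genC a * evalC w := by
  simp [evalC]

/-- a candidate for the image of the element `g` -/
def candWord (g : ℕ) (r : List ℕ) (a j : ℕ) : List ℕ :=
  g :: r ++ List.replicate a 2 ++ List.replicate j 1

/-- a pattern with `7` the variable and `0` raised to `k` -/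
def substW (k : ℕ) (c : List ℕ) : List ℕ → List ℕ
  | [] => []
  | 0 :: p => List.replicate k 0 ++ substW k c p
  | 7 :: p => c ++ substW k c p
  | l :: p => l :: substW k c p

/-- the representatives -/
def repWords : List (List ℕ) := [[], [6], [2, 6]]

/-- the relations hold modulo the sign -/
def relsHold (g : ℕ) (rels : List (List ℕ × ℕ)) : Bool :=
  rels.all fun r =>
    ((List.finRange 24).all fun i => (wordC (substW 1 [g] r.1))^[r.2] (eightL i) == eightL i) ||
    ((List.finRange 24).all fun i => (wordC (substW 1 [g] r.1))^[r.2] (eightL i) == negL (eightL i))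

/-- two witnesses against a relation -/
def relFails (k : ℕ) (c : List ℕ) (r : List ℕ × ℕ) : Bool :=
  let e1 := (wordC (substW k c r.1))^[r.2] (eightL 1)
  let e5 := (wordC (substW k c r.1))^[r.2] (eightL 5)
  !(e1 == eightL 1 && e5 == eightL 5) && !(e1 == negL (eightL 1) && e5 == negL (eightL 5))

/-- all other candidates with a given representative fail -/
def stageTest (g : ℕ) (ks : List ℕ) (rels : List (List ℕ × ℕ)) (ri : ℕ) : Bool :=
  ks.all fun k => (List.range 2).all fun a => (List.range 11).all fun j =>
    decide (k = 1 ∧ ri = 0 ∧ a = 0 ∧ j = 0) || sameC (candWord g (repWords.getD ri []) a j) [] ||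
      rels.any fun r => relFails k (candWord g (repWords.getD ri []) a j) r

/-- the letters of the relations are allowed -/
def lettersOK (fixd : List ℕ) (rels : List (List ℕ × ℕ)) : Bool :=
  rels.all fun r => r.1.all fun l => l == 0 || l == 7 || fixd.contains l

theorem map_subst (ψ : MulAut Spor.Co1) {k g : ℕ} {c : List ℕ} {fixd : List ℕ}
    (hx : ψ (qC (genC 0)) = qC (genC 0) ^ k) (hg : ψ (qC (genC g)) = qC (evalC c))
    (hfix : ∀ l ∈ fixd, ψ (qC (genC l)) = qC (genC l)) :
    ∀ p : List ℕ, (∀ l ∈ p, l = 0 ∨ l = 7 ∨ l ∈ fixd) →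
      ψ (qC (evalC (substW 1 [g] p))) = qC (evalC (substW k c p)) := by
  intro p
  induction p with
  | nil => intro _; simp [substW, evalC]
  | cons l p ih =>
    intro hl
    have ih' := ih fun m hm => hl m (List.mem_cons_of_mem _ hm)
    by_cases h0 : l = 0
    · subst h0
      simp only [substW]
      rw [evalC_append, evalC_append, evalC_replicate, evalC_replicate, pow_one, map_mul, map_mul,
        map_mul, ih', hx, map_pow]
    · by_cases h7 : l = 7
      · subst h7
        simp only [substW]
        rw [evalC_append, evalC_append, map_mul, map_mul, map_mul, ih',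
          show evalC [g] = genC g by simp [evalC], hg]
      · have hf : l ∈ fixd := ((hl l List.mem_cons_self).resolve_left h0).resolve_left h7
        rw [show substW 1 [g] (l :: p) = l :: substW 1 [g] p from by simp [substW, h0, h7],
          show substW k c (l :: p) = l :: substW k c p from by simp [substW, h0, h7],
          evalC_cons, evalC_cons, map_mul, map_mul, map_mul, ih', hfix l hf]

/-- the image of `g` is forced -/
theorem stage_spec (ψ : MulAut Spor.Co1) {g : ℕ} {ks fixd : List ℕ} {rels : List (List ℕ × ℕ)}
    (hh : relsHold g rels = true) (hl : lettersOK fixd rels = true)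
    (ht : (List.range 3).all (stageTest g ks rels) = true)
    {k ri a j : ℕ} (hk : k ∈ ks) (hri : ri < 3) (ha : a < 2) (hj : j < 11)
    (hx : ψ (qC (genC 0)) = qC (genC 0) ^ k)
    (hg : ψ (qC (genC g)) = qC (evalC (candWord g (repWords.getD ri []) a j)))
    (hfix : ∀ l ∈ fixd, ψ (qC (genC l)) = qC (genC l)) (hne : qC (genC g) ≠ 1) :
    k = 1 ∧ ψ (qC (genC g)) = qC (genC g) := by
  have h1 := List.all_eq_true.mp ht ri (List.mem_range.mpr hri)
  simp only [stageTest, List.all_eq_true, List.mem_range, Bool.or_eq_true, decide_eq_true_eq,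
    List.any_eq_true] at h1
  rcases h1 k hk a ha j hj with (⟨rfl, rfl, rfl, rfl⟩ | hs) | ⟨r, hr, hf⟩
  · refine ⟨rfl, ?_⟩
    rw [hg]
    simp [candWord, repWords, evalC]
  · exfalso
    refine hne (ψ.injective ?_)
    rw [map_one, hg, sameC_spec hs]
    simp [evalC]
  · exfalso
    generalize candWord g (repWords.getD ri []) a j = c at hf hg
    have hlet : ∀ l ∈ r.1, l = 0 ∨ l = 7 ∨ l ∈ fixd := fun l hm => by
      have := List.all_eq_true.mp (List.all_eq_true.mp hl r hr) l hm
      simp only [Bool.or_eq_true, beq_iff_eq, List.contains_iff_mem] at this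
      tauto
    have hone : qC (evalC (substW 1 [g] r.1) ^ r.2) = 1 := by
      have h2 := List.all_eq_true.mp hh r hr
      simp only [Bool.or_eq_true, List.all_eq_true, List.mem_finRange, forall_const, beq_iff_eq] at h2
      refine qC_eq_one.mpr ?_
      rcases h2 with h2 | h2
      · left
        refine eq_of_eights fun i => ?_
        rw [vecL_evalC_pow, vecL_eight, h2 i, one_smul, vecL_eight]
      · right
        refine eq_of_eights fun i => ?_
        rw [vecL_evalC_pow, vecL_eight, h2 i, negOne_smul, vecL_neg, vecL_eight]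
    have himg : qC (evalC (substW k c r.1) ^ r.2) = 1 := by
      rw [map_pow, ← map_subst ψ hx hg hfix r.1 hlet, ← map_pow, ← map_pow, hone, map_one]
    rcases qC_eq_one.mp himg with e | e
    · have a1 := vecL_evalC_pow (substW k c r.1) r.2 (eight (H90.pt 1))
      have a5 := vecL_evalC_pow (substW k c r.1) r.2 (eight (H90.pt 5))
      rw [e, one_smul, vecL_eight] at a1 a5
      simp [relFails, ← a1, ← a5] at hf
    · have a1 := vecL_evalC_pow (substW k c r.1) r.2 (eight (H90.pt 1))
      have a5 := vecL_evalC_pow (substW k c r.1) r.2 (eight (H90.pt 5))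
      rw [e, negOne_smul, vecL_neg, vecL_eight] at a1 a5
      simp [relFails, ← a1, ← a5] at hf

end H95
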