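import Cfsg.Agent.H95.ModelFix
import Cfsg.Agent.H94.MathieuInst
import Cfsg.Agent.H90.Simple

/-!
The stabiliser of the standard cross as a group over `M24`, and its normal subgroups.
-/

set_option autoImplicit false

namespace H95

open Cfsg Finset

/-- `g` sends every `8 eᵢ` to `± 8 e_{σ i}` -/
def MonMap (g : Co0) (σ : Equiv.Perm GolayPt) : Prop :=
  ∀ i, ∃ s : ℤ, (s = 8 ∨ s = -8) ∧ ((g • eight i : leechLattice) : GolayPt → ℤ) = Pi.single (σ i) s

theorem monMap_mono (σ : Equiv.Perm GolayPt) (c : Finset GolayPt) (hσ : σ ∈ M24)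
    (hc : c ∈ supports (golayCode : Set (GolayPt → ZMod 2))) : MonMap (mono σ c hσ hc) σ := fun i =>
  ⟨if σ i ∈ c then -8 else 8, by split <;> omega, by
    rw [mono_smul]; exact signedPerm_single σ c i 8⟩

theorem MonMap.unique {g : Co0} {σ τ : Equiv.Perm GolayPt} (h : MonMap g σ) (h' : MonMap g τ) :
    σ = τ := by
  refine Equiv.ext fun i => ?_
  obtain ⟨s, hs, e⟩ := h i
  obtain ⟨t, ht, e'⟩ := h' i
  by_contra hne
  have e2 := congrFun (e.symm.trans e') (σ i)
  rw [Pi.single_eq_same, Pi.single_eq_of_ne hne] at e2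
  omega

theorem MonMap.exists_mono {g : Co0} {σ : Equiv.Perm GolayPt} (h : MonMap g σ) :
    ∃ (c : Finset GolayPt) (hσ : σ ∈ M24)
      (hc : c ∈ supports (golayCode : Set (GolayPt → ZMod 2))), g = mono σ c hσ hc := by
  obtain ⟨τ, c, hτ, hc, rfl⟩ := exists_mono_of_eight (g := g) fun i => by
    obtain ⟨s, hs, e⟩ := h i
    exact ⟨σ i, s, hs, e⟩
  obtain rfl := h.unique (monMap_mono τ c hτ hc)
  exact ⟨c, hτ, hc, rfl⟩

theorem eight_single {i : GolayPt} {s : ℤ} (hs : s = 8 ∨ s = -8) {v : leechLattice}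
    (hv : (v : GolayPt → ℤ) = Pi.single i s) : v = eight i ∨ v = -eight i := by
  rcases hs with rfl | rfl
  · exact Or.inl (Subtype.ext hv)
  · exact Or.inr (Subtype.ext (by rw [hv]; exact Pi.single_neg i 8))

theorem MonMap.one : MonMap 1 1 := fun i => ⟨8, Or.inl rfl, by rw [one_smul]; rfl⟩

theorem MonMap.mul {g h : Co0} {σ τ : Equiv.Perm GolayPt} (hg : MonMap g σ) (hh : MonMap h τ) :
    MonMap (g * h) (σ * τ) := by
  intro i
  obtain ⟨t, ht, e⟩ := hh i
  obtain ⟨s, hs, e'⟩ := hg (τ i)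
  rw [mul_smul, Equiv.Perm.mul_apply]
  rcases eight_single ht e with h1 | h1 <;> rw [h1]
  · exact ⟨s, hs, e'⟩
  · exact ⟨-s, by omega, by rw [co0_neg, AddSubgroup.coe_neg, e', Pi.single_neg]⟩

theorem MonMap.inv {g : Co0} {σ : Equiv.Perm GolayPt} (hg : MonMap g σ) : MonMap g⁻¹ σ⁻¹ := by
  intro i
  obtain ⟨s, hs, e⟩ := hg (σ⁻¹ i)
  rw [show σ (σ⁻¹ i) = i from Equiv.apply_symm_apply σ i] at e
  rcases eight_single hs e with h1 | h1
  · exact ⟨8, Or.inl rfl, by rw [← h1, inv_smul_smul]; rfl⟩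
  · refine ⟨-8, Or.inr rfl, ?_⟩
    rw [show eight i = -(g • eight (σ⁻¹ i)) by rw [h1, neg_neg], co0_neg, inv_smul_smul]
    exact (Pi.single_neg _ 8).symm

theorem MonMap.pow {g : Co0} {σ : Equiv.Perm GolayPt} (hg : MonMap g σ) :
    ∀ n : ℕ, MonMap (g ^ n) (σ ^ n)
  | 0 => by rw [pow_zero, pow_zero]; exact MonMap.one
  | n + 1 => by rw [pow_succ, pow_succ]; exact (MonMap.pow hg n).mul hg

/-- the stabiliser of the standard cross -/
def stdGrp : Subgroup Co0 where
  carrier := {g | ∃ σ, MonMap g σ}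
  one_mem' := ⟨1, MonMap.one⟩
  mul_mem' := fun ⟨σ, hσ⟩ ⟨τ, hτ⟩ => ⟨σ * τ, hσ.mul hτ⟩
  inv_mem' := fun ⟨σ, hσ⟩ => ⟨σ⁻¹, hσ.inv⟩

theorem fixesStd_iff {g : Co0} : FixesStd g ↔ g ∈ stdGrp := by
  constructor
  · intro h
    obtain ⟨σ, c, hσ, hc, rfl⟩ := exists_mono_of_fixesStd h
    exact ⟨σ, monMap_mono σ c hσ hc⟩
  · rintro ⟨σ, hσ⟩
    obtain ⟨c, h1, h2, rfl⟩ := hσ.exists_mono
    exact mono_fixesStd _ _ _ _

/-- translation in `Co0` -/
noncomputable def tauT : Co0 := permHom translOne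

theorem order_tauT : orderOf tauT = 23 := by
  rw [tauT, orderOf_injective _ permHom_injective]; exact order_translOne

theorem monMap_permHom (σ : M24) : MonMap (permHom σ) σ.1 := monMap_mono σ.1 ∅ σ.2 empty_supp

theorem monMap_tauT : MonMap tauT H90.genT := monMap_permHom translOne

theorem tauT_eight : tauT • eight none = eight none := by
  rw [tauT, permHom_eight]; rfl

/-- anything normalising the translations fixes the standard cross -/
theorem norm_tauT {g : Co0} (hg : g * tauT * g⁻¹ ∈ Subgroup.zpowers tauT) : g ∈ stdGrp := by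
  obtain ⟨k, hk⟩ := hg
  have hgx : (g * tauT * g⁻¹) • eight none = eight none := by
    have hk' : tauT ^ k = g * tauT * g⁻¹ := hk
    rw [← hk']
    exact (MulAction.stabilizer Co0 (eight none)).zpow_mem tauT_eight k
  have hu : permHom translOne • (g⁻¹ • eight none) = g⁻¹ • eight none := by
    simp only [mul_smul] at hgx
    exact eq_inv_smul_iff.mpr hgx
  set u := g⁻¹ • eight none with hu0
  have hc := const_of_transl hu
  have hn : ldot u u = 64 := by rw [hu0, co0_dot, eight_norm]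
  rw [norm_const rfl hc] at hn
  set α := (u : GolayPt → ℤ) none with hα
  set β := (u : GolayPt → ℤ) (some 0) with hβ
  have hb1 : β ^ 2 ≤ 2 := by nlinarith [sq_nonneg α]
  have hb : -1 ≤ β ∧ β ≤ 1 := ⟨by nlinarith, by nlinarith⟩
  have h8 : -8 ≤ α ∧ α ≤ 8 := ⟨by nlinarith [sq_nonneg β], by nlinarith [sq_nonneg β]⟩
  have hβ0 : β = 0 := by
    by_contra hne
    have h2 : α ^ 2 = 41 := by
      rcases (show β = 1 ∨ β = -1 by omega) with e | e <;> rw [e] at hn <;> linarith
    obtain ⟨h3, h4⟩ := h8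
    interval_cases α <;> omega
  rw [hβ0] at hn
  have hα8 : α = 8 ∨ α = -8 := by
    rcases mul_self_eq_mul_self_iff.mp (show α * α = 8 * 8 by linarith) with h | h
    · exact Or.inl h
    · exact Or.inr h
  have hus : (u : GolayPt → ℤ) = Pi.single none α := by
    funext i
    rcases i with _ | x
    · rw [Pi.single_eq_same]
    · rw [Pi.single_eq_of_ne (by simp), hc x, hβ0]
  rcases eight_single hα8 hus with h | h
  · refine fixesStd_iff.mp (fixesStd_of_eight ?_)
    conv_lhs => rw [← h, hu0]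
    exact smul_inv_smul _ _
  · have h2 : (negOne * g) • eight none = eight none := by
      have h1 : g • u = eight none := smul_inv_smul _ _
      rw [h, co0_neg] at h1
      rw [mul_smul, negOne_smul, h1]
    have hneg : negOne ∈ stdGrp := ⟨1, fun i => ⟨-8, Or.inr rfl, by
      rw [negOne_smul]; exact (Pi.single_neg i 8).symm⟩⟩
    have h3 := fixesStd_iff.mp (fixesStd_of_eight h2)
    simpa using stdGrp.mul_mem (stdGrp.inv_mem hneg) h3

/-- the permutations of `N ∩ stdGrp` -/
def permPart (N : Subgroup Co0) : Subgroup M24 where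
  carrier := {σ | ∃ g ∈ N, MonMap g σ.1}
  one_mem' := ⟨1, N.one_mem, MonMap.one⟩
  mul_mem' := fun ⟨g, hg, e⟩ ⟨h, hh, e'⟩ => ⟨g * h, N.mul_mem hg hh, e.mul e'⟩
  inv_mem' := fun ⟨g, hg, e⟩ => ⟨g⁻¹, N.inv_mem hg, e.inv⟩

theorem permPart_normal {N : Subgroup Co0} (hN : N.Normal) : (permPart N).Normal where
  conj_mem := by
    rintro σ ⟨g, hg, e⟩ τ
    exact ⟨_, hN.conj_mem g hg (permHom τ),
      ((monMap_permHom τ).mul e).mul (monMap_permHom τ).inv⟩

theorem code_supp (d : golayCode) :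
    support₂ d.1 ∈ supports (golayCode : Set (GolayPt → ZMod 2)) := ⟨d.1, d.2, rfl⟩

/-- the sign change on the code word `d` -/
noncomputable def signEl (d : golayCode) : Co0 := mono 1 (support₂ d.1) (one_mem _) (code_supp d)

theorem signEl_coord (d : golayCode) (v : leechLattice) (i : GolayPt) :
    ((signEl d • v : leechLattice) : GolayPt → ℤ) i =
      if d.1 i ≠ 0 then -(v : GolayPt → ℤ) i else (v : GolayPt → ℤ) i := by
  rw [signEl, mono_smul]
  simp [signedPerm, support₂, Equiv.Perm.one_def]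

theorem signEl_add (d e : golayCode) : signEl (d + e) = signEl d * signEl e := by
  refine co0_ext fun v => Subtype.ext (funext fun i => ?_)
  rw [mul_smul, signEl_coord, signEl_coord, signEl_coord, Submodule.coe_add, Pi.add_apply]
  rcases zmod2_cases (d.1 i) with h | h <;> rcases zmod2_cases (e.1 i) with h' | h' <;>
    simp [h, h', show (1 : ZMod 2) + 1 = 0 from rfl]

theorem signEl_conj (σ : M24) (d : golayCode) :
    permHom σ * signEl d * (permHom σ)⁻¹
      = signEl ⟨fun i => d.1 (σ.1.symm i), perm_symm_mem_code σ.2 d.2⟩ := by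
  rw [mul_inv_eq_iff_eq_mul]
  refine co0_ext fun v => Subtype.ext (funext fun i => ?_)
  rw [mul_smul, mul_smul, permHom_apply, signEl_coord, signEl_coord, permHom_apply]

theorem signEl_sq (d : golayCode) : signEl d * signEl d = 1 := by
  refine co0_ext fun v => Subtype.ext (funext fun i => ?_)
  rw [mul_smul, signEl_coord, signEl_coord, one_smul]
  split <;> simp

theorem mono_eq_sign_mul {σ : Equiv.Perm GolayPt} {c : Finset GolayPt} (hσ : σ ∈ M24)
    (hc : c ∈ supports (golayCode : Set (GolayPt → ZMod 2))) :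
    ∃ d : golayCode, mono σ c hσ hc = signEl d * permHom ⟨σ, hσ⟩ := by
  obtain ⟨w, hw, hwc⟩ := id hc
  refine ⟨⟨w, hw⟩, co0_ext fun v => Subtype.ext (funext fun i => ?_)⟩
  subst hwc
  rw [mul_smul, signEl_coord, permHom_apply, mono_smul]
  simp [signedPerm, support₂]

/-- a normal subgroup containing a translation contains the whole stabiliser of the cross -/
theorem std_le_of_tau {N : Subgroup Co0} (hN : N.Normal) (hτ : tauT ∈ N) : stdGrp ≤ N := by
  have hperm : ∀ σ : M24, permHom σ ∈ N := by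
    let P : Subgroup M24 := N.comap permHom
    have hP : P.Normal := hN.comap permHom
    haveI := H90.M24_simple
    rcases hP.eq_bot_or_eq_top with h | h
    · exfalso
      have hm : translOne ∈ P := hτ
      rw [h, Subgroup.mem_bot] at hm
      exact genT_moves (congrArg (fun σ : M24 => σ.1 (some 0)) hm)
    · exact fun σ => (h ▸ Subgroup.mem_top σ : σ ∈ P)
  let W : Submodule (ZMod 2) (GolayPt → ZMod 2) :=
    { carrier := {w | ∃ h : w ∈ golayCode, signEl ⟨w, h⟩ ∈ N}
      add_mem' := fun {a b} ⟨ha, ha'⟩ ⟨hb, hb'⟩ =>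
        ⟨add_mem ha hb, by
          have := N.mul_mem ha' hb'
          rwa [← signEl_add] at this⟩
      zero_mem' := ⟨zero_mem _, by
        have h0 : signEl ⟨0, zero_mem _⟩ = 1 := co0_ext fun v => Subtype.ext (funext fun i => by
          rw [signEl_coord, one_smul]; simp)
        rw [h0]; exact N.one_mem⟩
      smul_mem' := fun t a ⟨ha, ha'⟩ => by
        rcases zmod2_cases t with rfl | rfl
        · rw [zero_smul]
          exact ⟨zero_mem _, by
            have h0 : signEl ⟨0, zero_mem _⟩ = 1 := co0_ext fun v => Subtype.ext (funext fun i => by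
              rw [signEl_coord, one_smul]; simp)
            rw [h0]; exact N.one_mem⟩
        · rw [one_smul]; exact ⟨ha, ha'⟩ }
  have hW : ∀ σ ∈ M24, ∀ w ∈ W, H94.moveWord σ w ∈ W := by
    rintro σ hσ w ⟨hw, hw'⟩
    refine ⟨perm_symm_mem_code hσ hw, ?_⟩
    have := hN.conj_mem _ hw' (permHom ⟨σ, hσ⟩)
    rwa [signEl_conj] at this
  obtain ⟨d, hd, hdT⟩ := exists_code_small ({some 0, some 1, some 2} : Finset GolayPt)
    (le_trans Finset.card_le_three (by norm_num)) (Pi.single (some 0) 1)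
  set d' : GolayPt → ZMod 2 := fun i => d (H90.genT.symm i)
  have hd' : d' ∈ golayCode := perm_symm_mem_code H90.genT_mem hd
  have hcomm : d + d' ∈ W := by
    refine ⟨add_mem hd hd', ?_⟩
    have h1 : signEl ⟨d, hd⟩ * tauT * (signEl ⟨d, hd⟩)⁻¹ * tauT⁻¹ ∈ N :=
      N.mul_mem (hN.conj_mem _ hτ _) (N.inv_mem hτ)
    have h2 : signEl ⟨d, hd⟩ * tauT * (signEl ⟨d, hd⟩)⁻¹ * tauT⁻¹
        = signEl (⟨d, hd⟩ + ⟨d', hd'⟩) := by
      rw [signEl_add, inv_eq_of_mul_eq_one_right (signEl_sq _), mul_assoc, mul_assoc]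
      congr 1
      rw [← mul_assoc]
      exact signEl_conj translOne ⟨d, hd⟩
    rw [h2] at h1
    exact h1
  have hs1 : H90.genT.symm (some 1) = some 0 := by rw [Equiv.symm_apply_eq]; rfl
  have hs2 : H90.genT.symm (some 2) = some 1 := by rw [Equiv.symm_apply_eq]; rfl
  have v0 : d (some 0) = 1 := by rw [hdT _ (by simp)]; simp
  have v1 : d (some 1) = 0 := by
    rw [hdT _ (by simp)]
    exact Pi.single_eq_of_ne (show (some 1 : GolayPt) ≠ some 0 by decide) _
  have v2 : d (some 2) = 0 := by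
    rw [hdT _ (by simp)]
    exact Pi.single_eq_of_ne (show (some 2 : GolayPt) ≠ some 0 by decide) _
  have e1 : (d + d') (some 1) = 1 := by
    show d (some 1) + d (H90.genT.symm (some 1)) = 1
    rw [hs1, v0, v1, zero_add]
  have e2 : (d + d') (some 2) = 0 := by
    show d (some 2) + d (H90.genT.symm (some 2)) = 0
    rw [hs2, v1, v2, zero_add]
  have hle : golayCode ≤ W := H94.golay_mathieu.code_le W hW (add_mem hd hd') hcomm
    (fun h => by rw [h] at e1; exact absurd e1 (by decide))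
    (fun h => by rw [h] at e2; exact absurd e2 (by decide))
  rintro g ⟨σ, hg⟩
  obtain ⟨c, hσ, hc, rfl⟩ := hg.exists_mono
  obtain ⟨e, he⟩ := mono_eq_sign_mul hσ hc
  rw [he]
  exact N.mul_mem (hle e.2).2 (hperm _)

end H95
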