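import Cfsg.Agent.H95.Co3Simple
import Cfsg.Agent.S0371

/-!
The two point stabiliser of `M24` inside the stabilisers of `leechV` and a second vector.
-/

set_option autoImplicit false

namespace H95

open Cfsg Finset

/-- two, a unit mod 23 -/
def twoUnit : (ZMod 23)ˣ := ⟨2, 12, by decide, by decide⟩

theorem twoUnit_square : IsSquare twoUnit :=
  ⟨⟨5, 14, by decide, by decide⟩, Units.ext (by decide)⟩

/-- multiplication by two -/
def dblPerm : M24 := ⟨Equiv.optionCongr (Units.mulLeft twoUnit), Cfsg.Agent.S0371.result _ twoUnit_square⟩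

theorem dblPerm_none : dblPerm.1 none = none := rfl
theorem dblPerm_some (x : ZMod 23) : dblPerm.1 (some x) = some (2 * x) := rfl

theorem dbl_moves : dblPerm.1 (some 1) ≠ some 1 := by
  rw [dblPerm_some]; decide

theorem order_dblPerm : orderOf dblPerm = 11 := by
  haveI : Fact (Nat.Prime 11) := ⟨by norm_num⟩
  refine orderOf_eq_prime (Subtype.ext (Equiv.ext fun p => ?_)) (fun h => dbl_moves (by rw [h]; rfl))
  have key : ∀ n : ℕ, ∀ x : ZMod 23, (dblPerm.1 ^ n) (some x) = some (2 ^ n * x) := by
    intro n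
    induction n with
    | zero => intro x; simp
    | succ n ih => intro x; rw [pow_succ, Equiv.Perm.mul_apply, dblPerm_some, ih, pow_succ, mul_assoc]
  rw [SubmonoidClass.coe_pow]
  rcases p with _ | x
  · show (dblPerm.1 ^ 11) none = none
    exact Equiv.Perm.pow_apply_eq_self_of_apply_eq_self rfl 11
  · show (dblPerm.1 ^ 11) (some x) = some x
    rw [key, show (2 : ZMod 23) ^ 11 = 1 by decide, one_mul]

/-- the points `0`, `2 ^ k`, `-2 ^ k` -/
def cosetMap : Unit ⊕ Fin 11 ⊕ Fin 11 → ZMod 23
  | Sum.inl _ => 0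
  | Sum.inr (Sum.inl k) => 2 ^ k.val
  | Sum.inr (Sum.inr k) => -2 ^ k.val

theorem cosetMap_bij : Function.Bijective cosetMap :=
  (Fintype.bijective_iff_injective_and_card _).mpr ⟨by decide +kernel, by simp⟩

/-- a vector fixed by doubling takes three values off the extra point -/
theorem sum_dbl {u : leechLattice} (h : permHom dblPerm • u = u) (f : ℤ → GolayPt → ℤ) :
    ∑ x : ZMod 23, f ((u : GolayPt → ℤ) (some x)) (some x)
      = f ((u : GolayPt → ℤ) (some 0)) (some 0)
        + (∑ k : Fin 11, f ((u : GolayPt → ℤ) (some 1)) (some (2 ^ k.val))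
          + ∑ k : Fin 11, f ((u : GolayPt → ℤ) (some (-1))) (some (-2 ^ k.val))) := by
  have hstep : ∀ y : ZMod 23, (u : GolayPt → ℤ) (some (2 * y)) = (u : GolayPt → ℤ) (some y) := by
    intro y
    have e := congrArg (fun v : leechLattice => (v : GolayPt → ℤ) (some (2 * y))) h
    simp only [permHom_apply] at e
    rw [← e, show dblPerm.1.symm (some (2 * y)) = some y by rw [Equiv.symm_apply_eq, dblPerm_some]]
  have hp : ∀ k : ℕ, ∀ y : ZMod 23,
      (u : GolayPt → ℤ) (some (2 ^ k * y)) = (u : GolayPt → ℤ) (some y) := by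
    intro k
    induction k with
    | zero => intro y; simp
    | succ k ih => intro y; rw [pow_succ', mul_assoc, hstep, ih]
  rw [← Equiv.sum_comp (Equiv.ofBijective cosetMap cosetMap_bij), Fintype.sum_sum_type,
    Fintype.sum_sum_type]
  simp only [Equiv.ofBijective_apply, cosetMap, Fintype.sum_unique]
  congr 2
  · exact sum_congr rfl fun k _ => by rw [← hp k.val 1, mul_one]
  · exact sum_congr rfl fun k _ => by rw [← hp k.val (-1), mul_neg, mul_one]

/-- a minimal model vector `4 e ± 4 e₀` -/
structure PairVec where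
  w : leechLattice
  e : ℤ
  he : e = 1 ∨ e = -1
  h0 : (w : GolayPt → ℤ) none = 4
  h1 : (w : GolayPt → ℤ) (some 0) = 4 * e
  h2 : ∀ x : ZMod 23, x ≠ 0 → (w : GolayPt → ℤ) (some x) = 0

/-- McLaughlin's vector -/
def pvU : PairVec := ⟨Spor.leechU, 1, Or.inl rfl, rfl, rfl, fun x hx => by
  show (if (some x : GolayPt) = none ∨ (some x : GolayPt) = some 0 then (4 : ℤ) else 0) = 0
  rw [if_neg (by simp [hx])]⟩

/-- Higman and Sims' vector -/
def pvU' : PairVec := ⟨Spor.leechU', -1, Or.inr rfl, rfl, rfl, fun x hx => by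
  show (if (some x : GolayPt) = none then (4 : ℤ) else if (some x : GolayPt) = some 0 then -4 else 0) = 0
  rw [if_neg (by simp), if_neg (by simp [hx])]⟩

theorem PairVec.dot (P : PairVec) (u : leechLattice) :
    ldot u P.w = 4 * (u : GolayPt → ℤ) none + 4 * P.e * (u : GolayPt → ℤ) (some 0) := by
  show dotInt _ _ = _
  unfold dotInt
  rw [sum_option, P.h0, Finset.sum_eq_single (0 : ZMod 23)]
  · rw [P.h1]; ring
  · intro x _ hx; rw [P.h2 x hx, mul_zero]
  · simp

theorem PairVec.norm (P : PairVec) : ldot P.w P.w = 32 := by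
  rw [P.dot, P.h0, P.h1]
  rcases P.he with h | h <;> rw [h] <;> norm_num

theorem PairVec.dotV (P : PairVec) : ldot Spor.leechV P.w = -20 - 4 * P.e := by
  rw [P.dot, leechV_none, leechV_some]; ring

/-- the only doubling invariant vector with the norm and products of `8e` -/
theorem PairVec.eq_eight (P : PairVec) {u : leechLattice} (hu : permHom dblPerm • u = u)
    (hn : ldot u u = 64) (hV : ldot u Spor.leechV = -40) (hw : ldot u P.w = 32) : u = eight none := by
  set a := (u : GolayPt → ℤ) none with ha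
  set b := (u : GolayPt → ℤ) (some 0) with hb
  set c := (u : GolayPt → ℤ) (some 1) with hc
  set d := (u : GolayPt → ℤ) (some (-1)) with hd
  have hn' : a ^ 2 + (b ^ 2 + (11 * c ^ 2 + 11 * d ^ 2)) = 64 := by
    rw [← sqNorm_eq_ldot] at hn
    unfold sqNorm at hn
    rw [sum_option, sum_dbl hu (fun t _ => t ^ 2), ← ha] at hn
    simp only [← hb, ← hc, ← hd, sum_const, card_univ, Fintype.card_fin, nsmul_eq_mul] at hn
    push_cast at hn
    linarith
  have hV' : -5 * a + (-b + (-(11 * c) + -(11 * d))) = -40 := by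
    rw [dot_const leechV_none leechV_some, sum_dbl hu (fun t _ => t), ← ha] at hV
    simp only [← hb, ← hc, ← hd, sum_const, card_univ, Fintype.card_fin, nsmul_eq_mul] at hV
    push_cast at hV
    linarith
  rw [P.dot, ← ha, ← hb] at hw
  have hsq : a ^ 2 ≤ 64 ∧ b ^ 2 ≤ 64 := ⟨by nlinarith, by nlinarith⟩
  have ha2 : a = 8 ∧ b = 0 := by
    have h8 : -8 ≤ a ∧ a ≤ 8 := ⟨by nlinarith [hsq.1], by nlinarith [hsq.1]⟩
    have h8' : -8 ≤ b ∧ b ≤ 8 := ⟨by nlinarith [hsq.2], by nlinarith [hsq.2]⟩
    rcases P.he with h | h <;> rw [h] at hw <;> omega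
  rw [ha2.1, ha2.2] at hn'
  have hc0 : c = 0 := by nlinarith [sq_nonneg d, sq_nonneg c]
  have hd0 : d = 0 := by nlinarith [sq_nonneg d, sq_nonneg c]
  have hz : ∑ x : ZMod 23, ((u : GolayPt → ℤ) (some x)) ^ 2 = 0 := by
    rw [sum_dbl hu (fun t _ => t ^ 2), ← hb, ← hc, ← hd, ha2.2, hc0, hd0]; simp
  refine Subtype.ext (funext fun i => ?_)
  rcases i with _ | x
  · show a = _; rw [ha2.1]; simp [eight]
  · have := (sum_eq_zero_iff_of_nonneg fun y _ => sq_nonneg _).mp hz x (mem_univ x)
    rw [pow_eq_zero_iff (by norm_num)] at this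
    rw [this]; simp [eight]

theorem PairVec.fix (P : PairVec) (σ : M24) (h : σ.1 none = none) (h' : σ.1 (some 0) = some 0) :
    permHom σ • P.w = P.w := by
  refine Subtype.ext (funext fun i => ?_)
  rw [permHom_apply]
  rcases i with _ | x
  · rw [show σ.1.symm none = none by rw [Equiv.symm_apply_eq, h]]
  · by_cases hx : x = 0
    · subst hx; rw [show σ.1.symm (some 0) = some 0 by rw [Equiv.symm_apply_eq, h']]
    · rcases hy : σ.1.symm (some x) with _ | y
      · rw [Equiv.symm_apply_eq, h] at hy; cases hy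
      · have hy0 : y ≠ 0 := fun e => by
          subst e; rw [Equiv.symm_apply_eq, h'] at hy; exact hx (Option.some.inj hy)
        rw [P.h2 x hx, P.h2 y hy0]

/-- the joint stabiliser -/
abbrev PairVec.group (P : PairVec) : Subgroup Co0 :=
  MulAction.stabilizer Co0 Spor.leechV ⊓ MulAction.stabilizer Co0 P.w

/-- the two point stabiliser of `M24` -/
abbrev m22Grp : Subgroup M24 :=
  MulAction.stabilizer M24 (none : GolayPt) ⊓ MulAction.stabilizer M24 (some 0 : GolayPt)

/-- the two point stabiliser of `M24` inside the joint stabiliser -/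
noncomputable def PairVec.hom (P : PairVec) : m22Grp →* P.group :=
  (permHom.comp m22Grp.subtype).codRestrict _
    fun σ => ⟨permHom_fix_const σ.1 σ.2.1 leechV_some, P.fix σ.1 σ.2.1 σ.2.2⟩

theorem PairVec.hom_injective (P : PairVec) : Function.Injective P.hom := fun _ _ h =>
  Subtype.ext (permHom_injective (congrArg Subtype.val h))

/-- doubling, in the two point stabiliser -/
def dblStab : m22Grp := ⟨dblPerm, rfl, rfl⟩

theorem PairVec.crit (P : PairVec) (hS : IsSimpleGroup m22Grp)
    (hsq : ¬ 11 ^ 2 ∣ Nat.card P.group) : ∃ D : CritData P.group 11, D.S = P.hom.range := by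
  refine ⟨⟨P.hom.range, ?_, P.hom dblStab, ⟨dblStab, rfl⟩, ?_, hsq, ?_⟩, rfl⟩
  · haveI := hS
    exact (MonoidHom.ofInjective P.hom_injective).symm.isSimpleGroup
  · rw [orderOf_injective P.hom P.hom_injective, ← Subgroup.orderOf_coe]; exact order_dblPerm
  · intro g hg
    have hfix : (P.hom dblStab).1 • eight none = eight none := by
      show permHom dblPerm • eight none = _
      rw [permHom_eight, dblPerm_none]
    obtain ⟨k, hk⟩ := hg
    have hgx : (g * P.hom dblStab * g⁻¹).1 • eight none = eight none := by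
      have hk' : P.hom dblStab ^ k = g * P.hom dblStab * g⁻¹ := hk
      rw [← hk', SubgroupClass.coe_zpow]
      exact (MulAction.stabilizer Co0 (eight none)).zpow_mem hfix k
    have hu : permHom dblPerm • ((g.1)⁻¹ • eight none) = (g.1)⁻¹ • eight none := by
      simp only [Subgroup.coe_mul, InvMemClass.coe_inv, mul_smul] at hgx
      exact (eq_inv_smul_iff.mpr hgx)
    have hdot : ∀ v, g.1 • v = v → ldot ((g.1)⁻¹ • eight none) v = ldot (eight none) v := by
      intro v hv
      calc ldot ((g.1)⁻¹ • eight none) v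
          = ldot ((g.1)⁻¹ • eight none) ((g.1)⁻¹ • v) := by rw [inv_smul_eq_iff.mpr hv.symm]
        _ = ldot (eight none) v := co0_dot _ _ _
    have he : (g.1)⁻¹ • eight none = eight none := by
      refine P.eq_eight hu ?_ ?_ ?_
      · rw [co0_dot, eight_norm]
      · rw [hdot _ g.2.1, ldot_comm, ldot_eight, leechV_none]; norm_num
      · rw [hdot _ g.2.2, ldot_comm, ldot_eight, P.h0]; norm_num
    have hge : g.1 • eight none = eight none := by
      conv_lhs => rw [← he]
      exact smul_inv_smul _ _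
    obtain ⟨σ, hσ, hgσ⟩ := mono_of_const hge leechV_some (by norm_num) g.2.1
    have h' : σ.1 (some 0) = some 0 := by
      have e := congrArg (fun v : leechLattice => (v : GolayPt → ℤ) (σ.1 (some 0))) g.2.2
      simp only [hgσ, permHom_apply, Equiv.symm_apply_apply, P.h1] at e
      rcases hy : σ.1 (some 0) with _ | y
      · exact absurd (σ.1.injective (hy.trans hσ.symm)) (by simp)
      · by_cases hy0 : y = 0
        · rw [hy0]
        · rw [hy, P.h2 y hy0] at e
          rcases P.he with h | h <;> rw [h] at e <;> norm_num at e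
    exact ⟨⟨σ, hσ, h'⟩, Subtype.ext hgσ.symm⟩

end H95
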