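import Cfsg.Agent.H96.LeechCheck
import Cfsg.Agent.H95.PairModel
import Cfsg.Agent.H90.NormCycle

/-!
Elements of the lattice group given by matrices, and computation on coordinate lists.
-/

set_option autoImplicit false

namespace H95

open Cfsg Finset

/-- the coordinates as a list -/
def vecL (y : GolayPt → ℤ) : List ℤ := List.ofFn fun i : Fin 24 => y (H90.pt i)

theorem vecL_injective : Function.Injective vecL := fun x y h => funext fun p => by
  have := congrFun (List.ofFn_injective h) (H90.idx p)
  simpa [H90.pt_idx] using this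

/-- inner product of lists -/
def dotL : List ℤ → List ℤ → ℤ
  | a :: as, b :: bs => a * b + dotL as bs
  | _, _ => 0

theorem dotL_ofFn : ∀ (n : ℕ) (row : List ℤ) (f : Fin n → ℤ),
    dotL row (List.ofFn f) = ∑ i : Fin n, row.getD i.val 0 * f i := by
  intro n
  induction n with
  | zero => intro row f; cases row <;> simp [dotL]
  | succ n ih =>
    intro row f
    rw [List.ofFn_succ, Fin.sum_univ_succ]
    cases row with
    | nil => simp [dotL]
    | cons a as => simp [dotL, ih]

/-- the entry of a list of rows -/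
def entryL (E : List (List ℤ)) (p q : GolayPt) : ℤ :=
  (E.getD (H90.idx p).val []).getD (H90.idx q).val 0

/-- eight times the image, one coordinate -/
def mulE (E : List (List ℤ)) (y : GolayPt → ℤ) (p : GolayPt) : ℤ :=
  dotL (E.getD (H90.idx p).val []) (vecL y)

theorem mulE_eq (E : List (List ℤ)) (y : GolayPt → ℤ) (p : GolayPt) :
    mulE E y p = ∑ q, entryL E p q * y q := by
  rw [mulE, vecL, dotL_ofFn, ← Equiv.sum_comp H90.ptEquiv (fun q => entryL E p q * y q)]
  refine sum_congr rfl fun i _ => ?_
  simp [entryL, H90.idx_pt]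

theorem mulE_add (E : List (List ℤ)) (x y : GolayPt → ℤ) (p : GolayPt) :
    mulE E (x + y) p = mulE E x p + mulE E y p := by
  simp only [mulE_eq, Pi.add_apply, mul_add, sum_add_distrib]

/-- the image of a list -/
def applyL (E : List (List ℤ)) (v : List ℤ) : List ℤ :=
  List.ofFn fun i : Fin 24 => dotL (E.getD i.val []) v / 8

/-- one generator is mapped into the lattice -/
def okE (E : List (List ℤ)) (y : GolayPt → ℤ) : Bool :=
  (List.finRange 24).all (fun i => decide (mulE E y (H90.pt i) % 8 = 0)) &&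
    H96.Check.checkB fun p => mulE E y p / 8

/-- the tests on a matrix -/
def matOK (E : List (List ℤ)) : Bool :=
  (List.finRange 24).all (fun i => okE E (Pi.single (H90.pt i) 4 - Pi.single none 4)) &&
  okE E (Pi.single none 8) &&
  H90.rows.all (fun r => okE E fun i => 2 * ((H90.wordOf r i).val : ℤ)) &&
  okE E oddVec

/-- vectors mapped well -/
def okSubE (E : List (List ℤ)) : AddSubgroup (GolayPt → ℤ) where
  carrier := {y | ∃ z ∈ leechLattice, ∀ p, mulE E y p = 8 * z p}
  zero_mem' := ⟨0, zero_mem _, fun p => by simp [mulE_eq]⟩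
  add_mem' := by
    rintro x y ⟨a, ha, ha'⟩ ⟨b, hb, hb'⟩
    exact ⟨a + b, add_mem ha hb, fun p => by rw [mulE_add, ha', hb', Pi.add_apply]; ring⟩
  neg_mem' := by
    rintro x ⟨a, ha, ha'⟩
    refine ⟨-a, neg_mem ha, fun p => ?_⟩
    have := ha' p
    simp only [mulE_eq, Pi.neg_apply, mul_neg, sum_neg_distrib] at this ⊢
    omega

theorem okE_spec {E : List (List ℤ)} {y : GolayPt → ℤ} (h : okE E y = true) : y ∈ okSubE E := by
  simp only [okE, Bool.and_eq_true] at h
  refine ⟨_, H96.Check.checkB_spec h.2, fun p => ?_⟩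
  have := List.all_eq_true.mp h.1 (H90.idx p) (List.mem_finRange _)
  rw [H90.pt_idx, decide_eq_true_eq] at this
  omega

/-- a checked matrix -/
structure MatData where
  E : List (List ℤ)
  gens : matOK E = true
  orth : ∀ a b : GolayPt, ∑ p, entryL E p a * entryL E p b = if a = b then 64 else 0

namespace MatData

variable (D : MatData)

theorem leech_ok : leechLattice ≤ okSubE D.E := by
  have h := D.gens
  simp only [matOK, Bool.and_eq_true] at h
  obtain ⟨⟨⟨h1, h2⟩, h3⟩, h4⟩ := h
  refine H96.Check.le_of_gens _ (fun j => okE_spec ?_) (okE_spec h2)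
    (fun r hr => okE_spec (List.all_eq_true.mp h3 r hr)) (okE_spec h4)
  have := List.all_eq_true.mp h1 (H90.idx j) (List.mem_finRange _)
  rwa [H90.pt_idx] at this

/-- the homomorphism -/
noncomputable def hom : leechLattice →+ leechLattice :=
  AddMonoidHom.mk' (fun y => ⟨fun p => mulE D.E (y : GolayPt → ℤ) p / 8, by
    obtain ⟨z, hz, e⟩ := D.leech_ok y.2
    rwa [show (fun p => mulE D.E (y : GolayPt → ℤ) p / 8) = z from funext fun p => by rw [e]; omega]⟩)
    fun x y => Subtype.ext (funext fun p => by
      obtain ⟨a, -, ea⟩ := D.leech_ok x.2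
      show mulE D.E ((x : GolayPt → ℤ) + y) p / 8
        = mulE D.E (x : GolayPt → ℤ) p / 8 + mulE D.E (y : GolayPt → ℤ) p / 8
      rw [mulE_add, ea, Int.add_ediv_of_dvd_left ⟨_, rfl⟩])

theorem hom_norm (y : leechLattice) : ldot (D.hom y) (D.hom y) = ldot y y := by
  obtain ⟨z, -, e⟩ := D.leech_ok y.2
  have e' : ((D.hom y : leechLattice) : GolayPt → ℤ) = z := funext fun p => by
    show mulE D.E (y : GolayPt → ℤ) p / 8 = z p
    rw [e]; omega
  show dotInt _ _ = dotInt _ _
  rw [e']
  have h64 : ∑ p, mulE D.E (y : GolayPt → ℤ) p * mulE D.E (y : GolayPt → ℤ) p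
      = 64 * dotInt (y : GolayPt → ℤ) (y : GolayPt → ℤ) := by
    calc ∑ p, mulE D.E (y : GolayPt → ℤ) p * mulE D.E (y : GolayPt → ℤ) p
        = ∑ a, ∑ b, (y : GolayPt → ℤ) a * (y : GolayPt → ℤ) b * ∑ p, entryL D.E p a * entryL D.E p b := by
          simp only [mulE_eq, sum_mul_sum]
          simp only [mul_sum]
          rw [sum_comm]
          refine sum_congr rfl fun a _ => ?_
          rw [sum_comm]
          exact sum_congr rfl fun b _ => sum_congr rfl fun p _ => by ring
      _ = _ := by
          simp only [D.orth, mul_ite, mul_zero, sum_ite_eq, mem_univ, if_true, dotInt, mul_sum]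
          exact sum_congr rfl fun a _ => by ring
  simp only [e] at h64
  have : ∑ p, 8 * z p * (8 * z p) = 64 * dotInt z z := by
    rw [dotInt, mul_sum]; exact sum_congr rfl fun p _ => by ring
  rw [this] at h64
  omega

/-- the element -/
noncomputable def elt : Co0 :=
  ⟨Equiv.ofBijective D.hom (leechLike.bijective_of_isometry D.hom D.hom_norm),
    fun v w => map_add D.hom v w, fun v => by
      rw [sqNorm_eq_ldot, sqNorm_eq_ldot]; exact D.hom_norm v⟩

theorem elt_apply (y : leechLattice) (p : GolayPt) :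
    ((D.elt • y : leechLattice) : GolayPt → ℤ) p = mulE D.E (y : GolayPt → ℤ) p / 8 := rfl

theorem vecL_elt (y : leechLattice) :
    vecL ((D.elt • y : leechLattice) : GolayPt → ℤ) = applyL D.E (vecL (y : GolayPt → ℤ)) := by
  unfold applyL
  conv_lhs => unfold vecL
  congr 1
  funext i
  rw [elt_apply, mulE, H90.idx_pt]

theorem vecL_pow (n : ℕ) (y : leechLattice) :
    vecL ((D.elt ^ n • y : leechLattice) : GolayPt → ℤ)
      = (applyL D.E)^[n] (vecL (y : GolayPt → ℤ)) := by
  induction n with
  | zero => simp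
  | succ n ih => rw [pow_succ', mul_smul, D.vecL_elt, ih, Function.iterate_succ_apply']

end MatData

theorem eq_of_vecL {v w : leechLattice}
    (h : vecL (v : GolayPt → ℤ) = vecL (w : GolayPt → ℤ)) : v = w :=
  Subtype.ext (vecL_injective h)

/-- translate a list -/
def shiftL (k : ℕ) (v : List ℤ) : List ℤ :=
  List.ofFn fun i : Fin 24 => v.getD (if i.val = 23 then 23 else (i.val + 23 - k % 23) % 23) 0

/-- multiply a list by a power of two -/
def scaleL (k : ℕ) (v : List ℤ) : List ℤ :=
  List.ofFn fun i : Fin 24 => v.getD (if i.val = 23 then 23 else i.val * 2 ^ (11 - k % 11) % 23) 0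

theorem vecL_getD (y : GolayPt → ℤ) {j : ℕ} (hj : j < 24) :
    (vecL y).getD j 0 = y (H90.pt ⟨j, hj⟩) := by
  rw [vecL, List.getD_eq_getElem _ _ (by simpa using hj), List.getElem_ofFn]

theorem pt_cases (i : Fin 24) :
    H90.pt i = if i.val = 23 then none else some ((i.val : ℕ) : ZMod 23) := by
  revert i; decide +kernel

theorem vecL_perm {σ : M24} {src : ℕ → ℕ} (hs : ∀ i < 24, src i < 24)
    (h : ∀ i : Fin 24, σ.1 (H90.pt ⟨src i.val, hs _ i.isLt⟩) = H90.pt i) (y : leechLattice) :
    vecL ((permHom σ • y : leechLattice) : GolayPt → ℤ)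
      = List.ofFn fun i : Fin 24 => (vecL (y : GolayPt → ℤ)).getD (src i.val) 0 := by
  conv_lhs => unfold vecL
  congr 1
  funext i
  rw [permHom_apply, vecL_getD _ (hs _ i.isLt)]
  exact congrArg _ ((σ.1.symm_apply_eq).mpr (h i).symm)

theorem translOne_pow_some (k : ℕ) (x : ZMod 23) :
    (translOne ^ k).1 (some x) = some (x + k) := H90.genT_pow_some k x

theorem translOne_pow_none (k : ℕ) : (translOne ^ k).1 none = none := by
  rw [SubmonoidClass.coe_pow]
  exact Equiv.Perm.pow_apply_eq_self_of_apply_eq_self rfl k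

theorem vecL_translate (k : ℕ) (y : leechLattice) :
    vecL ((permHom (translOne ^ k) • y : leechLattice) : GolayPt → ℤ)
      = shiftL k (vecL (y : GolayPt → ℤ)) := by
  refine vecL_perm (src := fun i => if i = 23 then 23 else (i + 23 - k % 23) % 23)
    (fun i _ => by split <;> omega) (fun i => ?_) y
  rw [pt_cases i, pt_cases]
  by_cases hi : i.val = 23
  · simp only [hi, if_true]; exact translOne_pow_none k
  · have hlt : (i.val + 23 - k % 23) % 23 ≠ 23 := by omega
    simp only [hi, if_false, hlt, translOne_pow_some]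
    congr 1
    rw [← Nat.cast_add, ZMod.natCast_eq_natCast_iff']
    omega

theorem dblPerm_pow_some (k : ℕ) (x : ZMod 23) : (dblPerm ^ k).1 (some x) = some (2 ^ k * x) := by
  induction k generalizing x with
  | zero => simp
  | succ k ih =>
    rw [pow_succ]
    show (dblPerm ^ k).1 (dblPerm.1 (some x)) = _
    rw [dblPerm_some, ih, pow_succ, mul_assoc]

theorem dblPerm_pow_none (k : ℕ) : (dblPerm ^ k).1 none = none := by
  rw [SubmonoidClass.coe_pow]
  exact Equiv.Perm.pow_apply_eq_self_of_apply_eq_self rfl k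

theorem vecL_double (k : ℕ) (y : leechLattice) :
    vecL ((permHom (dblPerm ^ k) • y : leechLattice) : GolayPt → ℤ)
      = scaleL k (vecL (y : GolayPt → ℤ)) := by
  refine vecL_perm (src := fun i => if i = 23 then 23 else i * 2 ^ (11 - k % 11) % 23)
    (fun i _ => by split <;> omega) (fun i => ?_) y
  rw [pt_cases i, pt_cases]
  by_cases hi : i.val = 23
  · simp only [hi, if_true]; exact dblPerm_pow_none k
  · have hlt : i.val * 2 ^ (11 - k % 11) % 23 ≠ 23 := by omega
    simp only [hi, if_false, hlt, dblPerm_pow_some, ZMod.natCast_mod, Nat.cast_mul, Nat.cast_pow]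
    congr 1
    have h11 : ((2 : ℕ) : ZMod 23) ^ 11 = 1 := by decide
    have e : ((2 : ℕ) : ZMod 23) ^ k = ((2 : ℕ) : ZMod 23) ^ (k % 11) := by
      conv_lhs => rw [← Nat.mod_add_div k 11, pow_add, pow_mul, h11, one_pow, mul_one]
    rw [show (2 : ZMod 23) ^ k = ((2 : ℕ) : ZMod 23) ^ k by norm_num, e, mul_left_comm, ← pow_add,
      Nat.add_sub_cancel' (Nat.le_of_lt (Nat.mod_lt k (by norm_num))), h11, mul_one]

theorem co0_eq_one_of_eights {g : Co0} (h : ∀ i, g • eight i = eight i) : g = 1 := by
  refine co0_ext fun v => ?_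
  rw [one_smul]
  refine Subtype.ext (funext fun i => ?_)
  have e : ldot (g • eight i) (g • v) = ldot (eight i) v := co0_dot _ _ _
  rw [h, ldot_comm, ldot_eight, ldot_comm, ldot_eight] at e
  omega

/-- the coordinates of `8 eᵢ` -/
def eightL (i : Fin 24) : List ℤ := List.ofFn fun j : Fin 24 => if j = i then 8 else 0

theorem vecL_eight (i : Fin 24) : vecL (eight (H90.pt i) : GolayPt → ℤ) = eightL i := by
  unfold vecL eightL
  congr 1
  funext j
  show (Pi.single (H90.pt i) 8 : GolayPt → ℤ) (H90.pt j) = _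
  rw [Pi.single_apply]
  simp only [H90.pt_injective.eq_iff]

theorem eq_one_of_lists {g : Co0}
    (h : ∀ i : Fin 24, vecL ((g • eight (H90.pt i) : leechLattice) : GolayPt → ℤ) = eightL i) :
    g = 1 := by
  refine co0_eq_one_of_eights fun p => ?_
  have := h (H90.idx p)
  rw [← vecL_eight, H90.pt_idx] at this
  exact eq_of_vecL this

end H95
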