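import Mathlib

/-!
A simplicity criterion: a finite group with a prime `p` dividing its order once and a simple
subgroup containing the normaliser of a subgroup of order `p`.
-/
set_option autoImplicit false

namespace H95

open scoped Pointwise

variable {G : Type*} [Group G]

/-- An element of prime order `r` normalising `Q` fixes as many points of it as its order, mod `r`. -/
theorem card_modEq_centralizer [Finite G] (Q : Subgroup G) (z : G) {r : ℕ} (hr : r.Prime)
    (hz : orderOf z = r) (hn : ∀ a ∈ Q, z * a * z⁻¹ ∈ Q) :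
    Nat.card Q ≡ Nat.card ↥(Q ⊓ Subgroup.centralizer {z}) [MOD r] := by
  haveI : Fact r.Prime := ⟨hr⟩
  have hpow : ∀ h ∈ Subgroup.zpowers z, ∀ a ∈ Q, h * a * h⁻¹ ∈ Q := by
    intro h hh a ha
    obtain ⟨n, rfl⟩ := (mem_powers_iff_mem_zpowers.mpr hh)
    induction n with
    | zero => simpa using ha
    | succ n ih =>
      have hm : z ^ n ∈ Subgroup.zpowers z := pow_mem (Subgroup.mem_zpowers z) n
      have := hn _ (ih hm)
      simpa [pow_succ', mul_assoc] using this
  letI act : MulAction (Subgroup.zpowers z) Q :=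
    { smul := fun h a => ⟨(h : G) * a * (h : G)⁻¹, hpow h h.2 a a.2⟩
      one_smul := fun a => Subtype.ext (by
        show ((1 : Subgroup.zpowers z) : G) * a * ((1 : Subgroup.zpowers z) : G)⁻¹ = a
        simp)
      mul_smul := fun h h' a => Subtype.ext (by
        show ((h * h' : Subgroup.zpowers z) : G) * a * ((h * h' : Subgroup.zpowers z) : G)⁻¹ =
          (h : G) * ((h' : G) * a * (h' : G)⁻¹) * (h : G)⁻¹
        simp [mul_assoc]) }
  let C : Subgroup G := Q ⊓ Subgroup.centralizer {z}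
  have hP : IsPGroup r (Subgroup.zpowers z) := by
    refine IsPGroup.of_card (n := 1) ?_
    rw [Nat.card_zpowers, hz, pow_one]
  have hfix : MulAction.fixedPoints (Subgroup.zpowers z) Q ≃ C :=
    { toFun := fun a => ⟨a.1.1, a.1.2, by
        show a.1.1 ∈ Subgroup.centralizer {z}
        rw [Subgroup.mem_centralizer_singleton_iff]
        have := a.2 ⟨z, Subgroup.mem_zpowers z⟩
        have h' : z * a.1.1 * z⁻¹ = a.1.1 := congrArg Subtype.val this
        exact (mul_inv_eq_iff_eq_mul.mp h').symm⟩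
      invFun := fun a => ⟨⟨a.1, a.2.1⟩, by
        intro h
        apply Subtype.ext
        show (h : G) * a.1 * (h : G)⁻¹ = a.1
        have hc : Commute a.1 z := Subgroup.mem_centralizer_singleton_iff.mp a.2.2
        obtain ⟨n, hn⟩ := h.2
        have hn' : z ^ n = (h : G) := hn
        rw [mul_inv_eq_iff_eq_mul, ← hn']
        exact (hc.zpow_right n).symm.eq⟩
      left_inv := fun a => rfl
      right_inv := fun a => rfl }
  have hmod := hP.card_modEq_card_fixedPoints Q
  rw [Nat.card_congr hfix] at hmod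
  exact hmod

/-- An element of prime order `r` normalising a `q`-subgroup `Q` centralises it as soon as
`q ^ j` is not `1` modulo `r` for the exponents that can occur. -/
theorem centralizes_of_coprime [Finite G] (Q : Subgroup G) (z : G) {r q k : ℕ} (hr : r.Prime)
    (hq : q.Prime) (hrq : r ≠ q) (hz : orderOf z = r) (hQ : Nat.card Q = q ^ k)
    (hn : ∀ a ∈ Q, z * a * z⁻¹ ∈ Q) (hj : ∀ j, 1 ≤ j → j ≤ k → q ^ j % r ≠ 1) :
    ∀ a ∈ Q, z * a = a * z := by
  let C : Subgroup G := Q ⊓ Subgroup.centralizer {z}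
  have hmod : Nat.card Q ≡ Nat.card C [MOD r] := card_modEq_centralizer Q z hr hz hn
  obtain ⟨i, hik, hC⟩ : ∃ i ≤ k, Nat.card C = q ^ i := by
    have hd : Nat.card C ∣ q ^ k := hQ ▸ Subgroup.card_dvd_of_le inf_le_left
    exact (Nat.dvd_prime_pow hq).mp hd
  rw [hQ, hC] at hmod
  by_cases hi : i = k
  · intro a ha
    have hCQ : C = Q := Subgroup.eq_of_le_of_card_ge inf_le_left (by rw [hC, hQ, hi])
    have : a ∈ C := hCQ.symm ▸ ha
    exact (Subgroup.mem_centralizer_singleton_iff.mp this.2).symm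
  · exfalso
    obtain ⟨d, rfl⟩ := Nat.exists_eq_add_of_le hik
    have hd : 1 ≤ d := by omega
    have hcop : Nat.gcd r (q ^ i) = 1 :=
      Nat.Coprime.pow_right i ((Nat.coprime_primes hr hq).mpr hrq)
    have h1 : q ^ d ≡ 1 [MOD r] := by
      refine Nat.ModEq.cancel_left_of_coprime hcop ?_
      rw [← pow_add, mul_one]
      exact hmod
    exact hj d hd (by omega) (Eq.trans h1 (Nat.mod_eq_of_lt hr.one_lt))

/-- The subgroups of order `p` are conjugate when `p ^ 2` does not divide the order. -/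
theorem exists_conj_zpowers [Finite G] {p : ℕ} [hp : Fact p.Prime] (hp2 : ¬ p ^ 2 ∣ Nat.card G)
    {x y : G} (hx : orderOf x = p) (hy : orderOf y = p) :
    ∃ g : G, g * x * g⁻¹ ∈ Subgroup.zpowers y := by
  have hfac : (Nat.card G).factorization p = 1 := by
    have h1 : p ∣ Nat.card G := hx ▸ orderOf_dvd_natCard x
    have hn : Nat.card G ≠ 0 := Nat.card_pos.ne'
    have ha : 1 ≤ (Nat.card G).factorization p :=
      hp.out.pow_dvd_iff_le_factorization hn |>.mp (by simpa using h1)
    have hb : ¬ 2 ≤ (Nat.card G).factorization p := fun h =>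
      hp2 ((hp.out.pow_dvd_iff_le_factorization hn).mpr h)
    omega
  let P : Sylow p G := Sylow.ofCard (Subgroup.zpowers x) (by rw [Nat.card_zpowers, hx, hfac, pow_one])
  let Q : Sylow p G := Sylow.ofCard (Subgroup.zpowers y) (by rw [Nat.card_zpowers, hy, hfac, pow_one])
  obtain ⟨g, hg⟩ := MulAction.exists_smul_eq G P Q
  refine ⟨g, ?_⟩
  have hQ : (Q : Subgroup G) = Subgroup.zpowers y := Sylow.coe_ofCard _ _
  rw [← hQ, ← hg]
  show MulAut.conj g x ∈ MulAut.conj g • (P : Subgroup G)
  exact Subgroup.smul_mem_pointwise_smul x _ _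
    (show x ∈ (P : Subgroup G) by
      rw [show (P : Subgroup G) = Subgroup.zpowers x from Sylow.coe_ofCard _ _]
      exact Subgroup.mem_zpowers x)

/-- Data for the criterion: the subgroup, the element of order `p`. -/
structure CritData (G : Type*) [Group G] (p : ℕ) where
  S : Subgroup G
  simple : IsSimpleGroup S
  x : G
  memS : x ∈ S
  order : orderOf x = p
  sq : ¬ p ^ 2 ∣ Nat.card G
  norm : ∀ g : G, g * x * g⁻¹ ∈ Subgroup.zpowers x → g ∈ S

/-- A normal subgroup of order divisible by `p` is everything. -/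
theorem CritData.eq_top [Finite G] {p : ℕ} [hp : Fact p.Prime] (D : CritData G p) (N : Subgroup G)
    [hN : N.Normal] (hd : p ∣ Nat.card N) : N = ⊤ := by
  obtain ⟨y, hy⟩ := exists_prime_orderOf_dvd_card' (G := N) p hd
  rw [← Subgroup.orderOf_coe] at hy
  obtain ⟨g, hg⟩ := exists_conj_zpowers D.sq D.order hy
  have hxN : D.x ∈ N := by
    have h1 : g * D.x * g⁻¹ ∈ N := (Subgroup.zpowers_le.mpr y.2) hg
    have := hN.conj_mem _ h1 g⁻¹
    simpa [mul_assoc] using this
  have hfac : (Nat.card N).factorization p = 1 := by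
    have hn : Nat.card N ≠ 0 := Nat.card_pos.ne'
    have ha : 1 ≤ (Nat.card N).factorization p :=
      hp.out.pow_dvd_iff_le_factorization hn |>.mp (by simpa using hd)
    have hb : ¬ 2 ≤ (Nat.card N).factorization p := fun h =>
      D.sq (((hp.out.pow_dvd_iff_le_factorization hn).mpr h).trans (Subgroup.card_subgroup_dvd_card N))
    omega
  let P : Sylow p N := Sylow.ofCard ((Subgroup.zpowers D.x).subgroupOf N) (by
    rw [Nat.card_congr (Subgroup.subgroupOfEquivOfLe (Subgroup.zpowers_le.mpr hxN)).toEquiv,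
      Nat.card_zpowers, D.order, hfac, pow_one])
  have hmap : (P : Subgroup N).map N.subtype = Subgroup.zpowers D.x := by
    rw [Sylow.coe_ofCard, Subgroup.map_subgroupOf_eq_of_le (Subgroup.zpowers_le.mpr hxN)]
  have hfr := P.normalizer_sup_eq_top
  rw [hmap] at hfr
  haveI := D.simple
  have hn' : (N.subgroupOf D.S).Normal := inferInstance
  rcases hn'.eq_bot_or_eq_top with h | h
  · exfalso
    have hx1 : (⟨D.x, D.memS⟩ : D.S) ∈ N.subgroupOf D.S := hxN
    rw [h, Subgroup.mem_bot] at hx1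
    have := congrArg Subtype.val hx1
    have h1 := D.order
    rw [show D.x = 1 from this, orderOf_one] at h1
    exact hp.out.one_lt.ne h1
  · have hSN : D.S ≤ N := Subgroup.subgroupOf_eq_top.mp h
    have hle : Subgroup.normalizer (Subgroup.zpowers D.x : Set G) ≤ N := fun g hg =>
      hSN (D.norm g ((hg D.x).mp (Subgroup.mem_zpowers _)))
    exact eq_top_iff.mpr (hfr ▸ sup_le hle le_rfl)

/-- The alternative: a normal subgroup meeting `S` trivially, on which `x` acts freely. -/
theorem CritData.disjoint [Finite G] {p : ℕ} [hp : Fact p.Prime] (D : CritData G p) (N : Subgroup G)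
    [hN : N.Normal] (hd : ¬ p ∣ Nat.card N) :
    (∀ g ∈ D.S, g ∈ N → g = 1) ∧ ∀ g ∈ N, D.x * g = g * D.x → g = 1 := by
  haveI := D.simple
  have hxN : D.x ∉ N := fun h => hd (D.order ▸ Subgroup.orderOf_dvd_natCard N h)
  have hn' : (N.subgroupOf D.S).Normal := inferInstance
  have hb : ∀ g ∈ D.S, g ∈ N → g = 1 := by
    rcases hn'.eq_bot_or_eq_top with h | h
    · intro g hg hgN
      have : (⟨g, hg⟩ : D.S) ∈ N.subgroupOf D.S := hgN
      rw [h, Subgroup.mem_bot] at this
      exact congrArg Subtype.val this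
    · exact absurd (Subgroup.subgroupOf_eq_top.mp h D.memS) hxN
  refine ⟨hb, fun g hg hc => hb g (D.norm g ?_) hg⟩
  rw [← hc, mul_inv_cancel_right]
  exact Subgroup.mem_zpowers _

/-- A normal `p'`-subgroup has a conjugate of each of its Sylow subgroups normalised by `x`. -/
theorem exists_invariant_sylow [Finite G] {p q : ℕ} [hp : Fact p.Prime] [hq : Fact q.Prime]
    (hp2 : ¬ p ^ 2 ∣ Nat.card G) {x : G} (hx : orderOf x = p) (N : Subgroup G) [hN : N.Normal]
    (hd : ¬ p ∣ Nat.card N) :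
    ∃ Q : Subgroup G, Q ≤ N ∧ Nat.card Q = q ^ (Nat.card N).factorization q ∧
      ∀ a ∈ Q, x * a * x⁻¹ ∈ Q := by
  obtain ⟨P⟩ : Nonempty (Sylow q N) := inferInstance
  set R := (P : Subgroup N).map N.subtype with hR
  set M := Subgroup.normalizer (R : Set G) with hM
  have hfr : M ⊔ N = ⊤ := P.normalizer_sup_eq_top
  have hpM : p ∣ Nat.card M := by
    have hpG : p ∣ Nat.card G := hx ▸ orderOf_dvd_natCard x
    have h1 : N.index ∣ Nat.card M := by
      have h2 : N.relIndex (M ⊔ N) = N.relIndex M := by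
        rw [sup_comm, Subgroup.relIndex_sup_left]
      rw [hfr, Subgroup.relIndex_top_right] at h2
      rw [h2]
      exact Subgroup.relIndex_dvd_card N M
    rw [← N.card_mul_index] at hpG
    exact ((hp.out.dvd_mul.mp hpG).resolve_left hd).trans h1
  obtain ⟨y, hy⟩ := exists_prime_orderOf_dvd_card' (G := M) p hpM
  rw [← Subgroup.orderOf_coe] at hy
  obtain ⟨g, hg⟩ := exists_conj_zpowers hp2 hx hy
  have hgx : g * x * g⁻¹ ∈ M := (Subgroup.zpowers_le.mpr y.2) hg
  refine ⟨R.map (MulAut.conj g⁻¹).toMonoidHom, ?_, ?_, ?_⟩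
  · rintro _ ⟨a, ha, rfl⟩
    exact hN.conj_mem _ (Subgroup.map_subtype_le _ ha) g⁻¹
  · rw [Subgroup.card_map_of_injective (MulAut.conj g⁻¹).injective, hR,
      Subgroup.card_map_of_injective N.subtype_injective, P.card_eq_multiplicity]
  · rintro _ ⟨a, ha, rfl⟩
    refine ⟨g * x * g⁻¹ * a * (g * x * g⁻¹)⁻¹, (hgx a).mp ha, ?_⟩
    simp [mul_assoc]

/-- A prime whose powers avoid `1` mod `p` does not divide the order of the normal subgroup. -/
theorem CritData.not_dvd [Finite G] {p : ℕ} [hp : Fact p.Prime] (D : CritData G p) (N : Subgroup G)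
    [hN : N.Normal] (hd : ¬ p ∣ Nat.card N) {q : ℕ} (hq : q.Prime)
    (h : ∀ j, 1 ≤ j → q ^ j ∣ Nat.card G → q ^ j % p ≠ 1) : ¬ q ∣ Nat.card N := by
  intro hqN
  haveI : Fact q.Prime := ⟨hq⟩
  have hne : p ≠ q := fun e => hd (e ▸ hqN)
  obtain ⟨Q, hQN, hQc, hQx⟩ := exists_invariant_sylow (q := q) D.sq D.order N hd
  have hdv : Nat.card Q ∣ Nat.card G := Subgroup.card_subgroup_dvd_card Q
  have hc := centralizes_of_coprime Q D.x hp.out hq hne D.order hQc hQx
    (fun j hj1 hjk => h j hj1 ((pow_dvd_pow q hjk).trans (hQc ▸ hdv)))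
  have hbot : Q = ⊥ := by
    rw [Subgroup.eq_bot_iff_forall]
    intro a ha
    exact (D.disjoint N hd).2 a (hQN ha) (hc a ha)
  rw [hbot, Subgroup.card_bot] at hQc
  have : 1 ≤ (Nat.card N).factorization q :=
    hq.pow_dvd_iff_le_factorization Nat.card_pos.ne' |>.mp (by simpa using hqN)
  have h2 : 1 < q ^ (Nat.card N).factorization q := Nat.one_lt_pow (by omega) hq.one_lt
  omega

/-- Simplicity, given a treatment of the primes that are not covered by `not_dvd`. -/
theorem CritData.isSimple [Finite G] {p : ℕ} [hp : Fact p.Prime] (D : CritData G p)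
    (h : ∀ N : Subgroup G, N.Normal → ¬ p ∣ Nat.card N → N = ⊥) : IsSimpleGroup G := by
  haveI : Nontrivial G := ⟨⟨D.x, 1, fun e => hp.out.one_lt.ne (by
    have := D.order; rwa [e, orderOf_one] at this)⟩⟩
  refine ⟨fun N hN => ?_⟩
  by_cases hd : p ∣ Nat.card N
  · exact Or.inr (D.eq_top N hd)
  · exact Or.inl (h N hN hd)

/-- A check on the order: every prime power in the list avoids `1` mod `p`. -/
def powersOK (n p : ℕ) (L : List ℕ) : Bool :=
  L.all fun q => (List.range 70).all fun j => (n % q ^ (j + 1) != 0) || (q ^ (j + 1) % p != 1)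

theorem powersOK_spec {n p : ℕ} {L : List ℕ} (h : powersOK n p L = true) (hn : n < 2 ^ 70)
    {q : ℕ} (hq : q ∈ L) (hn0 : n ≠ 0) (hq2 : 2 ≤ q) :
    ∀ j, 1 ≤ j → q ^ j ∣ n → q ^ j % p ≠ 1 := by
  intro j hj hd
  have hj70 : j < 70 := by
    by_contra hc
    have h1 : 2 ^ 70 ≤ q ^ j :=
      (Nat.pow_le_pow_right (by norm_num) (not_lt.mp hc)).trans (Nat.pow_le_pow_left hq2 j)
    have h2 := Nat.le_of_dvd (Nat.pos_of_ne_zero hn0) hd
    omega
  obtain ⟨i, rfl⟩ : ∃ i, j = i + 1 := ⟨j - 1, by omega⟩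
  simp only [powersOK, List.all_eq_true, Bool.or_eq_true, bne_iff_ne] at h
  rcases h q hq i (List.mem_range.mpr (by omega)) with h1 | h1
  · exact absurd (Nat.mod_eq_zero_of_dvd hd) h1
  · exact h1

theorem prime_mem_of_dvd_prod {L : List (ℕ × ℕ)} (hL : ∀ a ∈ L, a.1.Prime) {q : ℕ} (hq : q.Prime)
    (h : q ∣ (L.map fun a => a.1 ^ a.2).prod) : q ∈ L.map Prod.fst := by
  obtain ⟨a, ha, hd⟩ := (hq.prime.dvd_prod_iff).mp h
  obtain ⟨b, hb, rfl⟩ := List.mem_map.mp ha
  exact List.mem_map.mpr ⟨b, hb, ((Nat.prime_dvd_prime_iff_eq hq (hL b hb)).mp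
    (hq.dvd_of_dvd_pow hd)).symm⟩

/-- Simplicity when all primes other than `p` are covered. -/
theorem CritData.isSimple_of_powers [Finite G] {p n : ℕ} [hp : Fact p.Prime] (D : CritData G p)
    (hn : Nat.card G = n) (L : List (ℕ × ℕ)) (hL : ∀ a ∈ L, a.1.Prime)
    (hprod : n = p * (L.map fun a => a.1 ^ a.2).prod) (hlt : n < 2 ^ 70)
    (hok : powersOK n p (L.map Prod.fst) = true) : IsSimpleGroup G := by
  refine D.isSimple fun N hN hd => ?_
  rw [← Subgroup.card_eq_one]
  by_contra hne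
  obtain ⟨q, hq, hqN⟩ := Nat.exists_prime_and_dvd hne
  have hqn : q ∣ n := hn ▸ hqN.trans (Subgroup.card_subgroup_dvd_card N)
  have hqp : q ≠ p := fun e => hd (e ▸ hqN)
  have hmem : q ∈ L.map Prod.fst := by
    rw [hprod] at hqn
    rcases hq.dvd_mul.mp hqn with h | h
    · exact absurd ((Nat.prime_dvd_prime_iff_eq hq hp.out).mp h) hqp
    · exact prime_mem_of_dvd_prod hL hq h
  refine D.not_dvd N hd hq (fun j hj hdj => ?_) hqN
  exact powersOK_spec hok hlt hmem (hn ▸ Nat.card_pos.ne') hq.two_le j hj (hn ▸ hdj)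

end H95
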