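import Cfsg.Agent.H95.Co1Frame
import Cfsg.Agent.H95.SimpleCrit
import Cfsg.Agent.H95.Co0Centre
import Cfsg.Prelude.Def_Sporadic

/-!
The automorphism group of the lattice modulo its centre is simple.
-/

set_option autoImplicit false

namespace H95

open Cfsg Finset

theorem quad_eq (i j : GolayPt) (h : i ≠ j) (s t : ℤ) (hs : s = 1 ∨ s = -1) (ht : t = 1 ∨ t = -1) :
    (quad i j h s t hs ht : GolayPt → ℤ) = Pi.single i (4 * s) + Pi.single j (4 * t) := rfl

theorem eight_add_quad (i j : GolayPt) (h : i ≠ j) :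
    eight i = quad i j h 1 1 (Or.inl rfl) (Or.inl rfl) + quad i j h 1 (-1) (Or.inl rfl) (Or.inr rfl) := by
  refine Subtype.ext ?_
  rw [AddSubgroup.coe_add, quad_eq, quad_eq]
  show (Pi.single i 8 : GolayPt → ℤ) = _
  funext k
  simp only [Pi.add_apply, Pi.single_apply]
  split <;> split <;> norm_num

theorem exists_four_others (i j : GolayPt) :
    ∃ k l m : GolayPt, k ≠ i ∧ k ≠ j ∧ l ≠ i ∧ l ≠ j ∧ m ≠ i ∧ m ≠ j ∧ k ≠ l ∧ k ≠ m ∧ l ≠ m := by
  obtain ⟨T, hT, hT3⟩ := exists_subset_card_eq (s := (univ : Finset GolayPt) \ {i, j}) (n := 3) (by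
    have h1 := le_card_sdiff ({i, j} : Finset GolayPt) (univ : Finset GolayPt)
    have h2 : ({i, j} : Finset GolayPt).card ≤ 2 := card_le_two
    have h3 : (univ : Finset GolayPt).card = 24 := rfl
    omega)
  obtain ⟨k, l, m, hkl, hkm, hlm, rfl⟩ := card_eq_three.mp hT3
  simp only [subset_iff, mem_sdiff, mem_univ, true_and, mem_insert, mem_singleton, not_or] at hT
  exact ⟨k, l, m, (hT (Or.inl rfl)).1, (hT (Or.inl rfl)).2, (hT (Or.inr (Or.inl rfl))).1,
    (hT (Or.inr (Or.inl rfl))).2, (hT (Or.inr (Or.inr rfl))).1, (hT (Or.inr (Or.inr rfl))).2,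
    hkl, hkm, hlm⟩

/-- every `4eᵢ ± 4eⱼ` is a difference of two vectors of norm 64 -/
theorem quad_diff (i j : GolayPt) (h : i ≠ j) (t : ℤ) (ht : t = 1 ∨ t = -1) :
    ∃ a b : leechLattice, ldot a a = 64 ∧ ldot b b = 64 ∧
      quad i j h 1 t (Or.inl rfl) ht = a - b := by
  obtain ⟨k, l, m, hki, hkj, hli, hlj, hmi, hmj, hkl, hkm, hlm⟩ := exists_four_others i j
  set w := quad i j h 1 t (Or.inl rfl) ht with hw
  set q1 := quad i k hki.symm (-1) 1 (Or.inr rfl) (Or.inl rfl) with hq1
  set q2 := quad l m hlm 1 1 (Or.inl rfl) (Or.inl rfl) with hq2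
  have hq12 : ldot q1 q2 = 0 := by
    rw [hq2, ldot_quad, hq1, quad_eq]
    simp [hli, hlm, hkl.symm, hkl, hmi, hkm.symm, hli.symm, hmi.symm, hkm]
  have hwq1 : ldot w q1 = -16 := by
    rw [hq1, ldot_quad, hw, quad_eq]
    simp [h, h.symm, hki, hkj]
  have hwq2 : ldot w q2 = 0 := by
    rw [hq2, ldot_quad, hw, quad_eq]
    simp [hli, hlj, hmi, hmj]
  have hb : ldot (q1 + q2) (q1 + q2) = 64 := by
    rw [leechLike.norm_add, hq1, quad_norm, ← hq1, hq2, quad_norm, ← hq2, hq12]; norm_num
  refine ⟨w + (q1 + q2), q1 + q2, ?_, hb, (add_sub_cancel_right _ _).symm⟩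
  rw [leechLike.norm_add, hb, leechLike.add_right, hwq1, hwq2, hw, quad_norm]
  norm_num

/-- the class of a vector of norm 64 -/
def cls (x : leechLattice) : Set leechLattice := {y | ldot y y = 64 ∧ x - y ∈ twice leechLattice}

theorem smul_twice (g : Co0) {z : leechLattice} (hz : z ∈ twice leechLattice) :
    g • z ∈ twice leechLattice := by
  obtain ⟨y, rfl⟩ := mem_twice.mp hz
  exact mem_twice.mpr ⟨g • y, by rw [two_nsmul, two_nsmul, co0_add]⟩

theorem cls_smul (g : Co0) (x : leechLattice) : (fun y => g • y) '' cls x = cls (g • x) := by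
  ext y
  constructor
  · rintro ⟨z, ⟨h1, h2⟩, rfl⟩
    exact ⟨by rw [co0_dot]; exact h1, by rw [← co0_sub]; exact smul_twice g h2⟩
  · rintro ⟨h1, h2⟩
    refine ⟨g⁻¹ • y, ⟨by rw [co0_dot]; exact h1, ?_⟩, smul_inv_smul g y⟩
    have := smul_twice g⁻¹ h2
    rwa [co0_sub, inv_smul_smul] at this

theorem cls_eq {x y : leechLattice} (h : y ∈ cls x) : cls y = cls x := by
  ext z
  refine ⟨fun hz => ⟨hz.1, ?_⟩, fun hz => ⟨hz.1, ?_⟩⟩
  · have := add_mem h.2 hz.2
    rwa [sub_add_sub_cancel] at this
  · have := sub_mem hz.2 h.2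
    rwa [sub_sub_sub_cancel_left] at this

theorem self_mem_cls {x : leechLattice} (hx : ldot x x = 64) : x ∈ cls x :=
  ⟨hx, by rw [sub_self]; exact zero_mem _⟩

/-- the classes of vectors of norm 64 -/
def clsSet : Set (Set leechLattice) := cls '' {x | ldot x x = 64}

theorem odd_clsSet : ¬ 2 ∣ Nat.card clsSet := by
  classical
  have hfin : {x : leechLattice | ldot x x = 64}.Finite :=
    leechLike.finite_norm (Or.inr (Or.inr rfl))
  set C := hfin.toFinset with hC
  have hCc : C.card = 398034000 := by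
    rw [hC, ← Set.ncard_eq_toFinset_card _ hfin]; exact leechLike.count64
  have hfib : ∀ b ∈ C.image cls, (C.filter fun x => cls x = b).card = 48 := by
    intro b hb
    obtain ⟨x, hx, rfl⟩ := mem_image.mp hb
    have hx' : ldot x x = 64 := hfin.mem_toFinset.mp hx
    rw [← leechLike.main.2 x hx', ← Set.ncard_coe_finset]
    congr 1
    ext y
    simp only [coe_filter, Set.mem_ofPred_eq]
    constructor
    · rintro ⟨hy, he⟩
      have : y ∈ cls x := he ▸ self_mem_cls (hfin.mem_toFinset.mp hy)
      exact this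
    · intro hy
      exact ⟨hfin.mem_toFinset.mpr hy.1, cls_eq hy⟩
  have h := card_eq_sum_card_image cls C
  rw [sum_congr rfl hfib, sum_const, hCc, smul_eq_mul] at h
  have himg : clsSet = ↑(C.image cls) := by
    rw [coe_image, hC, Set.Finite.coe_toFinset]; rfl
  rw [Nat.card_coe_set_eq, himg, Set.ncard_coe_finset]
  omega

theorem finite_clsSet : Finite clsSet :=
  ((leechLike.finite_norm (Or.inr (Or.inr rfl))).image cls).to_subtype

/-- a normal two-subgroup fixes every class -/
theorem fix_classes {N : Subgroup Co0} (hN : N.Normal) (h2 : IsPGroup 2 N) {g : Co0} (hg : g ∈ N)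
    {x : leechLattice} (hx : ldot x x = 64) : x - g • x ∈ twice leechLattice := by
  classical
  haveI : Fact (Nat.Prime 2) := ⟨Nat.prime_two⟩
  haveI := finite_clsSet
  have hmem : ∀ (n : Co0) (b : Set leechLattice), b ∈ clsSet → (fun y => n • y) '' b ∈ clsSet := by
    rintro n _ ⟨y, hy, rfl⟩
    exact ⟨n • y, by show ldot (n • y) (n • y) = 64; rw [co0_dot]; exact hy, (cls_smul n y).symm⟩
  letI act : MulAction N clsSet :=
    { smul := fun n b => ⟨(fun y => n.1 • y) '' b.1, hmem n.1 b.1 b.2⟩
      one_smul := fun b => Subtype.ext (by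
        show (fun y => (1 : Co0) • y) '' b.1 = b.1
        simp only [one_smul, Set.image_id'])
      mul_smul := fun n m b => Subtype.ext (by
        show (fun y => (n.1 * m.1) • y) '' b.1 = (fun y => n.1 • y) '' ((fun y => m.1 • y) '' b.1)
        rw [Set.image_image]; simp only [mul_smul]) }
  obtain ⟨⟨_, x0, hx0, rfl⟩, hfix⟩ := h2.nonempty_fixed_point_of_prime_not_dvd_card clsSet odd_clsSet
  obtain ⟨h0, hh0⟩ := to_eight golayUnique hx0
  obtain ⟨h1, hh1⟩ := to_eight golayUnique hx
  obtain ⟨k, hkx⟩ : ∃ k : Co0, k • x0 = x :=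
    ⟨h1⁻¹ * h0, by rw [mul_smul, hh0, ← hh1, inv_smul_smul]⟩
  have hn : k⁻¹ * g * k ∈ N := by simpa using hN.conj_mem g hg k⁻¹
  have e : cls ((k⁻¹ * g * k) • x0) = cls x0 := by
    rw [← cls_smul]
    exact congrArg Subtype.val (hfix ⟨_, hn⟩)
  have e2 : (k⁻¹ * g * k) • x0 ∈ cls x0 := e ▸ self_mem_cls (by rw [co0_dot]; exact hx0)
  have h3 := smul_twice k e2.2
  rwa [co0_sub, hkx, mul_smul, mul_smul, smul_inv_smul, hkx] at h3

theorem fix_quad {N : Subgroup Co0} (hN : N.Normal) (h2 : IsPGroup 2 N) {g : Co0} (hg : g ∈ N)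
    (i j : GolayPt) (h : i ≠ j) (t : ℤ) (ht : t = 1 ∨ t = -1) :
    g • quad i j h 1 t (Or.inl rfl) ht = quad i j h 1 t (Or.inl rfl) ht ∨
      g • quad i j h 1 t (Or.inl rfl) ht = -quad i j h 1 t (Or.inl rfl) ht := by
  obtain ⟨a, b, ha, hb, hab⟩ := quad_diff i j h t ht
  set w := quad i j h 1 t (Or.inl rfl) ht with hw
  have hd : w - g • w ∈ twice leechLattice := by
    have := sub_mem (fix_classes hN h2 hg ha) (fix_classes hN h2 hg hb)
    rw [hab, co0_sub]
    convert this using 1
    abel
  obtain ⟨z, hz⟩ := mem_twice.mp hd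
  have hww : ldot w w = 32 := quad_norm _ _ _
  have hgw : ldot (g • w) (g • w) = 32 := by rw [co0_dot, hww]
  by_cases hz0 : z = 0
  · left
    rw [hz0, smul_zero, sub_eq_zero] at hz
    exact hz.symm
  · right
    have hz32 := leechLike.min32 z hz0
    have h4 : ldot (w - g • w) (w - g • w) = 4 * ldot z z := by
      rw [hz, two_nsmul, leechLike.norm_add]; ring
    rw [leechLike.norm_sub, hww, hgw] at h4
    have hs : w + g • w = 0 := by
      by_contra hne
      have := leechLike.min32 _ hne
      rw [leechLike.norm_add, hww, hgw] at this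
      linarith
    exact eq_neg_of_add_eq_zero_right hs

theorem two_subgroup_le_center {N : Subgroup Co0} (hN : N.Normal) (h2 : IsPGroup 2 N) :
    N ≤ Subgroup.center Co0 := by
  intro g hg
  have hcoord : ∀ (i k : GolayPt) (u v : leechLattice), g • eight i = u + v →
      ((g • eight i : leechLattice) : GolayPt → ℤ) k
        = (u : GolayPt → ℤ) k + (v : GolayPt → ℤ) k := fun i k u v e => by rw [e]; rfl
  have hzero : ∀ i j, i ≠ j → ∀ k, k ≠ i → k ≠ j →
      ((g • eight i : leechLattice) : GolayPt → ℤ) k = 0 := by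
    intro i j hij k hki hkj
    have e : g • eight i = g • quad i j hij 1 1 (Or.inl rfl) (Or.inl rfl)
        + g • quad i j hij 1 (-1) (Or.inl rfl) (Or.inr rfl) := by rw [← co0_add, ← eight_add_quad]
    rw [hcoord i k _ _ e]
    rcases fix_quad hN h2 hg i j hij 1 (Or.inl rfl) with e1 | e1 <;>
      rcases fix_quad hN h2 hg i j hij (-1) (Or.inr rfl) with e2 | e2 <;>
      rw [e1, e2] <;> simp [quad_eq, hki, hkj]
  have hMon : MonMap g 1 := by
    intro i
    have h0 : ∀ k, k ≠ i → ((g • eight i : leechLattice) : GolayPt → ℤ) k = 0 := by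
      intro k hk
      obtain ⟨j, l, m, hji, hjk, -, -, -, -, -, -, -⟩ := exists_four_others i k
      exact hzero i j hji.symm k hk (Ne.symm hjk)
    set u := ((g • eight i : leechLattice) : GolayPt → ℤ) with hu
    have hn : ldot (g • eight i) (g • eight i) = 64 := by rw [co0_dot, eight_norm]
    have hus : u = Pi.single i (u i) := funext fun k => by
      by_cases hk : k = i
      · subst hk; rw [Pi.single_eq_same]
      · rw [Pi.single_eq_of_ne hk, h0 k hk]
    rw [← sqNorm_eq_ldot, ← hu, hus] at hn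
    unfold sqNorm at hn
    rw [Finset.sum_eq_single i (fun k _ hk => by rw [Pi.single_eq_of_ne hk]; ring) (by simp),
      Pi.single_eq_same] at hn
    refine ⟨u i, ?_, by simpa using hus⟩
    rcases mul_self_eq_mul_self_iff.mp (show u i * u i = 8 * 8 by linarith) with h | h
    · exact Or.inl h
    · exact Or.inr h
  obtain ⟨c, hσ, hc, hgc⟩ := hMon.exists_mono
  have hcc : ∀ i j, i ≠ j → (i ∈ c ↔ j ∈ c) := by
    intro i j hij
    have hi : ∀ k, ((g • quad i j hij 1 1 (Or.inl rfl) (Or.inl rfl) : leechLattice) : GolayPt → ℤ) k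
        = if k ∈ c then -(quad i j hij 1 1 (Or.inl rfl) (Or.inl rfl) : GolayPt → ℤ) k
          else (quad i j hij 1 1 (Or.inl rfl) (Or.inl rfl) : GolayPt → ℤ) k := fun k => by
      rw [hgc, mono_smul]; simp [signedPerm, Equiv.Perm.one_def]
    have a1 := hi i
    have a2 := hi j
    rcases fix_quad hN h2 hg i j hij 1 (Or.inl rfl) with e | e <;> rw [e] at a1 a2 <;>
      simp [quad_eq, hij, hij.symm] at a1 a2 <;> tauto
  by_cases hn : none ∈ c
  · have hall : ∀ i, i ∈ c := fun i => by
      by_cases h : i = none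
      · rw [h]; exact hn
      · exact (hcc i none h).mpr hn
    rw [show g = negOne from co0_ext fun v => Subtype.ext (funext fun i => by
      rw [hgc, mono_smul, negOne_smul, AddSubgroup.coe_neg, Pi.neg_apply]
      simp [signedPerm, hall i, Equiv.Perm.one_def])]
    exact negOne_mem_center
  · have hall : ∀ i, i ∉ c := fun i => by
      by_cases h : i = none
      · rw [h]; exact hn
      · exact fun hh => hn ((hcc i none h).mp hh)
    rw [show g = 1 from co0_ext fun v => Subtype.ext (funext fun i => by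
      rw [hgc, mono_smul, one_smul]
      simp [signedPerm, hall i, Equiv.Perm.one_def])]
    exact one_mem _

theorem normal_cases {N : Subgroup Co0} (hN : N.Normal) : N = ⊤ ∨ N ≤ Subgroup.center Co0 := by
  haveI : Finite Co0 := co0_finite
  haveI : Fact (Nat.Prime 23) := ⟨by norm_num⟩
  have hcard := card_co0 golayUnique
  have hp2 : ¬ 23 ^ 2 ∣ Nat.card Co0 := by rw [hcard]; norm_num
  by_cases hd : 23 ∣ Nat.card N
  · left
    obtain ⟨y, hy⟩ := exists_prime_orderOf_dvd_card' (G := N) 23 hd
    rw [← Subgroup.orderOf_coe] at hy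
    obtain ⟨g, hg⟩ := exists_conj_zpowers hp2 order_tauT hy
    have hτ : tauT ∈ N := by
      have h1 : g * tauT * g⁻¹ ∈ N := (Subgroup.zpowers_le.mpr y.2) hg
      have := hN.conj_mem _ h1 g⁻¹
      simpa [mul_assoc] using this
    have hstd := std_le_of_tau hN hτ
    have hfac : (Nat.card N).factorization 23 = 1 := by
      have hn : Nat.card N ≠ 0 := Nat.card_pos.ne'
      have h23 : Nat.Prime 23 := by norm_num
      have ha : 1 ≤ (Nat.card N).factorization 23 :=
        h23.pow_dvd_iff_le_factorization hn |>.mp (by simpa using hd)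
      have hb : ¬ 2 ≤ (Nat.card N).factorization 23 := fun h =>
        hp2 (((h23.pow_dvd_iff_le_factorization hn).mpr h).trans (Subgroup.card_subgroup_dvd_card N))
      omega
    let P : Sylow 23 N := Sylow.ofCard ((Subgroup.zpowers tauT).subgroupOf N) (by
      rw [Nat.card_congr (Subgroup.subgroupOfEquivOfLe (Subgroup.zpowers_le.mpr hτ)).toEquiv,
        Nat.card_zpowers, order_tauT, hfac, pow_one])
    have hmap : (P : Subgroup N).map N.subtype = Subgroup.zpowers tauT := by
      rw [Sylow.coe_ofCard, Subgroup.map_subgroupOf_eq_of_le (Subgroup.zpowers_le.mpr hτ)]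
    have hfr := P.normalizer_sup_eq_top
    rw [hmap] at hfr
    have hle : Subgroup.normalizer (Subgroup.zpowers tauT : Set Co0) ≤ N := fun g hg =>
      hstd (norm_tauT ((hg tauT).mp (Subgroup.mem_zpowers _)))
    exact eq_top_iff.mpr (hfr ▸ sup_le hle le_rfl)
  · right
    haveI := permPart_normal hN
    have hpp : permPart N = ⊥ := by
      haveI := H90.M24_simple
      rcases (permPart_normal hN).eq_bot_or_eq_top with h | h
      · exact h
      · exfalso
        obtain ⟨g, hg, e⟩ : translOne ∈ permPart N := h ▸ Subgroup.mem_top _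
        have e1 := e.pow (orderOf g)
        rw [pow_orderOf_eq_one] at e1
        have h1 : translOne.1 ^ orderOf g = 1 := (MonMap.one.unique e1).symm
        have h2 : orderOf translOne.1 ∣ orderOf g := orderOf_dvd_of_pow_eq_one h1
        rw [Subgroup.orderOf_coe, order_translOne] at h2
        exact hd (h2.trans (Subgroup.orderOf_dvd_natCard N hg))
    refine two_subgroup_le_center hN ?_
    have hdv : Nat.card N ∣ 8315553613086720000 := hcard ▸ Subgroup.card_subgroup_dvd_card N
    refine IsPGroup.of_card (n := (Nat.card N).primeFactorsList.length)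
      (Nat.eq_prime_pow_of_unique_prime_dvd Nat.card_pos.ne' fun {q} hq hqN => ?_)
    have hmem := prime_mem_of_dvd_prod
      (L := [(2, 22), (3, 9), (5, 4), (7, 2), (11, 1), (13, 1), (23, 1)])
      (by simp only [List.forall_mem_cons, List.not_mem_nil, IsEmpty.forall_iff, implies_true, and_true]; norm_num)
      hq (hqN.trans hdv |>.trans (by norm_num))
    by_contra hq2
    haveI : Fact q.Prime := ⟨hq⟩
    obtain ⟨Q, hQN, hQc, hQx⟩ := exists_invariant_sylow (q := q) hp2 order_tauT N hd
    have hok : powersOK 8315553613086720000 23 [3, 5, 7, 11, 13] = true := by decide +kernel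
    have hq' : q ∈ [3, 5, 7, 11, 13] := by
      simp only [List.map_cons, List.map_nil, List.mem_cons, List.not_mem_nil, or_false] at hmem
      rcases hmem with rfl | rfl | rfl | rfl | rfl | rfl | rfl
      · exact absurd rfl hq2
      · simp
      · simp
      · simp
      · simp
      · simp
      · exact absurd hqN hd
    have hQd : Nat.card Q ∣ 8315553613086720000 := hcard ▸ Subgroup.card_subgroup_dvd_card Q
    have hc := centralizes_of_coprime Q tauT (r := 23) (by norm_num) hq
      (fun e => hd (by rw [e]; exact hqN)) order_tauT hQc hQx fun j hj hjk =>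
        powersOK_spec hok (by norm_num) hq' (by norm_num) hq.two_le j hj
          ((pow_dvd_pow q hjk).trans (hQc ▸ hQd))
    have hbot : Q = ⊥ := by
      rw [Subgroup.eq_bot_iff_forall]
      intro a ha
      have hstd : a ∈ stdGrp := norm_tauT (by
        rw [← hc a ha, mul_inv_cancel_right]; exact Subgroup.mem_zpowers _)
      obtain ⟨σ, hσ⟩ := hstd
      obtain ⟨c, hσM, hc', rfl⟩ := hσ.exists_mono
      obtain ⟨d, hd'⟩ := mono_eq_sign_mul hσM hc'
      have h1 : (⟨σ, hσM⟩ : M24) ∈ permPart N := ⟨_, hQN ha, hσ⟩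
      rw [hpp, Subgroup.mem_bot] at h1
      rw [h1, map_one, mul_one] at hd'
      rw [hd'] at ha ⊢
      have hsq : orderOf (signEl d) ∣ 2 :=
        orderOf_dvd_of_pow_eq_one (by rw [pow_two]; exact signEl_sq d)
      have hqk : orderOf (signEl d) ∣ q ^ (Nat.card N).factorization q :=
        hQc ▸ Subgroup.orderOf_dvd_natCard Q ha
      rw [← orderOf_eq_one_iff]
      exact Nat.eq_one_of_dvd_coprimes
        (Nat.Coprime.pow_right _ ((Nat.coprime_primes Nat.prime_two hq).mpr (Ne.symm hq2))) hsq hqk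
    rw [hbot, Subgroup.card_bot] at hQc
    have h1 : 1 ≤ (Nat.card N).factorization q :=
      hq.pow_dvd_iff_le_factorization Nat.card_pos.ne' |>.mp (by simpa using hqN)
    have h2 : 1 < q ^ (Nat.card N).factorization q := Nat.one_lt_pow (by omega) hq.one_lt
    omega

theorem isCo1_quot : IsCo1 (Co0 ⧸ Subgroup.center Co0) := by
  haveI : Finite Co0 := co0_finite
  have hc : Nat.card (Co0 ⧸ Subgroup.center Co0) = 4157776806543360000 := by
    have h := (Subgroup.center Co0).card_eq_card_quotient_mul_card_subgroup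
    rw [card_co0 golayUnique, card_center_co0] at h
    exact Nat.eq_of_mul_eq_mul_right (by norm_num : 0 < 2) (h.symm.trans (by norm_num))
  haveI : Nontrivial (Co0 ⧸ Subgroup.center Co0) :=
    Finite.one_lt_card_iff_nontrivial.mp (by rw [hc]; norm_num)
  refine ⟨⟨fun M hM => ?_⟩, hc⟩
  set φ := QuotientGroup.mk' (Subgroup.center Co0)
  have hsurj := QuotientGroup.mk'_surjective (Subgroup.center Co0)
  have hmap := Subgroup.map_comap_eq_self_of_surjective hsurj M
  rcases normal_cases (hM.comap φ) with h | h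
  · right
    rw [← hmap, h, Subgroup.map_top_of_surjective _ hsurj]
  · left
    rw [← hmap, Subgroup.map_eq_bot_iff, QuotientGroup.ker_mk']
    exact h

end H95
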