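import Cfsg.Agent.H95.FrameOrbits
import Cfsg.Agent.H95.Co1Simple

/-!
The stabiliser of the standard cross is a maximal subgroup.
-/

set_option autoImplicit false

namespace H95

open Cfsg Finset

/-- the nonzero coordinates -/
def supp (u : leechLattice) : Finset GolayPt := univ.filter fun i => (u : GolayPt → ℤ) i ≠ 0

theorem mem_supp {u : leechLattice} {i : GolayPt} : i ∈ supp u ↔ (u : GolayPt → ℤ) i ≠ 0 := by
  simp [supp]

theorem coe_quad_apply (a b : GolayPt) (h : a ≠ b) (s t : ℤ) (hs : s = 1 ∨ s = -1)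
    (ht : t = 1 ∨ t = -1) (i : GolayPt) :
    (quad a b h s t hs ht : GolayPt → ℤ) i = if i = a then 4 * s else if i = b then 4 * t else 0 := by
  rw [quad_eq]
  by_cases hia : i = a
  · subst hia; simp [h]
  · by_cases hib : i = b
    · subst hib; simp [hia]
    · simp [hia, hib]

theorem supp_quad (a b : GolayPt) (h : a ≠ b) (s t : ℤ) (hs : s = 1 ∨ s = -1)
    (ht : t = 1 ∨ t = -1) : supp (quad a b h s t hs ht) = {a, b} := by
  ext i
  rw [mem_supp, coe_quad_apply]
  by_cases hia : i = a
  · simp [hia]; omega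
  · by_cases hib : i = b
    · simp [hib, Ne.symm h]; omega
    · simp [hia, hib]

/-- two orthogonal quads either are disjoint or add up to a multiple of a unit vector -/
theorem quad_sum {q q' : leechLattice} (hq : IsQuad q) (hq' : IsQuad q') (h0 : ldot q q' = 0) :
    (∀ i, (q : GolayPt → ℤ) i = 0 ∨ (q' : GolayPt → ℤ) i = 0) ∨
      ∃ (j : GolayPt) (s : ℤ), (s = 8 ∨ s = -8) ∧
        ((q + q' : leechLattice) : GolayPt → ℤ) = Pi.single j s := by
  obtain ⟨a, b, hab, s, t, hs, ht, rfl⟩ := hq
  obtain ⟨c, d, hcd, s', t', hs', ht', rfl⟩ := hq'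
  by_cases hdisj : c ≠ a ∧ c ≠ b ∧ d ≠ a ∧ d ≠ b
  · left
    intro i
    rw [coe_quad_apply, coe_quad_apply]
    obtain ⟨h1, h2, h3, h4⟩ := hdisj
    by_cases hia : i = a
    · subst hia; right; simp [Ne.symm h1, Ne.symm h3]
    · by_cases hib : i = b
      · subst hib; right; simp [Ne.symm h2, Ne.symm h4]
      · left; simp [hia, hib]
  · right
    rw [ldot_quad, coe_quad_apply, coe_quad_apply] at h0
    have hsame : (c = a ∧ d = b) ∨ (c = b ∧ d = a) := by
      by_cases h1 : c = a
      · refine Or.inl ⟨h1, ?_⟩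
        by_contra h4
        have h3 : d ≠ a := fun e => hcd (h1.trans e.symm)
        rw [if_pos h1, if_neg h3, if_neg h4] at h0
        rcases hs with rfl | rfl <;> rcases hs' with rfl | rfl <;> norm_num at h0
      · by_cases h2 : c = b
        · refine Or.inr ⟨h2, ?_⟩
          by_contra h3
          have h4 : d ≠ b := fun e => hcd (h2.trans e.symm)
          rw [if_neg h1, if_pos h2, if_neg h3, if_neg h4] at h0
          rcases ht with rfl | rfl <;> rcases hs' with rfl | rfl <;> norm_num at h0
        · exfalso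
          push Not at hdisj
          have hd : d = a ∨ d = b := by
            by_contra hh
            push Not at hh
            exact hh.2 (hdisj h1 h2 hh.1)
          rcases hd with h3 | h4
          · rw [if_neg h1, if_neg h2, if_pos h3] at h0
            rcases hs with rfl | rfl <;> rcases ht' with rfl | rfl <;> norm_num at h0
          · rw [if_neg h1, if_neg h2, if_neg (fun e : d = a => hab (e.symm.trans h4)), if_pos h4] at h0
            rcases ht with rfl | rfl <;> rcases ht' with rfl | rfl <;> norm_num at h0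
    simp only [AddSubgroup.coe_add, quad_eq]
    rcases hsame with ⟨rfl, rfl⟩ | ⟨rfl, rfl⟩
    · simp only [if_true, hab.symm, if_false] at h0
      by_cases he : s + s' = 0
      · refine ⟨d, 4 * t + 4 * t', ?_, ?_⟩
        · rcases hs with rfl | rfl <;> rcases hs' with rfl | rfl <;> rcases ht with rfl | rfl <;>
            rcases ht' with rfl | rfl <;> omega
        have e : 4 * s' = -(4 * s) := by omega
        rw [e, Pi.single_neg, Pi.single_add]; abel
      · have hs2 : s' = s := by omega
        subst hs2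
        refine ⟨c, 8 * s', by omega, ?_⟩
        have e : 4 * t' = -(4 * t) := by
          rcases hs' with rfl | rfl <;> rcases ht with rfl | rfl <;> rcases ht' with rfl | rfl <;>
            omega
        rw [e, Pi.single_neg, show (8 * s' : ℤ) = 4 * s' + 4 * s' by ring, Pi.single_add]; abel
    · simp only [if_true, hab.symm, if_false] at h0
      by_cases he : s + t' = 0
      · refine ⟨c, 4 * t + 4 * s', ?_, ?_⟩
        · rcases hs with rfl | rfl <;> rcases hs' with rfl | rfl <;> rcases ht with rfl | rfl <;>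
            rcases ht' with rfl | rfl <;> omega
        have e : 4 * t' = -(4 * s) := by omega
        rw [e, Pi.single_neg, Pi.single_add]; abel
      · have hs2 : t' = s := by omega
        subst hs2
        refine ⟨d, 8 * t', by omega, ?_⟩
        have e : 4 * s' = -(4 * t) := by
          rcases hs' with rfl | rfl <;> rcases ht with rfl | rfl <;> rcases ht' with rfl | rfl <;>
            omega
        rw [e, Pi.single_neg, show (8 * t' : ℤ) = 4 * t' + 4 * t' by ring, Pi.single_add]; abel

/-- a group above the stabiliser of the cross moves some quad to another shape -/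
theorem exists_nonquad {M : Subgroup Co0} (hle : stdGrp ≤ M) (hne : ¬ M ≤ stdGrp) :
    ∃ g ∈ M, ¬ IsQuad (g • vBase) := by
  classical
  by_contra hall
  push Not at hall
  obtain ⟨g, hgM, hgH⟩ := SetLike.not_le_iff_exists.mp hne
  have hq : ∀ q, IsQuad q → IsQuad (g • q) := by
    intro q hq
    obtain ⟨h, hh, rfl⟩ := quad_std hq
    rw [← mul_smul]
    exact hall _ (M.mul_mem hgM (hle hh))
  obtain ⟨i, hi⟩ : ∃ i, ¬ ∃ (j : GolayPt) (s : ℤ), (s = 8 ∨ s = -8) ∧
      ((g • eight i : leechLattice) : GolayPt → ℤ) = Pi.single j s := by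
    by_contra hc
    push Not at hc
    obtain ⟨σ, c, hσ, hc', rfl⟩ := exists_mono_of_eight hc
    exact hgH (mono_mem_std σ c hσ hc')
  set u := g • eight i with hu
  have key : ∀ k, k ≠ i → ∀ (h : i ≠ k),
      ((supp (g • quad i k h 1 1 (Or.inl rfl) (Or.inl rfl))).card = 2 ∧
      supp (g • quad i k h 1 1 (Or.inl rfl) (Or.inl rfl)) ⊆ supp u ∧
      (∀ x ∈ supp (g • quad i k h 1 1 (Or.inl rfl) (Or.inl rfl)),
        ((g • quad i k h 1 1 (Or.inl rfl) (Or.inl rfl) : leechLattice) : GolayPt → ℤ) x
          = (u : GolayPt → ℤ) x)) ∧ (supp u).card ≤ 4 := by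
    intro k _ h
    set p := quad i k h 1 1 (Or.inl rfl) (Or.inl rfl) with hp
    set m := quad i k h 1 (-1) (Or.inl rfl) (Or.inr rfl) with hm
    have hgp := hq p ⟨i, k, h, 1, 1, Or.inl rfl, Or.inl rfl, rfl⟩
    have hgm := hq m ⟨i, k, h, 1, -1, Or.inl rfl, Or.inr rfl, rfl⟩
    have h0 : ldot (g • p) (g • m) = 0 := by
      rw [co0_dot, hm, ldot_quad, hp, coe_quad_apply, coe_quad_apply]
      simp [h.symm]
    have hsum : g • p + g • m = u := by rw [hu, ← co0_add, hp, hm, ← eight_add_quad]
    have hc2 : ∀ q, IsQuad q → (supp q).card = 2 := by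
      rintro _ ⟨a, b, hab, s, t, hs, ht, rfl⟩
      rw [supp_quad]; exact card_pair hab
    rcases quad_sum hgp hgm h0 with hd | ⟨j, s, hs, e⟩
    · have huc : ∀ x, (u : GolayPt → ℤ) x = ((g • p : leechLattice) : GolayPt → ℤ) x
          + ((g • m : leechLattice) : GolayPt → ℤ) x := fun x => by rw [← hsum]; rfl
      refine ⟨⟨hc2 _ hgp, fun x hx => ?_, fun x hx => ?_⟩, ?_⟩
      · rw [mem_supp] at hx ⊢
        rw [huc, (hd x).resolve_left hx, add_zero]
        exact hx
      · rw [mem_supp] at hx
        rw [huc, (hd x).resolve_left hx, add_zero]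
      · refine (card_le_card (t := supp (g • p) ∪ supp (g • m)) fun x hx => ?_).trans
          ((card_union_le _ _).trans (by rw [hc2 _ hgp, hc2 _ hgm]))
        rw [mem_supp, huc] at hx
        rw [mem_union, mem_supp, mem_supp]
        by_contra hn
        push Not at hn
        exact hx (by rw [hn.1, hn.2, add_zero])
    · exact absurd ⟨j, s, hs, by rw [← hsum]; exact e⟩ hi
  let S : Finset GolayPt := univ.erase i
  have hS : S.card = 23 := by rw [card_erase_of_mem (mem_univ i)]; rfl
  obtain ⟨k0, hk0⟩ : ∃ k, k ≠ i := exists_ne i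
  have hu4 : (supp u).card ≤ 4 := (key k0 hk0 (Ne.symm hk0)).2
  let F : GolayPt → Finset GolayPt := fun k =>
    if h : i = k then ∅ else supp (g • quad i k h 1 1 (Or.inl rfl) (Or.inl rfl))
  have hmaps : ∀ k ∈ S, F k ∈ (supp u).powersetCard 2 := by
    intro k hk
    have h : i ≠ k := Ne.symm (mem_erase.mp hk).1
    obtain ⟨⟨h1, h2, -⟩, -⟩ := key k h.symm h
    simp only [F, dif_neg h]
    exact mem_powersetCard.mpr ⟨h2, h1⟩
  obtain ⟨k, hk, k', hk', hne', he⟩ := exists_ne_map_eq_of_card_lt_of_maps_to (f := F) (s := S)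
    (t := (supp u).powersetCard 2) (by
      rw [hS, card_powersetCard]
      exact lt_of_le_of_lt (Nat.choose_le_choose 2 hu4) (by decide)) hmaps
  have h : i ≠ k := Ne.symm (mem_erase.mp hk).1
  have h' : i ≠ k' := Ne.symm (mem_erase.mp hk').1
  obtain ⟨⟨-, -, h3⟩, -⟩ := key k h.symm h
  obtain ⟨⟨-, -, h3'⟩, -⟩ := key k' h'.symm h'
  simp only [F, dif_neg h, dif_neg h'] at he
  have hqq : g • quad i k h 1 1 (Or.inl rfl) (Or.inl rfl)
      = g • quad i k' h' 1 1 (Or.inl rfl) (Or.inl rfl) := by
    refine Subtype.ext (funext fun x => ?_)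
    by_cases hx : x ∈ supp (g • quad i k h 1 1 (Or.inl rfl) (Or.inl rfl))
    · rw [h3 x hx, h3' x (he ▸ hx)]
    · have hx' := he ▸ hx
      simp only [mem_supp, not_not] at hx hx'
      rw [hx, hx']
  have := congrArg (fun v : leechLattice => (v : GolayPt → ℤ) k) (MulAction.injective g hqq)
  simp [coe_quad_apply, Ne.symm h, hne'] at this

theorem ncard_coe_shell (p : leechLattice → Prop) (F : Finset (GolayPt → ℤ))
    (h : ∀ x, x ∈ F ↔ ∃ u : leechLattice, p u ∧ (u : GolayPt → ℤ) = x) :
    {u : leechLattice | p u}.ncard = F.card := by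
  rw [← Set.ncard_image_of_injective _ (Subtype.val_injective (p := (· ∈ leechLattice))),
    ← Set.ncard_coe_finset]
  congr 1
  ext x
  simp [h]

theorem min_orbit_full {M : Subgroup Co0} (hle : stdGrp ≤ M) (hne : ¬ M ≤ stdGrp) :
    ∀ u : leechLattice, ldot u u = 32 → ∃ g ∈ M, g • vBase = u := by
  classical
  haveI : Finite Co0 := co0_finite
  set O := MulAction.orbit M vBase with hO
  have hOdiv : O.ncard ∣ 8315553613086720000 := by
    rw [hO, ← MulAction.index_stabilizer, ← card_co0 golayUnique]
    exact (Subgroup.index_dvd_card _).trans (Subgroup.card_subgroup_dvd_card M)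
  have hmem : ∀ u, u ∈ O ↔ ∃ g ∈ M, g • vBase = u := fun u =>
    ⟨fun ⟨g, e⟩ => ⟨g.1, g.2, e⟩, fun ⟨g, hg, e⟩ => ⟨⟨g, hg⟩, e⟩⟩
  have hmin : ∀ u ∈ O, ldot u u = 32 := by
    intro u hu
    obtain ⟨g, -, rfl⟩ := (hmem u).mp hu
    rw [co0_dot, vBase_norm]
  have hclosed : ∀ u ∈ O, ∀ h ∈ stdGrp, h • u ∈ O := by
    intro u hu h hh
    obtain ⟨g, hg, rfl⟩ := (hmem u).mp hu
    exact (hmem _).mpr ⟨h * g, M.mul_mem (hle hh) hg, mul_smul h g vBase⟩
  have hquad : ∀ u, IsQuad u → u ∈ O := by
    intro u hu
    obtain ⟨h, hh, e⟩ := quad_std hu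
    exact (hmem u).mpr ⟨h, hle hh, e⟩
  have hoct : ∀ w ∈ O, IsOctadVec w → ∀ u, IsOctadVec u → u ∈ O := by
    intro w hw hwo u hu
    obtain ⟨h, hh, rfl⟩ := octad_std hwo hu
    exact hclosed w hw h hh
  have hodd : ∀ w ∈ O, IsOddVec w → ∀ u, IsOddVec u → u ∈ O := by
    intro w hw hwo u hu
    obtain ⟨h, hh, rfl⟩ := odd_std hwo hu
    exact hclosed w hw h hh
  obtain ⟨c1, c0, c2⟩ := shell_parts
  have hsub : shell 2 0 32 ⊆ shell 8 0 32 := by
    intro x hx
    rw [mem_shell (Or.inl rfl)] at hx ⊢
    exact ⟨hx.1, hx.2.1, hx.2.2.1, fun i => by have := hx.2.2.2 i; omega⟩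
  have hb : ∀ u : leechLattice, ldot u u = 32 → ∀ i,
      -8 ≤ (u : GolayPt → ℤ) i ∧ (u : GolayPt → ℤ) i ≤ 8 := fun u hu i =>
    abs_le_of_sqNorm ((sqNorm_eq_ldot u).trans hu) (by norm_num) (by norm_num) i
  have hexO : (∃ w ∈ O, IsOctadVec w) ∧ ∃ w ∈ O, IsOddVec w := by
    obtain ⟨g, hg, hnq⟩ := exists_nonquad hle hne
    have hw : g • vBase ∈ O := (hmem _).mpr ⟨g, hg, rfl⟩
    rcases min_cases (hmin _ hw) with h | h | h
    · exact absurd h hnq
    · refine ⟨⟨_, hw, h⟩, ?_⟩
      by_contra hno
      push Not at hno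
      have hset : O = {u : leechLattice | ldot u u = 32 ∧ 2 ∣ (u : GolayPt → ℤ) none} := by
        ext u
        refine ⟨fun hu => ⟨hmin u hu, ?_⟩, fun ⟨hu, h2⟩ => ?_⟩
        · by_contra h2; exact hno u hu ⟨hmin u hu, h2⟩
        · rcases min_cases hu with h' | h' | h'
          · exact hquad u h'
          · exact hoct _ hw h u h'
          · exact absurd h2 h'.2
      have hc : O.ncard = 98256 := by
        rw [hset, ncard_coe_shell _ (shell 8 0 32) fun x => ?_, c0]
        rw [mem_shell (Or.inl rfl)]
        constructor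
        · intro hx
          exact ⟨⟨x, hx.1⟩, ⟨by rw [← sqNorm_eq_ldot]; exact_mod_cast hx.2.1,
            Int.dvd_of_emod_eq_zero hx.2.2.1⟩, rfl⟩
        · rintro ⟨u, ⟨hu, h2⟩, rfl⟩
          exact ⟨u.2, by rw [sqNorm_eq_ldot, hu]; rfl, Int.emod_eq_zero_of_dvd h2, hb u hu⟩
      rw [hc] at hOdiv
      norm_num at hOdiv
    · refine ⟨?_, ⟨_, hw, h⟩⟩
      by_contra hno
      push Not at hno
      have hset : O = {u : leechLattice | IsQuad u ∨ IsOddVec u} := by
        ext u
        refine ⟨fun hu => ?_, fun hu => hu.elim (hquad u) (hodd _ hw h u)⟩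
        rcases min_cases (hmin u hu) with h' | h' | h'
        · exact Or.inl h'
        · exact absurd h' (hno u hu)
        · exact Or.inr h'
      have hc : O.ncard = 99408 := by
        rw [hset, ncard_coe_shell _ ((shell 8 0 32 \ shell 2 0 32) ∪ shell 8 1 32) fun x => ?_]
        · rw [card_union_of_disjoint, card_sdiff_of_subset hsub, c0, c2, c1]
          rw [disjoint_left]
          intro x hx hy
          rw [mem_sdiff, mem_shell (Or.inl rfl)] at hx
          rw [mem_shell (Or.inr rfl)] at hy
          omega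
        · rw [mem_union, mem_sdiff, mem_shell (Or.inl rfl), mem_shell (Or.inl rfl),
            mem_shell (Or.inr rfl)]
          constructor
          · rintro (⟨hx, hnx⟩ | hx)
            · have hn : ldot (⟨x, hx.1⟩ : leechLattice) ⟨x, hx.1⟩ = 32 := by
                rw [← sqNorm_eq_ldot]; exact_mod_cast hx.2.1
              refine ⟨⟨x, hx.1⟩, Or.inl ?_, rfl⟩
              rcases min_cases hn with h' | ⟨-, k, hk⟩ | ⟨-, h'⟩
              · exact h'
              · exfalso
                obtain ⟨a, -, -, hs⟩ := octad_shape hx.1 (by exact_mod_cast hx.2.1) hk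
                refine hnx ⟨hx.1, hx.2.1, hx.2.2.1, fun i => ?_⟩
                rcases hs i with ⟨-, e⟩ | ⟨-, e | e⟩ <;> rw [e] <;> norm_num
              · exact absurd (Int.dvd_of_emod_eq_zero hx.2.2.1) h'
            · exact ⟨⟨x, hx.1⟩, Or.inr ⟨by rw [← sqNorm_eq_ldot]; exact_mod_cast hx.2.1,
                fun h2 => by have h2' : 2 ∣ x none := h2; have h3 := hx.2.2.1; omega⟩, rfl⟩
          · rintro ⟨u, h' | h', rfl⟩
            · left
              obtain ⟨a, b, hab, s, t, hs, ht, rfl⟩ := h'
              have hn : ldot (quad a b hab s t hs ht) (quad a b hab s t hs ht) = 32 := quad_norm _ _ _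
              refine ⟨⟨SetLike.coe_mem _, by rw [sqNorm_eq_ldot, hn]; rfl, ?_, hb _ hn⟩, fun hh => ?_⟩
              · rw [coe_quad_apply]; split_ifs <;> omega
              · have := hh.2.2.2 a
                rw [coe_quad_apply, if_pos rfl] at this
                omega
            · right
              exact ⟨u.2, by rw [sqNorm_eq_ldot, h'.1]; rfl, by have := h'.2; omega, hb u h'.1⟩
      rw [hc] at hOdiv
      norm_num at hOdiv
  obtain ⟨⟨w, hw, hwo⟩, w', hw', hwo'⟩ := hexO
  intro u hu
  refine (hmem u).mp ?_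
  rcases min_cases hu with h | h | h
  · exact hquad u h
  · exact hoct w hw hwo u h
  · exact hodd w' hw' hwo' u h

/-- `w` orthogonal to `vBase`, other than `± zBase`, is a pair off the first points or is spread out -/
theorem perp_cases {w : leechLattice} (hw : ldot w w = 32) (hd : ldot vBase w = 0)
    (h1 : w ≠ zBase) (h2 : w ≠ -zBase) :
    (∃ a b : GolayPt, a ≠ b ∧ supp w = {a, b} ∧ a ≠ none ∧ a ≠ some 0 ∧ b ≠ none ∧ b ≠ some 0) ∨
      ∃ (T : Finset GolayPt) (a b : GolayPt), T.card = 5 ∧ T ⊆ supp w ∧ none ∉ T ∧ some 0 ∉ T ∧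
        a ≠ none ∧ a ≠ some 0 ∧ b ≠ none ∧ b ≠ some 0 ∧
        |(w : GolayPt → ℤ) a| ≠ |(w : GolayPt → ℤ) b| := by
  classical
  rw [ldot_comm, ldot_vBase] at hd
  have pick : ∀ s : Finset GolayPt, 7 ≤ s.card → s ⊆ supp w →
      ∃ T : Finset GolayPt, T.card = 5 ∧ T ⊆ supp w ∧ none ∉ T ∧ some 0 ∉ T := by
    intro s hs hsub
    obtain ⟨T, hT, hT5⟩ := exists_subset_card_eq (s := s \ {none, some 0}) (n := 5) (by
      have h1 := le_card_sdiff ({none, some 0} : Finset GolayPt) s
      have h2 : ({none, some 0} : Finset GolayPt).card ≤ 2 := card_le_two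
      omega)
    refine ⟨T, hT5, fun x hx => hsub (mem_sdiff.mp (hT hx)).1, fun h => ?_, fun h => ?_⟩
    · simpa using (mem_sdiff.mp (hT h)).2
    · simpa using (mem_sdiff.mp (hT h)).2
  rcases min_cases hw with ⟨a, b, hab, s, t, hs, ht, rfl⟩ | ⟨-, k, hk⟩ | ⟨-, hodd⟩
  · left
    have hmiss : a ≠ none ∧ a ≠ some 0 ∧ b ≠ none ∧ b ≠ some 0 := by
      rw [coe_quad_apply, coe_quad_apply] at hd
      by_cases ha : a = none ∨ a = some 0 ∨ b = none ∨ b = some 0
      · exfalso
        have hone : ∀ (q : leechLattice), (q : GolayPt → ℤ) none = 4 → (q : GolayPt → ℤ) (some 0) = -4 →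
            supp q ⊆ {none, some 0} → q = zBase := fun q e1 e2 e3 => by
          refine Subtype.ext (funext fun i => ?_)
          show _ = (quad none (some 0) _ 1 (-1) _ _ : GolayPt → ℤ) i
          rw [coe_quad_apply]
          by_cases hi : i = none
          · subst hi; simpa using e1
          · by_cases hi' : i = some 0
            · subst hi'; simpa using e2
            · rw [if_neg hi, if_neg hi']
              by_contra hne
              have := e3 (mem_supp.mpr hne)
              simp [hi, hi'] at this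
        set q := quad a b hab s t hs ht with hq
        have hab' : ({a, b} : Finset GolayPt) = {none, some 0} := by
          rcases ha with rfl | rfl | rfl | rfl
          · by_cases hb : b = some 0
            · rw [hb]
            · simp [Ne.symm hb] at hd; omega
          · by_cases hb : b = none
            · rw [hb, pair_comm]
            · simp [Ne.symm hb] at hd; omega
          · by_cases ha : a = some 0
            · rw [ha, pair_comm]
            · simp [Ne.symm ha, Ne.symm hab] at hd; omega
          · by_cases ha : a = none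
            · rw [ha]
            · simp [Ne.symm ha, Ne.symm hab] at hd; omega
        have hsupp : supp q = {none, some 0} := (supp_quad _ _ _ _ _ _ _).trans hab'
        have hm : none ∈ supp q := by rw [hsupp]; simp
        rw [mem_supp] at hm
        have hd' : (q : GolayPt → ℤ) none + (q : GolayPt → ℤ) (some 0) = 0 := by
          rw [hq, coe_quad_apply, coe_quad_apply]; linarith
        have hv : (q : GolayPt → ℤ) none = 4 ∨ (q : GolayPt → ℤ) none = -4 := by
          rw [hq, coe_quad_apply] at hm ⊢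
          split_ifs at hm ⊢ <;> omega
        rcases hv with hv | hv
        · exact h1 (hone q hv (by omega) hsupp.subset)
        · refine h2 ?_
          have := hone (-q) (by rw [AddSubgroup.coe_neg, Pi.neg_apply, hv]; norm_num)
            (by rw [AddSubgroup.coe_neg, Pi.neg_apply]; omega)
            (fun x hx => hsupp.subset (mem_supp.mpr fun h0 => mem_supp.mp hx (by
              rw [AddSubgroup.coe_neg, Pi.neg_apply, h0, neg_zero])))
          rw [← this, neg_neg]
      · push Not at ha; exact ha
    exact ⟨a, b, hab, supp_quad _ _ _ _ _ _ _, hmiss.1, hmiss.2.1, hmiss.2.2.1, hmiss.2.2.2⟩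
  · right
    have hn : sqNorm (w : GolayPt → ℤ) = 32 := by rw [sqNorm_eq_ldot]; exact hw
    obtain ⟨c, hc, hc8, hs⟩ := octad_shape w.2 hn hk
    have hss : supp w = support₂ c := by
      ext i
      rw [mem_supp, support₂, mem_filter]
      rcases hs i with ⟨e1, e2⟩ | ⟨e1, e2⟩
      · simp [e1, e2]
      · simp only [ne_eq, e1, mem_univ, not_false_iff, and_self, iff_true]; omega
    have h8 : (supp w).card = 8 := by rw [hss, ← hammingNorm_eq_support₂, hc8]
    obtain ⟨T, hT5, hT, hTn, hT0⟩ := pick (supp w) (by omega) subset_rfl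
    obtain ⟨a, haT⟩ := card_pos.mp (by omega : 0 < T.card)
    obtain ⟨b, hb⟩ := card_pos.mp (by
      have h1 := le_card_sdiff (supp w ∪ {none, some 0}) (univ : Finset GolayPt)
      have h2 := card_union_le (supp w) ({none, some 0} : Finset GolayPt)
      have h3 : ({none, some 0} : Finset GolayPt).card ≤ 2 := card_le_two
      have h4 : (univ : Finset GolayPt).card = 24 := rfl
      omega : 0 < (univ \ (supp w ∪ {none, some 0})).card)
    simp only [mem_sdiff, mem_univ, true_and, mem_union, mem_insert, mem_singleton, not_or] at hb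
    refine ⟨T, a, b, hT5, hT, hTn, hT0, fun e => hTn (e ▸ haT), fun e => hT0 (e ▸ haT), hb.2.1,
      hb.2.2, ?_⟩
    have hb0 : (w : GolayPt → ℤ) b = 0 := by simpa [mem_supp] using hb.1
    rw [hb0, abs_zero, ne_eq, abs_eq_zero]
    exact mem_supp.mp (hT haT)
  · right
    have hn : sqNorm (w : GolayPt → ℤ) = 32 := by rw [sqNorm_eq_ldot]; exact hw
    obtain ⟨l, hl, hrest⟩ := odd_shape w.2 hn hodd
    have hall : supp w = univ := by
      refine eq_univ_of_forall fun i => mem_supp.mpr ?_
      by_cases hi : i = l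
      · subst hi; omega
      · have := hrest i hi; omega
    obtain ⟨T, hT5, hT, hTn, hT0⟩ := pick univ (by decide) (by rw [hall])
    have hl1 : l ≠ none := fun e => by
      subst e; have := hrest (some 0) (by simp); omega
    have hl2 : l ≠ some 0 := fun e => by
      subst e; have := hrest none (by simp); omega
    obtain ⟨b, hbl, hb⟩ : ∃ b, b ≠ l ∧ b ∈ T := by
      obtain ⟨b, hb⟩ := card_pos.mp (by
        have h1 := le_card_sdiff ({l} : Finset GolayPt) T
        rw [card_singleton] at h1; omega : 0 < (T \ {l}).card)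
      simp only [mem_sdiff, mem_singleton] at hb
      exact ⟨b, hb.2, hb.1⟩
    refine ⟨T, l, b, hT5, hT, hTn, hT0, hl1, hl2, fun e => hTn (e ▸ hb), fun e => hT0 (e ▸ hb), ?_⟩
    rcases hl with e | e <;> rcases hrest b hbl with e' | e' <;> rw [e, e'] <;> norm_num

theorem cross_maximal {M : Subgroup Co0} (hle : stdGrp ≤ M) (hne : ¬ M ≤ stdGrp) : M = ⊤ := by
  classical
  haveI : Finite Co0 := co0_finite
  haveI : Fact (Nat.Prime 23) := ⟨by norm_num⟩
  have hU := golayUnique
  have hG := card_co0 hU
  have hmin := min_orbit_full hle hne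
  set G2 := MulAction.stabilizer Co0 vBase with hG2
  have hcM : Nat.card ↥(M ⊓ G2) * 196560 = Nat.card M := by
    have h := H90.natCard_inf_stabilizer M vBase {u | ldot u u = 32} fun u =>
      ⟨fun hu => hmin u hu, fun ⟨g, _, e⟩ => by
        show ldot u u = 32; rw [← e, co0_dot, vBase_norm]⟩
    rwa [leechLike.count32] at h
  have hcG : Nat.card G2 * 196560 = 8315553613086720000 := by
    have h := H90.natCard_stabilizer_mul vBase {u : leechLattice | ldot u u = 32} fun u => by
      refine ⟨fun hu => transitive_32 hU vBase_norm hu, ?_⟩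
      rintro ⟨g, rfl⟩
      show ldot (g • vBase) (g • vBase) = 32
      rw [co0_dot, vBase_norm]
    rwa [leechLike.count32, hG] at h
  set P := {z : leechLattice | ∃ g ∈ M ⊓ G2, g • zBase = z} with hP
  have hcP : Nat.card ↥((M ⊓ G2) ⊓ MulAction.stabilizer Co0 zBase) * P.ncard = Nat.card ↥(M ⊓ G2) :=
    H90.natCard_inf_stabilizer _ zBase P fun u => Iff.rfl
  have hcW : Nat.card ↥(G2 ⊓ MulAction.stabilizer Co0 zBase) * 93150 = Nat.card G2 := by
    have h := H90.natCard_inf_stabilizer G2 zBase (minWith vBase 0) fun u => by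
      constructor
      · intro hu
        obtain ⟨g, h1, h2⟩ := orth_pair_transitive hU vBase_norm zBase_norm vBase_zBase
          vBase_norm hu.1 hu.2
        exact ⟨g, h1, h2⟩
      · rintro ⟨g, hg, rfl⟩
        refine ⟨by rw [co0_dot, zBase_norm], ?_⟩
        conv_lhs => rw [← MulAction.mem_stabilizer_iff.mp hg]
        rw [co0_dot, vBase_zBase]
    rwa [(census_min hU vBase_norm).2.2] at h
  have heq : (M ⊓ G2) ⊓ MulAction.stabilizer Co0 zBase = G2 ⊓ MulAction.stabilizer Co0 zBase := by
    refine le_antisymm (inf_le_inf_right _ inf_le_right) fun g hg => ⟨⟨hle ?_, hg.1⟩, hg.2⟩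
    refine fixesStd_iff.mp (fixesStd_of_eight ?_)
    rw [eight_add_quad none (some 0) (by simp), co0_add]
    show g • vBase + g • zBase = vBase + zBase
    rw [MulAction.mem_stabilizer_iff.mp hg.1, MulAction.mem_stabilizer_iff.mp hg.2]
  rw [heq] at hcP
  -- the index
  have hmi : M.index * P.ncard = 93150 := by
    have h1 := M.card_mul_index
    rw [hG, ← hcM, ← hcP] at h1
    rw [← hcW] at hcG
    have hpos : 0 < Nat.card ↥(G2 ⊓ MulAction.stabilizer Co0 zBase) * 196560 :=
      Nat.mul_pos Nat.card_pos (by norm_num)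
    refine Nat.eq_of_mul_eq_mul_left hpos ?_
    calc _ = Nat.card ↥(G2 ⊓ MulAction.stabilizer Co0 zBase) * P.ncard * 196560 * M.index := by ring
      _ = 8315553613086720000 := h1
      _ = _ := by rw [← hcG]; ring
  have hidxH : M.index ∣ 8292375 := by
    have h1 : Nat.card stdGrp = 4096 * 244823040 := by
      rw [← H90.natCard_M24, ← card_fixesStd]
      exact Nat.card_congr (Equiv.subtypeEquivRight fun g => fixesStd_iff.symm)
    have h2 := stdGrp.card_mul_index
    rw [h1, hG] at h2
    have h3 : stdGrp.index = 8292375 :=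
      Nat.eq_of_mul_eq_mul_left (by norm_num : 0 < 4096 * 244823040) (h2.trans (by norm_num))
    rw [← h3, ← Subgroup.relIndex_mul_index hle]
    exact Dvd.intro_left _ rfl
  have hmod : M.index % 23 = 1 := by
    have hfac : ∀ K : Subgroup Co0, tauT ∈ K → (Nat.card K).factorization 23 = 1 := by
      intro K hK
      have h23 : Nat.Prime 23 := by norm_num
      have hn : Nat.card K ≠ 0 := Nat.card_pos.ne'
      have ha : 1 ≤ (Nat.card K).factorization 23 :=
        h23.pow_dvd_iff_le_factorization hn |>.mp (by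
          rw [pow_one, ← order_tauT]; exact Subgroup.orderOf_dvd_natCard K hK)
      have hb : ¬ 2 ≤ (Nat.card K).factorization 23 := fun h => by
        have := ((h23.pow_dvd_iff_le_factorization hn).mpr h).trans (Subgroup.card_subgroup_dvd_card K)
        rw [hG] at this
        norm_num at this
      omega
    have hτM : tauT ∈ M := hle (permHom_mem_std _)
    have hfG : (Nat.card Co0).factorization 23 = 1 := by
      have := hfac ⊤ (Subgroup.mem_top _)
      rwa [Subgroup.card_top] at this
    set Z := Subgroup.zpowers tauT with hZ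
    have hcZ : Nat.card Z = 23 := by rw [hZ, Nat.card_zpowers, order_tauT]
    let SG : Sylow 23 Co0 := Sylow.ofCard Z (by rw [hcZ, hfG, pow_one])
    have hZM : Z ≤ M := Subgroup.zpowers_le.mpr hτM
    let SM : Sylow 23 M := Sylow.ofCard (Z.subgroupOf M) (by
      rw [Nat.card_congr (Subgroup.subgroupOfEquivOfLe hZM).toEquiv, hcZ, hfac M hτM, pow_one])
    set Nm := Subgroup.normalizer (Z : Set Co0) with hNm
    have hNM : Nm ≤ M := fun g hg => hle (norm_tauT ((hg tauT).mp (Subgroup.mem_zpowers _)))
    have iG := SG.card_eq_index_normalizer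
    rw [show (SG : Set Co0) = (Z : Set Co0) from rfl, ← hNm] at iG
    have iM := SM.card_eq_index_normalizer
    rw [show (SM : Set M) = ((Z.subgroupOf M : Subgroup M) : Set M) from rfl,
      ← Subgroup.subgroupOf_normalizer_eq hZM, ← hNm] at iM
    have mG := card_sylow_modEq_one 23 Co0
    have mM := card_sylow_modEq_one 23 M
    rw [iG, ← Subgroup.relIndex_mul_index hNM] at mG
    rw [iM] at mM
    have : M.index ≡ 1 [MOD 23] := by
      calc M.index = 1 * M.index := (one_mul _).symm
        _ ≡ Nm.relIndex M * M.index [MOD 23] := Nat.ModEq.mul_right _ mM.symm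
        _ ≡ 1 [MOD 23] := mG
    exact this
  have hd2025 : M.index ∣ 2025 := by
    have h := Nat.dvd_gcd hidxH (Dvd.intro _ hmi : M.index ∣ 93150)
    rwa [show Nat.gcd 8292375 93150 = 2025 by decide +kernel] at h
  have hlist : ∀ d ∈ Nat.divisors 2025, d % 23 = 1 → d = 1 ∨ d = 2025 := by decide +kernel
  rcases hlist _ (Nat.mem_divisors.mpr ⟨hd2025, by norm_num⟩) hmod with h1 | h1
  · exact Subgroup.index_eq_one.mp h1
  exfalso
  have hP46 : P.ncard = 46 := by rw [h1] at hmi; omega
  have hPfin : P.Finite := Set.finite_of_ncard_ne_zero (by omega)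
  have hPm : ∀ z ∈ P, ldot z z = 32 ∧ ldot vBase z = 0 := by
    rintro _ ⟨g, hg, rfl⟩
    refine ⟨by rw [co0_dot, zBase_norm], ?_⟩
    conv_lhs => rw [← MulAction.mem_stabilizer_iff.mp hg.2]
    rw [co0_dot, vBase_zBase]
  have hPc : ∀ z ∈ P, ∀ h ∈ stdGrp, h • vBase = vBase → h • z ∈ P := by
    rintro _ ⟨g, hg, rfl⟩ h hh hv
    exact ⟨h * g, (M ⊓ G2).mul_mem ⟨hle hh, hv⟩ hg, mul_smul h g zBase⟩
  obtain ⟨w, hwP, hw1, hw2⟩ : ∃ w ∈ P, w ≠ zBase ∧ w ≠ -zBase := by
    by_contra hc
    push Not at hc
    have : P.ncard ≤ ({zBase, -zBase} : Set leechLattice).ncard :=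
      Set.ncard_le_ncard (fun z hz => by
        by_cases h : z = zBase
        · exact Or.inl h
        · exact Or.inr (hc z hz h)) (Set.toFinite _)
    have h2 : ({zBase, -zBase} : Set leechLattice).ncard ≤ 2 := by
      have := Set.ncard_insert_le zBase ({-zBase} : Set leechLattice)
      rwa [Set.ncard_singleton] at this
    omega
  obtain ⟨hwn, hwd⟩ := hPm w hwP
  set T22 := ((univ : Finset GolayPt).erase none).erase (some 0) with hT22
  have hT22c : T22.card = 22 := by
    rw [hT22, card_erase_of_mem (by simp), card_erase_of_mem (mem_univ _), card_univ]; rfl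
  set PF := hPfin.toFinset with hPF
  have hPFc : PF.card = 46 := by rw [← hP46, Set.ncard_eq_toFinset_card P hPfin]
  have hperm : ∀ σ : M24, σ.1 none = none → σ.1 (some 0) = some 0 → ∀ z ∈ P, permHom σ • z ∈ P := by
    intro σ h1 h2 z hz
    exact hPc z hz _ (permHom_mem_std σ) (mono_fix_vBase σ.2 empty_supp h1 h2 (by simp) (by simp))
  rcases perp_cases hwn hwd hw1 hw2 with ⟨a, b, hab, hsupp, ha1, ha2, hb1, hb2⟩ |
    ⟨T, a, b, hT5, hT, hTn, hT0, ha1, ha2, hb1, hb2, habs⟩
  · have hsub : T22.powersetCard 2 ⊆ PF.image supp := by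
      intro S hS
      obtain ⟨hSs, hS2⟩ := mem_powersetCard.mp hS
      obtain ⟨c, d, hcd, rfl⟩ := card_eq_two.mp hS2
      have hc := hSs (mem_insert_self c _)
      have hd := hSs (mem_insert_of_mem (mem_singleton_self d))
      simp only [hT22, mem_erase] at hc hd
      obtain ⟨σ, hσ, he⟩ := m24_move (k := 4) (by norm_num)
        ⟨![none, some 0, a, b], by
          intro i j
          fin_cases i <;> fin_cases j <;>
            simp [ha1, ha2, hb1, hb2, Ne.symm ha1, Ne.symm ha2, Ne.symm hb1, Ne.symm hb2, hab, hab.symm]⟩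
        ⟨![none, some 0, c, d], by
          intro i j
          fin_cases i <;> fin_cases j <;>
            simp [hc.1, hc.2.1, hd.1, hd.2.1, Ne.symm hc.1, Ne.symm hc.2.1, Ne.symm hd.1,
              Ne.symm hd.2.1, hcd, hcd.symm]⟩
      refine mem_image.mpr ⟨_, hPfin.mem_toFinset.mpr (hperm ⟨σ, hσ⟩ (he 0) (he 1) w hwP), ?_⟩
      ext x
      rw [mem_supp, permHom_apply, ← mem_supp, hsupp]
      simp only [mem_insert, mem_singleton, Equiv.symm_apply_eq]
      rw [show (⟨σ, hσ⟩ : M24).1 a = c from he 2, show (⟨σ, hσ⟩ : M24).1 b = d from he 3]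
    have hle231 := (card_le_card hsub).trans card_image_le
    rw [card_powersetCard, hT22c, hPFc] at hle231
    norm_num [Nat.choose] at hle231
  · -- many sign changes
    have hsigns : ∀ z ∈ P, ∀ U : Finset GolayPt, U.card = 5 → U ⊆ supp z → none ∉ U → some 0 ∉ U →
        32 ≤ (PF.filter fun z' : leechLattice => ∀ i, |(z' : GolayPt → ℤ) i| = |(z : GolayPt → ℤ) i|).card := by
      intro z hz U hU5 hU hUn hU0
      have hex : ∀ V : Finset GolayPt, ∃ d : golayCode, d.1 none = 0 ∧ d.1 (some 0) = 0 ∧
          ∀ i ∈ U, (d.1 i ≠ 0 ↔ i ∈ V) := by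
        intro V
        obtain ⟨d, hd, hdT⟩ := exists_code_small (insert none (insert (some 0) U))
          (by
            have h1 := card_insert_le none (insert (some 0) U)
            have h2 := card_insert_le (some 0) U
            omega) (fun i => if i ∈ U ∧ i ∈ V then 1 else 0)
        refine ⟨⟨d, hd⟩, ?_, ?_, fun i hi => ?_⟩
        · show d none = 0
          rw [hdT none (by simp)]; simp [hUn]
        · show d (some 0) = 0
          rw [hdT (some 0) (by simp)]; simp [hU0]
        · show d i ≠ 0 ↔ _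
          rw [hdT i (by simp [hi])]
          by_cases hiV : i ∈ V <;> simp [hi, hiV]
      choose d hd1 hd2 hd3 using hex
      have h32 : (U.powerset).card = 32 := by rw [card_powerset, hU5]; rfl
      rw [← h32]
      refine card_le_card_of_injOn (fun V => signEl (d V) • z) (fun V _ => ?_) ?_
      · rw [coe_filter]
        refine ⟨hPfin.mem_toFinset.mpr (hPc z hz _ (signEl_mem_std _) ?_), fun i => ?_⟩
        · exact mono_fix_vBase (one_mem _) (code_supp _) rfl rfl (by simp [support₂, hd1])
            (by simp [support₂, hd2])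
        · rw [signEl_coord]; split <;> simp
      · intro V hV V' hV' e
        rw [mem_coe, mem_powerset] at hV hV'
        ext i
        by_cases hi : i ∈ U
        · have e' := congrArg (fun v : leechLattice => (v : GolayPt → ℤ) i) e
          simp only [signEl_coord] at e'
          have hz0 := mem_supp.mp (hU hi)
          rw [← hd3 V i hi, ← hd3 V' i hi]
          by_cases p1 : (d V).1 i ≠ 0 <;> by_cases p2 : (d V').1 i ≠ 0
          · exact iff_of_true p1 p2
          · rw [if_pos p1, if_neg p2] at e'; omega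
          · rw [if_neg p1, if_pos p2] at e'; omega
          · exact iff_of_false p1 p2
        · exact ⟨fun h => absurd (hV h) hi, fun h => absurd (hV' h) hi⟩
    have hab : a ≠ b := fun e => habs (by rw [e])
    obtain ⟨σ, hσ, s1, s2, s3⟩ := m24_move_three (p := none) (q := some 0) (r := a) (p' := none)
      (q' := some 0) (r' := b) (by simp) ha1.symm ha2.symm (by simp) hb1.symm hb2.symm
    set w' := permHom ⟨σ, hσ⟩ • w with hw'
    have hw'P : w' ∈ P := hperm ⟨σ, hσ⟩ s1 s2 w hwP
    have hT' : T.image σ ⊆ supp w' := by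
      intro x hx
      obtain ⟨y, hy, rfl⟩ := mem_image.mp hx
      rw [mem_supp, hw', permHom_apply]
      show (w : GolayPt → ℤ) (σ.symm (σ y)) ≠ 0
      rw [Equiv.symm_apply_apply]
      exact mem_supp.mp (hT hy)
    have hA := hsigns w hwP T hT5 hT hTn hT0
    have hB := hsigns w' hw'P (T.image σ) (by rw [card_image_of_injective _ σ.injective, hT5]) hT'
      (fun h => by
        obtain ⟨y, hy, e⟩ := mem_image.mp h
        exact hTn ((σ.injective (e.trans s1.symm)) ▸ hy))
      (fun h => by
        obtain ⟨y, hy, e⟩ := mem_image.mp h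
        exact hT0 ((σ.injective (e.trans s2.symm)) ▸ hy))
    have hdisj : Disjoint
        (PF.filter fun z' : leechLattice => ∀ i, |(z' : GolayPt → ℤ) i| = |(w : GolayPt → ℤ) i|)
        (PF.filter fun z' : leechLattice => ∀ i, |(z' : GolayPt → ℤ) i| = |(w' : GolayPt → ℤ) i|) := by
      rw [disjoint_left]
      intro x hx hy
      have e1 := (mem_filter.mp hx).2 b
      have e2 := (mem_filter.mp hy).2 b
      rw [hw', permHom_apply,
        show (⟨σ, hσ⟩ : M24).1.symm b = a by rw [Equiv.symm_apply_eq]; exact s3.symm] at e2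
      exact habs (e2.symm.trans e1)
    have hcard := card_le_card (union_subset (filter_subset _ PF) (filter_subset _ PF) :
      (PF.filter fun z' : leechLattice => ∀ i, |(z' : GolayPt → ℤ) i| = |(w : GolayPt → ℤ) i|) ∪
        (PF.filter fun z' : leechLattice => ∀ i, |(z' : GolayPt → ℤ) i| = |(w' : GolayPt → ℤ) i|) ⊆ PF)
    rw [card_union_of_disjoint hdisj, hPFc] at hcard
    omega

end H95
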