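import Cfsg.Agent.H95.OutCrit

/-!
Adjusting an automorphism on a pair `x`, `y`.
-/

set_option autoImplicit false

namespace H95

/-- an automorphism adjusted on a pair `x`, `y` -/
theorem exists_adjusted_norm {G : Type*} [Group G] {p q : ℕ} [Fact p.Prime] [Fact q.Prime] [Finite G] (x y : G) (r : ℕ)
    (hsq : ¬ p ^ 2 ∣ Nat.card G) (hx : orderOf x = p) (hy : orderOf y = q)
    (hyx : y * x * y⁻¹ = x ^ r)
    (hr : ∀ j < q, (r : ZMod p) ^ j = (r : ZMod p) → j = 1)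
    (hcls : ∀ k : ZMod p, k ≠ 0 → ∃ c : ℕ, (r : ZMod p) ^ c * k = 1 ∨ (r : ZMod p) ^ c * k = -1)
    (hN : ∀ g : G, g * x * g⁻¹ ∈ Subgroup.zpowers x → ∃ i j : ℕ, g = x ^ i * y ^ j)
    (φ : MulAut G) :
    ∃ (ψ : MulAut G) (k : ℕ), ψ⁻¹ * φ ∈ Cfsg.Inn G ∧ (k = 1 ∨ k = p - 1) ∧
      ψ x = x ^ k ∧ ψ y = y := by
  have hp := (inferInstance : Fact p.Prime)
  have hq := (inferInstance : Fact q.Prime)
  have hr1 : (r : ZMod p) ≠ 1 := fun h => by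
    have := hr 0 hq.out.pos (by rw [pow_zero, h])
    omega
  obtain ⟨g, hg⟩ := exists_conj_zpowers hsq (by rw [MulEquiv.orderOf_eq, hx] : orderOf (φ x) = p) hx
  obtain ⟨k, hk⟩ := mem_powers_iff_mem_zpowers.mpr hg
  set φ₁ : MulAut G := MulAut.conj g * φ with hφ₁
  have h1x : φ₁ x = x ^ k := hk.symm
  have hk0 : (k : ZMod p) ≠ 0 := fun h0 => by
    have h' : φ₁ x = 1 := by
      rw [h1x, ← pow_zero x]; exact pow_eq_of_zmod hx (by rw [h0, Nat.cast_zero])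
    have hx1 : x = 1 := φ₁.injective (h'.trans (map_one φ₁).symm)
    rw [hx1, orderOf_one] at hx
    exact hp.out.one_lt.ne hx
  have h1y : φ₁ y * x ^ k * (φ₁ y)⁻¹ = x ^ (k * r) := by
    rw [← h1x, ← map_inv, ← map_mul, ← map_mul, hyx, map_pow, h1x, ← pow_mul]
  have hmem : φ₁ y * x * (φ₁ y)⁻¹ ∈ Subgroup.zpowers x := by
    have hxk : x = (x ^ k) ^ ((k : ZMod p)⁻¹).val := by
      conv_lhs => rw [← pow_one x]
      rw [← pow_mul]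
      refine pow_eq_of_zmod hx ?_
      rw [Nat.cast_one, Nat.cast_mul, ZMod.natCast_zmod_val, mul_inv_cancel₀ hk0]
    have e1 : φ₁ y * x * (φ₁ y)⁻¹ = (x ^ (k * r)) ^ ((k : ZMod p)⁻¹).val := by
      rw [← h1y, conj_pow, ← hxk]
    rw [e1]
    exact pow_mem (Subgroup.npow_mem_zpowers x _) _
  obtain ⟨i, j, hij⟩ := hN _ hmem
  have hj : φ₁ y = x ^ i * y := by
    have hyj : y ^ j = y ^ (j % q) := by rw [← hy, pow_mod_orderOf]
    rw [hij, hyj, show j % q = 1 from ?_, pow_one]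
    refine hr _ (Nat.mod_lt _ hq.out.pos) ?_
    have e1 : x ^ (r ^ (j % q) * k) = x ^ (k * r) := by
      rw [← h1y, hij, hyj, ← conj_pow_iter hyx, mul_inv_rev]
      have hc : x ^ i * (y ^ (j % q) * x ^ k * (y ^ (j % q))⁻¹) * (x ^ i)⁻¹
          = y ^ (j % q) * x ^ k * (y ^ (j % q))⁻¹ := by
        rw [conj_pow_iter hyx, ← pow_add, mul_inv_eq_iff_eq_mul, ← pow_add, add_comm]
      conv_lhs => rw [← hc]
      group
    have e2 := zmod_of_pow_eq hx e1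
    rw [Nat.cast_mul, Nat.cast_mul, Nat.cast_pow, mul_comm (k : ZMod p) (r : ZMod p)] at e2
    exact mul_right_cancel₀ hk0 e2
  obtain ⟨a, ha⟩ := conj_adjust hx hyx hr1 i
  set φ₂ : MulAut G := MulAut.conj (x ^ a) * φ₁ with hφ₂
  have h2x : φ₂ x = x ^ k := by
    show x ^ a * φ₁ x * (x ^ a)⁻¹ = x ^ k
    rw [h1x, ← pow_add, mul_inv_eq_iff_eq_mul, ← pow_add, add_comm]
  have h2y : φ₂ y = y := by
    show x ^ a * φ₁ y * (x ^ a)⁻¹ = y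
    rw [hj]; exact ha
  obtain ⟨c, hc⟩ := hcls _ hk0
  obtain ⟨k', hk'⟩ : ∃ k', (k' = 1 ∨ k' = p - 1) ∧ ((r ^ c * k : ℕ) : ZMod p) = (k' : ZMod p) := by
    rcases hc with h | h
    · exact ⟨1, Or.inl rfl, by rw [Nat.cast_mul, Nat.cast_pow, h, Nat.cast_one]⟩
    · refine ⟨p - 1, Or.inr rfl, ?_⟩
      rw [Nat.cast_mul, Nat.cast_pow, h, Nat.cast_sub hp.out.one_le, ZMod.natCast_self,
        Nat.cast_one, zero_sub]
  refine ⟨MulAut.conj (y ^ c) * φ₂, k', ?_, hk'.1, ?_, ?_⟩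
  · have e : (MulAut.conj (y ^ c) * φ₂)⁻¹ * φ = φ⁻¹ * ((MulAut.conj g)⁻¹ * (MulAut.conj (x ^ a))⁻¹ *
        (MulAut.conj (y ^ c))⁻¹) * φ := by
      rw [hφ₂, hφ₁]; group
    rw [e]
    have hm : (MulAut.conj g)⁻¹ * (MulAut.conj (x ^ a))⁻¹ * (MulAut.conj (y ^ c))⁻¹ ∈ Cfsg.Inn G :=
      mul_mem (mul_mem (inv_mem ⟨g, rfl⟩) (inv_mem ⟨_, rfl⟩)) (inv_mem ⟨_, rfl⟩)
    simpa using (Cfsg.innNormal G).conj_mem _ hm φ⁻¹
  · show y ^ c * φ₂ x * (y ^ c)⁻¹ = _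
    rw [h2x, conj_pow_iter hyx]
    exact pow_eq_of_zmod hx hk'.2
  · show y ^ c * φ₂ y * (y ^ c)⁻¹ = y
    rw [h2y, mul_inv_eq_iff_eq_mul]
    exact (Commute.pow_self y c).eq

end H95
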