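import Cfsg.Agent.H95.Co1Checks
import Cfsg.Agent.H95.OutAdjust
import Cfsg.Agent.H95.CrossMaximal
import Cfsg.Agent.H90.NormCycle

/-!
All automorphisms of the lattice group modulo its centre are inner.
-/

set_option autoImplicit false

namespace H95

open Cfsg Finset

theorem evalC_two (a b : ℕ) : evalC [a, b] = genC a * genC b := by simp [evalC]

theorem conj_exp (l n : ℕ) (h : sameC [l, 1] (List.replicate n 1 ++ [l]) = true) :
    genC l * genC 1 * (genC l)⁻¹ = genC 1 ^ n := by
  have h' := sameC_spec h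
  rw [evalC_two, evalC_append, evalC_replicate] at h'
  rw [h', show evalC [l] = genC l by simp [evalC], mul_inv_cancel_right]

theorem genC_conj_y : ∀ l ∈ [2, 3, 4, 5], ∃ t : ℕ,
    genC l * genC 1 * (genC l)⁻¹ = genC 1 ^ t := by
  intro l hl
  simp only [List.mem_cons, List.not_mem_nil, or_false] at hl
  rcases hl with rfl | rfl | rfl | rfl
  · exact ⟨1, conj_exp 2 1 conj_d⟩
  · exact ⟨3, conj_exp 3 3 conj_s⟩
  · exact ⟨10, conj_exp 4 10 conj_p⟩
  · exact ⟨3, conj_exp 5 3 conj_e⟩

theorem two_order23 : ∀ j < 11, ((2 : ℕ) : ZMod 23) ^ j = ((2 : ℕ) : ZMod 23) → j = 1 := by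
  decide +kernel

theorem two_class23 : ∀ k : ZMod 23, k ≠ 0 →
    ∃ c : ℕ, ((2 : ℕ) : ZMod 23) ^ c * k = 1 ∨ ((2 : ℕ) : ZMod 23) ^ c * k = -1 := by
  have h : ∀ k : ZMod 23, k ≠ 0 →
      ∃ c : Fin 11, ((2 : ℕ) : ZMod 23) ^ c.val * k = 1 ∨ ((2 : ℕ) : ZMod 23) ^ c.val * k = -1 := by
    decide +kernel
  exact fun k hk => let ⟨c, hc⟩ := h k hk; ⟨c.val, hc⟩

theorem order_y0 : orderOf (genC 1) = 11 := by
  show orderOf (permHom dblPerm) = 11
  rw [orderOf_injective _ permHom_injective]; exact order_dblPerm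

theorem negOne_pow_odd (n : ℕ) : negOne ^ (2 * n + 1) = (negOne : Co0) := by
  rw [pow_add, pow_mul, sq, negOne_sq, one_pow, one_mul, pow_one]

/-- an element commuting up to sign with one of odd order commutes with it -/
theorem sign_free {a b : Co0} {m : ℕ} (ha : orderOf a = 2 * m + 1) (hb : b ^ (2 * m + 1) = 1) :
    a ≠ negOne * b := by
  intro h
  have h1 : a ^ (2 * m + 1) = 1 := by rw [← ha, pow_orderOf_eq_one]
  rw [h, (show Commute negOne b from negOne_comm b).mul_pow, hb, mul_one, negOne_pow_odd] at h1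
  exact negOne_ne_one h1

theorem mem_evalC_reps {r : Co0} (hr : r ∈ repWords.map evalC) : Commute r (permHom dblPerm) := by
  obtain ⟨w, hw, rfl⟩ := List.mem_map.mp hr
  have hd : Commute (genC 2) (genC 1) := by
    have := sameC_spec conj_d
    rwa [evalC_two, evalC_two] at this
  have hf : Commute (genC 6) (genC 1) := by
    have := sameC_spec conj_f
    rwa [evalC_two, evalC_two] at this
  simp only [repWords, List.mem_cons, List.not_mem_nil, or_false] at hw
  rcases hw with rfl | rfl | rfl
  · simp [evalC]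
  · rw [show evalC [6] = genC 6 by simp [evalC]]; exact hf
  · rw [evalC_two]; exact hd.mul_left hf

/-- the centraliser of doubling modulo the centre -/
theorem cent_qC {z : Spor.Co1} (hz : z * qC (genC 1) = qC (genC 1) * z) :
    ∃ ri a j : ℕ, ri < 3 ∧ a < 2 ∧ j < 11 ∧
      z = qC (evalC (repWords.getD ri [] ++ List.replicate a 2 ++ List.replicate j 1)) := by
  obtain ⟨z, rfl⟩ := qC_surjective z
  rw [← map_mul, ← map_mul, qC_eq_iff] at hz
  have hcomm : Commute z (permHom dblPerm) := by
    rcases hz with h | h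
    · exact h
    · exfalso
      refine sign_free (m := 5) (a := z * genC 1 * z⁻¹) (b := genC 1) ?_ ?_ ?_
      · exact (MulEquiv.orderOf_eq (MulAut.conj z) (genC 1)).trans order_y0
      · show genC 1 ^ 11 = 1
        rw [← order_y0, pow_orderOf_eq_one]
      · rw [h, ← mul_assoc, mul_inv_cancel_right]
  have hreps : ∀ l ∈ sols12, ∃ r ∈ repWords.map evalC, ∃ u : leechLattice,
      (u = eight none ∨ u = -eight none ∨ u = eight (some 0) ∨ u = -eight (some 0)) ∧
      vecL ((r • u : leechLattice) : GolayPt → ℤ) = l := by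
    intro l hl
    simp only [sols12, List.mem_flatMap, List.mem_map] at hl
    obtain ⟨w, hw, b, hb, rfl⟩ := hl
    refine ⟨evalC w, List.mem_map.mpr ⟨w, hw, rfl⟩, ?_⟩
    have h23 : vecL ((eight none : leechLattice) : GolayPt → ℤ) = eightL 23 := vecL_eight 23
    have h00 : vecL ((eight (some 0) : leechLattice) : GolayPt → ℤ) = eightL 0 := vecL_eight 0
    simp only [baseL, List.mem_cons, List.not_mem_nil, or_false] at hb
    rcases hb with rfl | rfl | rfl | rfl
    · exact ⟨_, Or.inl rfl, by rw [vecL_evalC, h23]⟩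
    · exact ⟨_, Or.inr (Or.inl rfl), by rw [vecL_evalC, vecL_neg, h23]⟩
    · exact ⟨_, Or.inr (Or.inr (Or.inl rfl)), by rw [vecL_evalC, h00]⟩
    · exact ⟨_, Or.inr (Or.inr (Or.inr rfl)), by rw [vecL_evalC, vecL_neg, h00]⟩
  obtain ⟨r, hr, a, j, ha, hj, h⟩ := cent_dbl (repWords.map evalC) sols12 sols12_all hreps
    (fun r hr => mem_evalC_reps hr) hcomm
  obtain ⟨w, hw, rfl⟩ := List.mem_map.mp hr
  obtain ⟨ri, hri, rfl⟩ := List.getElem_of_mem hw
  refine ⟨ri, a, j, hri, ha, hj, ?_⟩
  have hgd : repWords.getD ri [] = repWords[ri] := List.getD_eq_getElem _ _ hri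
  have he : evalC (repWords.getD ri [] ++ List.replicate a 2 ++ List.replicate j 1)
      = evalC repWords[ri] * dEl ^ a * permHom dblPerm ^ j := by
    rw [evalC_append, evalC_append, evalC_replicate, evalC_replicate, hgd]
    rfl
  rw [he]
  rcases h with h | h
  · rw [h]
  · rw [h, map_mul, qC_negOne, one_mul]

theorem order_qx : orderOf (qC (genC 0)) = 23 := by
  haveI : Fact (Nat.Prime 23) := ⟨by norm_num⟩
  refine orderOf_eq_prime ?_ fun h => ?_
  · rw [← map_pow, show genC 0 ^ 23 = 1 from order_tauT ▸ pow_orderOf_eq_one tauT, map_one]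
  · rcases qC_eq_one.mp h with e | e
    · have := order_tauT
      rw [show tauT = 1 from e, orderOf_one] at this
      norm_num at this
    · have h1 := order_tauT
      rw [show tauT = negOne from e] at h1
      have h2 : orderOf (negOne : Co0) ∣ 2 := orderOf_dvd_of_pow_eq_one (by rw [sq, negOne_sq])
      rw [h1] at h2
      norm_num at h2

theorem order_qy : orderOf (qC (genC 1)) = 11 := by
  haveI : Fact (Nat.Prime 11) := ⟨by norm_num⟩
  refine orderOf_eq_prime ?_ fun h => ?_
  · rw [← map_pow, ← order_y0, pow_orderOf_eq_one, map_one]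
  · rcases qC_eq_one.mp h with e | e
    · have := order_y0
      rw [e, orderOf_one] at this
      norm_num at this
    · have h1 := order_y0
      rw [e] at h1
      have h2 : orderOf (negOne : Co0) ∣ 2 := orderOf_dvd_of_pow_eq_one (by rw [sq, negOne_sq])
      rw [h1] at h2
      norm_num at h2

theorem yxy0 : genC 1 * genC 0 * (genC 1)⁻¹ = genC 0 ^ 2 := by
  show permHom dblPerm * permHom translOne * (permHom dblPerm)⁻¹ = permHom translOne ^ 2
  rw [← map_inv, ← map_mul, ← map_mul, ← map_pow]
  refine congrArg permHom (mul_inv_eq_iff_eq_mul.mpr (Subtype.ext (Equiv.ext fun p => ?_)))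
  show dblPerm.1 (translOne.1 p) = (translOne ^ 2).1 (dblPerm.1 p)
  rcases p with _ | t
  · rw [show translOne.1 none = none from rfl, dblPerm_none, translOne_pow_none]
  · rw [show translOne.1 (some t) = some (t + 1) from rfl, dblPerm_some, dblPerm_some,
      translOne_pow_some]
    congr 1
    push_cast
    ring

/-- the normaliser of translation modulo the centre -/
theorem norm_qx {z : Spor.Co1} (hz : z * qC (genC 0) * z⁻¹ ∈ Subgroup.zpowers (qC (genC 0))) :
    ∃ i j : ℕ, z = qC (genC 0) ^ i * qC (genC 1) ^ j := by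
  haveI : Finite Co0 := co0_finite
  obtain ⟨g, rfl⟩ := qC_surjective z
  obtain ⟨k, hk⟩ := mem_powers_iff_mem_zpowers.mpr hz
  have hk' : qC (g * tauT * g⁻¹) = qC (tauT ^ k) := by
    rw [map_mul, map_mul, map_inv, map_pow]; exact hk.symm
  have hgk : g * tauT * g⁻¹ = tauT ^ k := by
    rcases qC_eq_iff.mp hk' with h | h
    · exact h
    · refine absurd h (sign_free (m := 11) ?_ ?_)
      · exact (MulEquiv.orderOf_eq (MulAut.conj g) tauT).trans order_tauT
      · rw [← pow_mul, mul_comm, pow_mul]
        show (tauT ^ 23) ^ k = 1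
        rw [← order_tauT, pow_orderOf_eq_one, one_pow]
  obtain ⟨σ, hσ⟩ := norm_tauT (g := g) (hgk ▸ Subgroup.npow_mem_zpowers tauT k)
  obtain ⟨c, hσM, hc, hgm⟩ := hσ.exists_mono
  have hperm : σ * H90.genT * σ⁻¹ = H90.genT ^ k := by
    have h1 := (hσ.mul monMap_tauT).mul hσ.inv
    rw [hgk] at h1
    exact h1.unique (monMap_tauT.pow k)
  have hσn : σ none = none := by
    have h1 := Equiv.ext_iff.mp (mul_inv_eq_iff_eq_mul.mp hperm) none
    simp only [Equiv.Perm.mul_apply] at h1
    rw [show H90.genT none = none from rfl] at h1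
    rcases hy : σ none with _ | y
    · rfl
    · exfalso
      rw [hy, H90.genT_pow_some] at h1
      have hk0 : (k : ZMod 23) = 0 := by simpa using (Option.some.inj h1).symm
      have hk1 : tauT ^ k = 1 := by
        rw [← pow_mod_orderOf, order_tauT]
        have : k % 23 = 0 := Nat.mod_eq_zero_of_dvd ((ZMod.natCast_eq_zero_iff k 23).mp hk0)
        rw [this, pow_zero]
      rw [hk1, conj_eq_one_iff] at hgk
      have := order_tauT
      rw [hgk, orderOf_one] at this
      norm_num at this
  obtain ⟨p, hp, hr⟩ := H90.norm23_spec (σ := σ) (k := k) ⟨hσM, hσn⟩ hperm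
  obtain ⟨i, j, hij⟩ := affine_of_repr hp hr
  refine ⟨i, j, ?_⟩
  obtain ⟨w, hw⟩ := mono_eq_sign_mul hσM hc
  have hpe : permHom ⟨σ, hσM⟩ = tauT ^ i * permHom dblPerm ^ j := by
    rw [tauT, ← map_pow, ← map_pow, ← map_mul]
    exact congrArg permHom (Subtype.ext hij)
  -- the sign part commutes with translation
  have hsw : signEl w * tauT = tauT * signEl w := by
    set q := tauT ^ i * permHom dblPerm ^ j with hq
    have hqn : ∃ m : ℕ, q * tauT * q⁻¹ = tauT ^ m := by
      refine ⟨2 ^ j * 1, ?_⟩
      have h1 := conj_pow_iter (show permHom dblPerm * tauT * (permHom dblPerm)⁻¹ = tauT ^ 2 from yxy0) j 1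
      rw [pow_one] at h1
      rw [hq, show tauT ^ i * permHom dblPerm ^ j * tauT * (tauT ^ i * permHom dblPerm ^ j)⁻¹
        = tauT ^ i * (permHom dblPerm ^ j * tauT * (permHom dblPerm ^ j)⁻¹) * (tauT ^ i)⁻¹ by group,
        h1, mul_inv_eq_iff_eq_mul, ← pow_add, ← pow_add, add_comm]
    obtain ⟨m, hm⟩ := hqn
    have hgw : g = signEl w * q := by rw [hgm, hw, hpe]
    have h2 : signEl w * tauT ^ m * (signEl w)⁻¹ = tauT ^ k := by
      rw [← hgk, hgw, ← hm]; group
    have h3 : H90.genT ^ m = H90.genT ^ k := by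
      have h4 := ((monMap_signEl w).mul (monMap_tauT.pow m)).mul (monMap_signEl w).inv
      rw [h2] at h4
      have := h4.unique (monMap_tauT.pow k)
      simpa using this
    have hpow : ∀ n : ℕ, tauT ^ n = permHom (translOne ^ n) := fun n => by rw [map_pow]; rfl
    have hmk : tauT ^ m = tauT ^ k := by
      rw [hpow, hpow]
      refine congrArg permHom (Subtype.ext ?_)
      rw [SubmonoidClass.coe_pow, SubmonoidClass.coe_pow]
      exact h3
    rw [← hmk, mul_inv_eq_iff_eq_mul] at h2
    have hmem : tauT ∈ Subgroup.zpowers (tauT ^ m) := by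
      have hne : tauT ^ m ≠ 1 := fun h0 => by
        rw [h0, conj_eq_one_iff] at hm
        have := order_tauT
        rw [hm, orderOf_one] at this
        norm_num at this
      haveI : Fact (Nat.Prime 23) := ⟨by norm_num⟩
      have hle : Subgroup.zpowers (tauT ^ m) = Subgroup.zpowers tauT := by
        refine Subgroup.eq_of_le_of_card_ge
          (Subgroup.zpowers_le.mpr (Subgroup.npow_mem_zpowers _ _)) ?_
        rw [Nat.card_zpowers, Nat.card_zpowers, order_tauT]
        exact (orderOf_eq_prime (by rw [← pow_mul, mul_comm, pow_mul,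
          show tauT ^ 23 = 1 from order_tauT ▸ pow_orderOf_eq_one tauT, one_pow]) hne).ge
      rw [hle]; exact Subgroup.mem_zpowers _
    obtain ⟨n, hn⟩ := hmem
    rw [← show (tauT ^ m) ^ n = tauT from hn]
    exact (show Commute (signEl w) (tauT ^ m) from h2).zpow_right n
  have hconst : ∀ x : ZMod 23, w.1 (some (x + 1)) = w.1 (some x) := by
    intro x
    have h1 := signEl_conj translOne w
    rw [show permHom translOne = tauT from rfl, ← hsw, mul_inv_cancel_right] at h1
    have h2 := congrArg (fun g : Co0 =>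
      ((g • eight (some (x + 1)) : leechLattice) : GolayPt → ℤ) (some (x + 1))) h1
    simp only [signEl_coord,
      show translOne.1.symm (some (x + 1)) = some x by rw [Equiv.symm_apply_eq]; rfl] at h2
    have h8 : (eight (some (x + 1)) : GolayPt → ℤ) (some (x + 1)) = 8 := by
      show (Pi.single _ 8 : GolayPt → ℤ) _ = 8
      exact Pi.single_eq_same _ _
    rw [h8] at h2
    rcases zmod2_cases (w.1 (some (x + 1))) with h | h <;>
      rcases zmod2_cases (w.1 (some x)) with h' | h' <;> rw [h, h'] at h2 ⊢ <;> simp at h2 ⊢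
  have hall : ∀ x : ZMod 23, w.1 (some x) = w.1 (some 0) := by
    intro x
    obtain ⟨n, rfl⟩ : ∃ n : ℕ, (n : ZMod 23) = x := ⟨x.val, ZMod.natCast_zmod_val x⟩
    induction n with
    | zero => rw [Nat.cast_zero]
    | succ n ih => rw [Nat.cast_succ, hconst, ih]
  have hw01 : qC (signEl w) = 1 := by
    refine qC_eq_one.mpr ?_
    have h4 := golayOK.four_dvd w.2
    have hform : w.1 = fun p => if p = none then w.1 none else w.1 (some 0) := by
      funext p
      rcases p with _ | x
      · rw [if_pos rfl]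
      · rw [if_neg (by simp)]; exact hall x
    have heq : w.1 none = w.1 (some 0) := by
      rw [hform] at h4
      rcases zmod2_cases (w.1 none) with h | h <;> rcases zmod2_cases (w.1 (some 0)) with h' | h' <;>
        rw [h, h'] at h4 ⊢ <;> revert h4 <;> decide +kernel
    rcases zmod2_cases (w.1 (some 0)) with h | h
    · left
      refine co0_ext fun v => Subtype.ext (funext fun p => ?_)
      rw [signEl_coord, one_smul]
      have : w.1 p = 0 := by
        rcases p with _ | x
        · rw [heq, h]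
        · rw [hall, h]
      simp [this]
    · right
      refine co0_ext fun v => Subtype.ext (funext fun p => ?_)
      rw [signEl_coord, negOne_smul]
      have : w.1 p = 1 := by
        rcases p with _ | x
        · rw [heq, h]
        · rw [hall, h]
      rw [this, if_pos (by decide)]
      rfl
  rw [hgm, hw, map_mul, hw01, one_mul, hpe, map_mul, map_pow, map_pow]
  rfl

/-- the generated group is everything -/
theorem gen_qC : Subgroup.closure ({qC (genC 0), qC (genC 2), qC (genC 3), qC (genC 4),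
    qC (genC 5)} : Set Spor.Co1) = ⊤ := by
  set K := Subgroup.closure ({qC (genC 0), qC (genC 2), qC (genC 3), qC (genC 4), qC (genC 5)} :
    Set Spor.Co1) with hK
  set M := K.comap qC with hM
  have hperm : ∀ τ : M24, permHom τ ∈ M := by
    have hsub : H90.gens ⊆ ((M.comap permHom).map M24.subtype : Subgroup (Equiv.Perm GolayPt)) := by
      rintro _ (rfl | rfl | rfl)
      · exact ⟨translOne, Subgroup.subset_closure (Or.inl rfl), rfl⟩
      · exact ⟨⟨projInv, H90.projInv_mem⟩,
          Subgroup.subset_closure (Or.inr (Or.inr (Or.inr (Or.inl rfl)))), rfl⟩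
      · exact ⟨twStab.1, Subgroup.subset_closure (Or.inr (Or.inr (Or.inl rfl))), rfl⟩
    intro τ
    have h : τ.1 ∈ Subgroup.closure H90.gens := by rw [H90.closure_gens]; exact τ.2
    obtain ⟨τ', hτ', e⟩ := (Subgroup.closure_le _).mpr hsub h
    rwa [show τ' = τ from Subtype.ext e] at hτ'
  let W : Submodule (ZMod 2) (GolayPt → ZMod 2) :=
    { carrier := {w | ∃ h : w ∈ golayCode, signEl ⟨w, h⟩ ∈ M}
      add_mem' := fun {a b} ⟨ha, ha'⟩ ⟨hb, hb'⟩ =>
        ⟨add_mem ha hb, by
          have := M.mul_mem ha' hb'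
          rwa [← signEl_add] at this⟩
      zero_mem' := ⟨zero_mem _, by
        rw [show (⟨0, zero_mem _⟩ : golayCode) = 0 from rfl, signEl_zero]; exact M.one_mem⟩
      smul_mem' := fun t a ⟨ha, ha'⟩ => by
        rcases zmod2_cases t with rfl | rfl
        · rw [zero_smul]
          exact ⟨zero_mem _, by
            rw [show (⟨0, zero_mem _⟩ : golayCode) = 0 from rfl, signEl_zero]; exact M.one_mem⟩
        · rw [one_smul]; exact ⟨ha, ha'⟩ }
  have hW : ∀ σ ∈ M24, ∀ w ∈ W, H94.moveWord σ w ∈ W := by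
    rintro σ hσ w ⟨hw, hw'⟩
    refine ⟨perm_symm_mem_code hσ hw, ?_⟩
    have h1 := M.mul_mem (M.mul_mem (hperm ⟨σ, hσ⟩) hw') (M.inv_mem (hperm ⟨σ, hσ⟩))
    rwa [signEl_conj] at h1
  have hle : golayCode ≤ W := H94.golay_mathieu.code_le W hW dWord.2
    (⟨dWord.2, Subgroup.subset_closure (Or.inr (Or.inl rfl))⟩ : dWord.1 ∈ W)
    (fun h => by
      have := congrFun h (some 0)
      revert this
      decide +kernel)
    (fun h => by
      have := congrFun h none
      revert this
      decide +kernel)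
  have hstd : stdGrp ≤ M := by
    rintro g ⟨σ, hg⟩
    obtain ⟨c, hσ, hc, rfl⟩ := hg.exists_mono
    obtain ⟨d, hd⟩ := mono_eq_sign_mul hσ hc
    rw [hd]
    exact M.mul_mem (hle d.2).2 (hperm _)
  have hne : ¬ M ≤ stdGrp := by
    intro h
    obtain ⟨σ, hσ⟩ := h (show genC 5 ∈ M from Subgroup.subset_closure (by simp))
    obtain ⟨s, hs, e⟩ := hσ none
    have hv : vecL ((genC 5 • eight none : leechLattice) : GolayPt → ℤ)
        = applyL co3Rows (eightL 23) := by
      rw [vecL_genC, show vecL ((eight none : leechLattice) : GolayPt → ℤ) = eightL 23 from vecL_eight 23]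
      rfl
    have hm := List.all_eq_true.mp e_moves (H90.idx (σ none)).val
      (List.mem_range.mpr (H90.idx (σ none)).isLt)
    have hi : Fin.ofNat 24 (H90.idx (σ none)).val = H90.idx (σ none) :=
      Fin.ext (Nat.mod_eq_of_lt (H90.idx (σ none)).isLt)
    simp only [hi, Bool.and_eq_true, bne_iff_ne] at hm
    rcases eight_single hs e with h1 | h1
    · rw [h1, show eight (σ none) = eight (H90.pt (H90.idx (σ none))) by rw [H90.pt_idx],
        vecL_eight] at hv
      exact hm.1 hv.symm
    · rw [h1, vecL_neg, show eight (σ none) = eight (H90.pt (H90.idx (σ none))) by rw [H90.pt_idx],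
        vecL_eight] at hv
      exact hm.2 hv.symm
  have htop := cross_maximal hstd hne
  refine eq_top_iff.mpr fun z _ => ?_
  obtain ⟨g, rfl⟩ := qC_surjective z
  exact (htop ▸ Subgroup.mem_top g : g ∈ M)

/-- every automorphism is inner -/
theorem out_co1 : Nat.card (Cfsg.Out Spor.Co1) = 1 := by
  haveI : Finite Co0 := co0_finite
  haveI : Finite Spor.Co1 := Quotient.finite _
  haveI : Fact (Nat.Prime 23) := ⟨by norm_num⟩
  haveI : Fact (Nat.Prime 11) := ⟨by norm_num⟩
  suffices key : ∀ φ : MulAut Spor.Co1, φ ∈ Cfsg.Inn Spor.Co1 by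
    haveI : Subsingleton (Cfsg.Out Spor.Co1) := by
      refine ⟨fun a b => ?_⟩
      obtain ⟨a, rfl⟩ := QuotientGroup.mk_surjective a
      obtain ⟨b, rfl⟩ := QuotientGroup.mk_surjective b
      exact QuotientGroup.eq.mpr (key _)
    exact Nat.card_unique
  intro φ
  have hsq : ¬ 23 ^ 2 ∣ Nat.card Spor.Co1 := by
    have h := (Subgroup.center Co0).card_mul_index
    rw [card_center_co0, card_co0 golayUnique] at h
    have hc : Nat.card Spor.Co1 = 4157776806543360000 := by
      rw [← Subgroup.index_eq_card]; omega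
    rw [hc]; norm_num
  have hyx : qC (genC 1) * qC (genC 0) * (qC (genC 1))⁻¹ = qC (genC 0) ^ 2 := by
    rw [← map_inv, ← map_mul, ← map_mul, yxy0, map_pow]
  obtain ⟨ψ, k, hm, hk, hx, hy⟩ := exists_adjusted_norm (p := 23) (q := 11) (qC (genC 0)) (qC (genC 1)) 2
    hsq order_qx order_qy hyx two_order23 two_class23 (fun g hg => norm_qx hg) φ
  have hk' : k ∈ [1, 22] := by rcases hk with h | h <;> simp [h]
  have himg : ∀ l ∈ [2, 3, 4, 5], ∃ ri a j, ri < 3 ∧ a < 2 ∧ j < 11 ∧
      ψ (qC (genC l)) = qC (evalC (candWord l (repWords.getD ri []) a j)) := by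
    intro l hl
    obtain ⟨t, ht⟩ := genC_conj_y l hl
    have ht' : qC (genC l) * qC (genC 1) * (qC (genC l))⁻¹ = qC (genC 1) ^ t := by
      rw [← map_inv, ← map_mul, ← map_mul, ht, map_pow]
    have h1 : ψ (qC (genC l)) * qC (genC 1) * (ψ (qC (genC l)))⁻¹ = qC (genC 1) ^ t := by
      conv_lhs => rw [← hy]
      rw [← map_inv, ← map_mul, ← map_mul, ht', map_pow, hy]
    have hc : ((qC (genC l))⁻¹ * ψ (qC (genC l))) * qC (genC 1)
        = qC (genC 1) * ((qC (genC l))⁻¹ * ψ (qC (genC l))) := by
      rw [← mul_inv_eq_iff_eq_mul,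
        show (qC (genC l))⁻¹ * ψ (qC (genC l)) * qC (genC 1) * ((qC (genC l))⁻¹ * ψ (qC (genC l)))⁻¹
          = (qC (genC l))⁻¹ * (ψ (qC (genC l)) * qC (genC 1) * (ψ (qC (genC l)))⁻¹) * qC (genC l) by
          group, h1, ← ht']
      group
    obtain ⟨ri, a, j, h2, h3, h4, he⟩ := cent_qC hc
    refine ⟨ri, a, j, h2, h3, h4, ?_⟩
    rw [candWord, List.cons_append, List.cons_append, evalC_cons, map_mul, ← he, mul_inv_cancel_left]
  have hne : ∀ l, genC l ≠ 1 → genC l ≠ negOne → qC (genC l) ≠ 1 := fun l h1 h2 h =>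
    (qC_eq_one.mp h).elim h1 h2
  have hlet := letters_ok
  simp only [Bool.and_eq_true] at hlet
  have big : ∀ l n, sameC [l, 1] (List.replicate n 1 ++ [l]) = true → n % 11 ≠ 1 →
      qC (genC l) ≠ 1 := by
    intro l n hs hn h
    have hc' : qC (genC 1) ^ 1 = qC (genC 1) ^ n := by
      rw [pow_one, ← map_pow, ← conj_exp l n hs, map_mul, map_mul, map_inv, h, one_mul, inv_one,
        mul_one]
    rw [pow_inj_mod, order_qy] at hc'
    exact hn hc'.symm
  have hnot : ∀ l ∈ [2, 3, 4, 5], qC (genC l) ≠ 1 := by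
    intro l hl h
    simp only [List.mem_cons, List.not_mem_nil, or_false] at hl
    rcases hl with rfl | rfl | rfl | rfl
    · have hd := d_moves
      simp only [Bool.and_eq_true, bne_iff_ne] at hd
      rcases qC_eq_one.mp h with e | e
      · refine hd.1 ?_
        have := vecL_genC 2 (eight (H90.pt 0))
        rw [e, one_smul, vecL_eight] at this
        exact this.symm
      · refine hd.2 ?_
        have := vecL_genC 2 (eight (H90.pt 23))
        rw [e, negOne_smul, vecL_neg, vecL_eight] at this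
        exact this.symm
    · exact big 3 3 conj_s (by norm_num) h
    · exact big 4 10 conj_p (by norm_num) h
    · exact big 5 3 conj_e (by norm_num) h
  -- the sign change, then the others
  obtain ⟨ri, a, j, h2, h3, h4, he⟩ := himg 2 (by simp)
  obtain ⟨hk1, hd⟩ := stage_spec ψ relsD_hold hlet.1.1.1 (all_three testD0 testD1 testD2) hk' h2 h3 h4
    hx he (fun l hl => by rw [List.mem_singleton] at hl; rw [hl]; exact hy) (hnot 2 (by simp))
  subst hk1
  obtain ⟨ri, a, j, h2, h3, h4, he⟩ := himg 3 (by simp)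
  obtain ⟨-, hs⟩ := stage_spec ψ relsS_hold hlet.1.1.2 (all_three testS0 testS1 testS2) (k := 1)
    (by simp) h2 h3 h4 hx he (fun l hl => absurd hl (by simp)) (hnot 3 (by simp))
  obtain ⟨ri, a, j, h2, h3, h4, he⟩ := himg 4 (by simp)
  obtain ⟨-, hp⟩ := stage_spec ψ relsP_hold hlet.1.2 (all_three testP0 testP1 testP2) (k := 1)
    (by simp) h2 h3 h4 hx he (fun l hl => by rw [List.mem_singleton] at hl; rw [hl]; exact hs)
    (hnot 4 (by simp))
  obtain ⟨ri, a, j, h2, h3, h4, he⟩ := himg 5 (by simp)
  obtain ⟨-, he'⟩ := stage_spec ψ relsE_hold hlet.2 (all_three testE0 testE1 testE2) (k := 1)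
    (by simp) h2 h3 h4 hx he (fun l hl => by rw [List.mem_singleton] at hl; rw [hl]; exact hd)
    (hnot 5 (by simp))
  have h1 : ψ = 1 := by
    refine MulEquiv.ext fun z => ?_
    have hz : z ∈ Subgroup.closure ({qC (genC 0), qC (genC 2), qC (genC 3), qC (genC 4),
        qC (genC 5)} : Set Spor.Co1) := gen_qC ▸ Subgroup.mem_top z
    refine MonoidHom.eqOn_closure (f := ψ.toMonoidHom) (g := MonoidHom.id _) ?_ hz
    intro w hw
    rcases hw with rfl | rfl | rfl | rfl | rfl
    · exact hx.trans (pow_one _)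
    · exact hd
    · exact hs
    · exact hp
    · exact he'
  rw [h1, inv_one, one_mul] at hm
  exact hm

end H95
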