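import Cfsg.Agent.H95.PairModel
import Cfsg.Agent.H90.Simple

/-!
Two point stabilisers of `M24` are simple: the normaliser of a Sylow 11-subgroup has order 55.
-/

set_option autoImplicit false

namespace H95

open Cfsg Finset MulAction

/-- a code word vanishing at `0`, at the extra point and on the squares is zero -/
theorem code_eq_zero_of_half {w : GolayPt → ZMod 2} (hw : w ∈ golayCode)
    (hn : w none = 0) (h0 : w (some 0) = 0) (hq : ∀ n : ℕ, w (some (2 ^ n)) = 0) : w = 0 := by
  by_contra hne
  have hq0 : qrWord 0 ∈ golayCode := Submodule.subset_span (Or.inl ⟨0, rfl⟩)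
  set c := (1 : GolayPt → ZMod 2) + qrWord 0 with hc
  have hcm : c ∈ golayCode := add_mem one_mem_code hq0
  have hsq : ∀ x : ZMod 23, (∃ r : ZMod 23, x = r ^ 2 + 0) → x = 0 ∨ ∃ n : Fin 11, x = 2 ^ n.val := by
    decide +kernel
  have hsub : ∀ i, w i ≠ 0 → c i ≠ 0 := by
    rintro (_ | x) hi
    · exact absurd hn hi
    · by_cases hs : ∃ r : ZMod 23, x = r ^ 2 + 0
      · rcases hsq x hs with rfl | ⟨n, rfl⟩
        · exact absurd h0 hi
        · exact absurd (hq n) hi
      · simp only [hc, Pi.add_apply, Pi.one_apply, qrWord, if_neg hs]; decide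
  have hc12 : hammingNorm c = 12 := by rw [hc]; decide +kernel
  have h8 := golayOK.like.min8 w hw hne
  have hadd : c + w ≠ 0 → 8 ≤ hammingNorm (c + w) := fun h => golayOK.like.min8 _ (add_mem hcm hw) h
  have hsum := H94.norm_add_aux c w
  have hcap : H94.sup2 c ∩ H94.sup2 w = H94.sup2 w := by
    rw [inter_eq_right]
    intro i hi
    exact H94.mem_sup2.mpr (hsub i (H94.mem_sup2.mp hi))
  rw [hcap, ← H94.hammingNorm_eq_sup2, hc12] at hsum
  have hwn : hammingNorm w ≤ 12 := by
    rw [← hc12, H94.hammingNorm_eq_sup2, H94.hammingNorm_eq_sup2]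
    exact card_le_card fun i hi => H94.mem_sup2.mpr (hsub i (H94.mem_sup2.mp hi))
  by_cases hz : c + w = 0
  · have hwc : w = c := by rw [eq_neg_of_add_eq_zero_right hz]; exact funext fun i => ZMod.neg_eq_self_mod_two _
    have : w (some 5) ≠ 0 := by rw [hwc, hc]; decide +kernel
    have e : (5 : ZMod 23) = 2 ^ 0 * 5 := by decide
    have hz' := congrArg (fun f : GolayPt → ZMod 2 => f none) hwc
    simp only [hn, hc, Pi.add_apply, Pi.one_apply] at hz'
    revert hz'; decide +kernel
  · have := hadd hz
    omega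

/-- an element of `M24` fixing `0`, the extra point and the squares is trivial -/
theorem eq_one_of_half {σ : Equiv.Perm GolayPt} (hσ : σ ∈ M24) (hn : σ none = none)
    (h0 : σ (some 0) = some 0) (hq : ∀ n : ℕ, σ (some (2 ^ n)) = some (2 ^ n)) : σ = 1 := by
  have hfix : ∀ w ∈ golayCode, (fun i => w (σ i)) = w := by
    intro w hw
    have hd := code_eq_zero_of_half (add_mem (perm_mem_code hσ hw) hw)
      (by simp [hn, CharTwo.add_self_eq_zero]) (by simp [h0, CharTwo.add_self_eq_zero])
      (fun n => by simp [hq n, CharTwo.add_self_eq_zero])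
    funext i
    have := congrFun hd i
    simp only [Pi.add_apply, Pi.zero_apply] at this
    exact (CharTwo.add_eq_zero).mp this
  refine Equiv.ext fun i => ?_
  by_contra hne
  obtain ⟨w, hw, hws⟩ := exists_code_small ({σ i, i} : Finset GolayPt)
    (le_trans card_le_two (by norm_num)) (Pi.single (σ i) 1)
  have h1 := congrFun (hfix w hw) i
  rw [hws _ (by simp), hws _ (by simp), Pi.single_eq_same, Pi.single_eq_of_ne (show i ≠ σ i from fun h => hne h.symm)] at h1
  exact one_ne_zero h1

theorem dbl_pow_none (n : ℕ) : (dblPerm.1 ^ n) none = none :=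
  Equiv.Perm.pow_apply_eq_self_of_apply_eq_self rfl n

theorem dbl_pow_some (n : ℕ) (x : ZMod 23) : (dblPerm.1 ^ n) (some x) = some (2 ^ n * x) := by
  induction n generalizing x with
  | zero => simp
  | succ n ih => rw [pow_succ, Equiv.Perm.mul_apply, dblPerm_some, ih, pow_succ, mul_assoc]

/-- the centraliser of doubling in the two point stabiliser -/
theorem centralizer_dbl {g : m22Grp} (hg : g * dblStab = dblStab * g) :
    g ∈ Subgroup.zpowers dblStab := by
  have hcomm : ∀ n : ℕ, ∀ p, g.1.1 ((dblPerm.1 ^ n) p) = (dblPerm.1 ^ n) (g.1.1 p) := by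
    intro n p
    have h1 : Commute g.1.1 dblPerm.1 := congrArg (fun a : m22Grp => a.1.1) hg
    exact congrArg (fun e : Equiv.Perm GolayPt => e p) (h1.pow_right n).eq
  have hgn : g.1.1 none = none := g.2.1
  have hg0 : g.1.1 (some 0) = some 0 := g.2.2
  rcases hy : g.1.1 (some 1) with _ | y
  · exact absurd (g.1.1.injective (hy.trans hgn.symm)) (by simp)
  have hy0 : y ≠ 0 := fun e => by
    subst e
    exact absurd (Option.some.inj (g.1.1.injective (hy.trans hg0.symm))) (by decide)
  have hgq : ∀ n : ℕ, g.1.1 (some (2 ^ n)) = some (2 ^ n * y) := by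
    intro n
    have := hcomm n (some 1)
    rwa [dbl_pow_some, mul_one, hy, dbl_pow_some] at this
  have hcases : ∀ z : ZMod 23, z ≠ 0 → ∃ a : Fin 11, z = 2 ^ a.val ∨ z = -2 ^ a.val := by
    decide +kernel
  obtain ⟨a, ha | ha⟩ := hcases y hy0
  · -- a power of doubling
    have h1 : (dblStab ^ a.val)⁻¹ * g = 1 := by
      refine Subtype.ext (Subtype.ext (eq_one_of_half ((dblStab ^ a.val)⁻¹ * g).1.2
        ((dblStab ^ a.val)⁻¹ * g).2.1 ((dblStab ^ a.val)⁻¹ * g).2.2 fun n => ?_))
      show ((dblPerm.1 ^ a.val)⁻¹ * g.1.1) (some (2 ^ n)) = some (2 ^ n)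
      rw [Equiv.Perm.mul_apply, hgq, ha, Equiv.Perm.inv_eq_iff_eq, dbl_pow_some, mul_comm]
    rw [inv_mul_eq_one] at h1
    rw [← h1]
    exact pow_mem (Subgroup.mem_zpowers _) _
  · exfalso
    have hq0 : qrWord 0 ∈ golayCode := Submodule.subset_span (Or.inl ⟨0, rfl⟩)
    set d : GolayPt → ZMod 2 := (fun i => qrWord 0 (g.1.1 i)) + qrWord 0 with hd
    have hdm : d ∈ golayCode := add_mem (perm_mem_code g.1.2 hq0) hq0
    have hnq : ∀ n : Fin 11, ∀ b : Fin 11, qrWord 0 (some (-(2 ^ n.val * 2 ^ b.val))) = 0 ∧
        qrWord 0 (some (2 ^ n.val)) = 1 := by decide +kernel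
    have e : d = (fun i => if i = none ∨ i = some 0 then 0 else 1) := by
      have h12 : ∀ n : Fin 11, d (some (2 ^ n.val)) = 1 := fun n => by
        rw [hd, Pi.add_apply]
        show qrWord 0 (g.1.1 (some (2 ^ n.val))) + _ = _
        rw [hgq, ha, mul_neg, (hnq n a).1, (hnq n a).2, zero_add]
      funext i
      by_cases hi : i = none ∨ i = some 0
      · rw [if_pos hi, hd, Pi.add_apply]
        rcases hi with rfl | rfl <;> simp [hgn, hg0, CharTwo.add_self_eq_zero]
      · rw [if_neg hi]
        rcases i with _ | x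
        · simp at hi
        · obtain ⟨b, hb | hb⟩ := hcases x (fun h => hi (Or.inr (by rw [h])))
          · rw [hb]; exact h12 b
          · -- the image of a non-square is a square
            have hval : qrWord 0 (some x) = 0 := by
              have := (hnq 0 b).1
              simpa [hb] using this
            rcases hgx : g.1.1 (some x) with _ | z
            · exact absurd (g.1.1.injective (hgx.trans hgn.symm)) (by simp)
            · have hz0 : z ≠ 0 := fun h => by
                subst h
                exact hi (Or.inr (g.1.1.injective (hgx.trans hg0.symm)))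
              obtain ⟨c, hc | hc⟩ := hcases z hz0
              · rw [hd, Pi.add_apply]
                show qrWord 0 (g.1.1 (some x)) + _ = 1
                rw [hgx, hval, hc, (hnq c 0).2, add_zero]
              · exfalso
                have h11 : ∀ u v : Fin 11, ∃ k : Fin 11,
                    (-(2 : ZMod 23) ^ u.val) = 2 ^ k.val * (-2 ^ v.val) := by decide +kernel
                obtain ⟨k, hk⟩ := h11 c a
                rw [← ha, ← hc] at hk
                rw [hk, ← hgq] at hgx
                have hxk := Option.some.inj (g.1.1.injective hgx)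
                have hne : ∀ u v : Fin 11, (-(2 : ZMod 23) ^ u.val) ≠ 2 ^ v.val := by decide +kernel
                exact hne b k (hb ▸ hxk)
    have h4 := golayOK.four_dvd hdm
    rw [e] at h4
    revert h4; decide +kernel

theorem card_norm_dbl :
    Nat.card (Subgroup.normalizer ((Subgroup.zpowers dblStab : Subgroup m22Grp) : Set m22Grp)) = 55 := by
  haveI : Fact (Nat.Prime 11) := ⟨by norm_num⟩
  have hord : orderOf dblStab = 11 := by rw [← Subgroup.orderOf_coe]; exact order_dblPerm
  have hG : Nat.card m22Grp = 443520 := H90.natCard_stab_pair (by simp)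
  set H : Subgroup m22Grp := Subgroup.zpowers dblStab with hH
  have hcH : Nat.card H = 11 := by rw [hH, Nat.card_zpowers, hord]
  set Nm := Subgroup.normalizer (H : Set m22Grp) with hNm
  have hker : Nat.card (H.normalizerMonoidHom.ker) = 11 := by
    have e : Subgroup.centralizer (H : Set m22Grp) = H := by
      refine le_antisymm (fun g hg => centralizer_dbl ?_) (fun g hg => ?_)
      · exact (Subgroup.mem_centralizer_iff.mp hg _ (Subgroup.mem_zpowers _)).symm
      · rw [Subgroup.mem_centralizer_iff]
        intro z hz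
        obtain ⟨i, rfl⟩ := hg
        obtain ⟨j, rfl⟩ := hz
        exact Commute.zpow_zpow (Commute.refl _) j i
    rw [H.normalizerMonoidHom_ker, e,
      Nat.card_congr (Subgroup.subgroupOfEquivOfLe Subgroup.le_normalizer).toEquiv, hcH]
  haveI : IsCyclic H := isCyclic_of_prime_card hcH
  have haut : Nat.card (MulAut H) = 10 := by
    rw [IsCyclic.card_mulAut, hcH, Nat.totient_prime (by norm_num)]
  have hmul : Nat.card H.normalizerMonoidHom.ker * Nat.card H.normalizerMonoidHom.range = Nat.card Nm := by
    rw [← Subgroup.index_ker, Subgroup.card_mul_index]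
  have hr : Nat.card H.normalizerMonoidHom.range ∣ 10 := haut ▸ Subgroup.card_subgroup_dvd_card _
  rw [hker] at hmul
  have hfac : (Nat.card m22Grp).factorization 11 = 1 := by
    have h11 : Nat.Prime 11 := by norm_num
    have hn : Nat.card m22Grp ≠ 0 := Nat.card_pos.ne'
    have ha : 1 ≤ (Nat.card m22Grp).factorization 11 :=
      h11.pow_dvd_iff_le_factorization hn |>.mp (by rw [hG]; norm_num)
    have hb : ¬ 2 ≤ (Nat.card m22Grp).factorization 11 := fun h => by
      have := (h11.pow_dvd_iff_le_factorization hn).mpr h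
      rw [hG] at this; norm_num at this
    omega
  let P : Sylow 11 m22Grp := Sylow.ofCard H (by rw [hcH, hfac, pow_one])
  have hidx := P.card_eq_index_normalizer
  rw [show (P : Set m22Grp) = (H : Set m22Grp) from rfl, ← hNm] at hidx
  have hmod := card_sylow_modEq_one 11 m22Grp
  rw [hidx] at hmod
  have hprod : Nat.card Nm * Nm.index = 443520 := hG ▸ Nm.card_mul_index
  rw [← hmul] at hprod ⊢
  set r := Nat.card H.normalizerMonoidHom.range
  have hr' := Nat.le_of_dvd (by norm_num) hr
  change Nm.index % 11 = 1 % 11 at hmod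
  interval_cases r <;> omega

/-- the 22 remaining points -/
def rest22 : SubMulAction m22Grp GolayPt where
  carrier := {p | p ≠ none ∧ p ≠ some 0}
  smul_mem' := fun g p hp =>
    ⟨fun h => hp.1 (g.1.1.injective (h.trans g.2.1.symm)),
      fun h => hp.2 (g.1.1.injective (h.trans g.2.2.symm))⟩

theorem m22_simple : IsSimpleGroup m22Grp := by
  classical
  have hcard : Nat.card m22Grp = 443520 := H90.natCard_stab_pair (by simp)
  haveI : Fintype rest22 := Fintype.ofFinite _
  haveI : FaithfulSMul m22Grp rest22 := ⟨fun {g g'} h => by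
    refine Subtype.ext (Subtype.ext (Equiv.ext fun p => ?_))
    by_cases hp : p = none
    · subst hp; exact g.2.1.trans g'.2.1.symm
    by_cases hp0 : p = some 0
    · subst hp0; exact g.2.2.trans g'.2.2.symm
    exact congrArg Subtype.val (h ⟨p, hp, hp0⟩)⟩
  have h2 : IsMultiplyPretransitive m22Grp rest22 2 := by
    rw [is_two_pretransitive_iff]
    intro a b c d hab hcd
    obtain ⟨σ, hσ, he⟩ := m24_move (k := 4) (by norm_num)
      ⟨![none, some 0, a.1, b.1], by
        intro i j
        fin_cases i <;> fin_cases j <;>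
          simp [a.2.1, a.2.2, b.2.1, b.2.2, Ne.symm a.2.1, Ne.symm a.2.2, Ne.symm b.2.1,
            Ne.symm b.2.2, Subtype.coe_injective.ne hab, (Subtype.coe_injective.ne hab).symm]⟩
      ⟨![none, some 0, c.1, d.1], by
        intro i j
        fin_cases i <;> fin_cases j <;>
          simp [c.2.1, c.2.2, d.2.1, d.2.2, Ne.symm c.2.1, Ne.symm c.2.2, Ne.symm d.2.1,
            Ne.symm d.2.2, Subtype.coe_injective.ne hcd, (Subtype.coe_injective.ne hcd).symm]⟩
    exact ⟨⟨⟨σ, hσ⟩, he 0, he 1⟩, Subtype.ext (he 2), Subtype.ext (he 3)⟩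
  have h22 : Fintype.card rest22 = 22 := by
    rw [← Nat.card_eq_fintype_card]
    show Nat.card {p : GolayPt // p ≠ none ∧ p ≠ some 0} = 22
    rw [Nat.card_eq_fintype_card]
    decide +kernel
  exact H90.simple_of_sylow_normalizer (α := rest22) h2 (p := 11) (r := 5) (by norm_num) (by norm_num)
    (by rw [h22]; norm_num) (by rw [hcard]; norm_num) dblStab
    (by rw [← Subgroup.orderOf_coe]; exact order_dblPerm) card_norm_dbl (by rw [hcard]; norm_num)

theorem pair_stab_simple {p q : GolayPt} (hpq : p ≠ q) :
    IsSimpleGroup ↥(MulAction.stabilizer M24 p ⊓ MulAction.stabilizer M24 q) := by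
  obtain ⟨σ, hσ, e1, e2⟩ := m24_move_two (show (none : GolayPt) ≠ some 0 by simp) hpq
  haveI := m22_simple
  exact (stabEquiv₂ (⟨σ, hσ⟩ : M24) none (some 0) p q e1 e2).symm.isSimpleGroup

end H95
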