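import Cfsg.Agent.H95.McLTriple
import Cfsg.Agent.H96.LeechPairs

/-!
The suborbits of the McLaughlin configuration.
-/

set_option autoImplicit false

namespace H95

open Cfsg Finset

/-- product with `xBase` -/
def xDot (y : GolayPt → ℤ) : ℤ := 4 * y none + 4 * y (some 1)

theorem ldot_xBase' (y : leechLattice) : ldot xBase y = xDot (y : GolayPt → ℤ) := by
  rw [ldot_comm, ldot_xBase]; rfl

/-- `3` at `some 1`, `-1` on the rest of the octad, `1` elsewhere -/
def vecZ (m : ℕ) : GolayPt → ℤ := fun i => if i = some 1 then 3 else if hasPt m i then -1 else 1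

/-- octads through `0`, `1` missing the extra point -/
def masksZ : List ℕ :=
  octMasks.filter fun m => !hasPt m none && (hasPt m (some 0) && hasPt m (some 1))

theorem zOK_all : (masksZ.all fun m => decide (sqNorm (vecZ m) = 32 ∧
    vecZ m none + vecZ m (some 0) = 0 ∧ xDot (vecZ m) = 16 ∧
    4 * vecZ m none + ∑ i, vecZ m i = 16 ∧ ((∑ i, vecZ m i) - 4) % 8 = 0)) = true := by
  decide +kernel

theorem cover16 : ((mclList.filter fun y => xDot y == 16).all fun y =>
    (y none == 4) || masksZ.any fun m => dotInt y (vecZ m) == 16) = true := by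
  decide +kernel

theorem cover8 : ((mclList.filter fun y => xDot y == 8).all fun y =>
    (y none == 2) || masksZ.any fun m => dotInt y (vecZ m) == 0) = true := by
  decide +kernel

theorem xDot_values : (mclList.all fun y =>
    (vecCode y == vecCode (vecA (some 1))) || (xDot y == 8) || (xDot y == 16)) = true := by
  decide +kernel

theorem z_frame {m : ℕ} (hm : m ∈ masksZ) : ∃ g : Co0, g • uBase = uBase ∧ g • vBase = vBase ∧
    g • xBase = xBase ∧ ∀ y : leechLattice, 8 * ((g • y : leechLattice) : GolayPt → ℤ) none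
      = ldot y vBase + dotInt (y : GolayPt → ℤ) (vecZ m) := by
  have h := List.all_eq_true.mp zOK_all m hm
  simp only [decide_eq_true_eq] at h
  obtain ⟨h1, h2, h3, h4, h5⟩ := h
  have hm' := List.mem_filter.mp hm
  have hb : hasPt m (some 1) = true := by
    have := hm'.2; rw [Bool.and_eq_true, Bool.and_eq_true] at this; exact this.2.2
  have hL : vecZ m ∈ leechLattice := by
    refine mem_of_form (a := H90.wordOf m)
      (z := fun i => if i = some 1 then 0 else if hasPt m i then -1 else 0) (m := 1)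
      (octMask_code hm'.1) (fun i => ?_) (Int.dvd_of_emod_eq_zero h5)
    have hw : H90.wordOf m i = if hasPt m i then 1 else 0 := rfl
    simp only [vecZ, hw]
    by_cases hi : i = some 1
    · subst hi; simp [hb]; decide
    · by_cases hc : hasPt m i <;> simp [hi, hc] <;> decide
  set z : leechLattice := ⟨vecZ m, hL⟩ with hz
  obtain ⟨g, a1, a2, a3, a4⟩ := frame_std (z := z) uBase_norm uBase_vBase xBase_mem
    (by rw [← sqNorm_eq_ldot]; exact h1)
    (by rw [ldot_comm, ldot_vBase]; show 4 * vecZ m none + 4 * vecZ m (some 0) = 0; linarith)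
    (by rw [ldot_xBase']; exact h3)
    (by rw [uBase_dot]; exact h4)
  exact ⟨g, a1, a2, a3, a4⟩

/-- permutations fixing three points fix the triple -/
theorem perm_fix_triple (σ : M24) (s1 : σ.1 none = none) (s2 : σ.1 (some 0) = some 0)
    (s3 : σ.1 (some 1) = some 1) : permHom σ • uBase = uBase ∧ permHom σ • vBase = vBase ∧
      permHom σ • xBase = xBase := by
  refine ⟨permHom_fix_const σ s1 uBase_some, mono_fix_vBase σ.2 empty_supp s1 s2 (by simp) (by simp),
    Subtype.ext (funext fun i => ?_)⟩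
  rw [permHom_apply, xBase_apply, xBase_apply]
  simp only [Equiv.symm_apply_eq, s1, s3]

/-- the stabiliser of the standard triple moves every point to one of two normal forms -/
theorem to_normal {y : leechLattice} (hy : y ∈ mclSet uBase vBase) :
    (ldot xBase y = 16 → ∃ g : Co0, g • uBase = uBase ∧ g • vBase = vBase ∧ g • xBase = xBase ∧
      ∃ j, j ≠ none ∧ j ≠ some 0 ∧ j ≠ some 1 ∧ ((g • y : leechLattice) : GolayPt → ℤ) = vecA j) ∧
    (ldot xBase y = 8 → ∃ g : Co0, g • uBase = uBase ∧ g • vBase = vBase ∧ g • xBase = xBase ∧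
      ∃ m ∈ masksC, hasPt m (some 1) = false ∧
        ((g • y : leechLattice) : GolayPt → ℤ) = vecC m) := by
  have hl := mclSet_mem_list hy
  have hv : ldot y vBase = 16 := by rw [ldot_comm]; exact hy.2.2
  have finishA : ∀ y' : leechLattice, y' ∈ mclSet uBase vBase → ldot xBase y' = 16 →
      (y' : GolayPt → ℤ) none = 4 →
      ∃ j, j ≠ none ∧ j ≠ some 0 ∧ j ≠ some 1 ∧ (y' : GolayPt → ℤ) = vecA j := by
    intro y' hy' hd hn
    rcases mclSet_shape hy' with ⟨j, j1, j2, e⟩ | ⟨m, hm, e⟩ | ⟨m, hm, e⟩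
    · refine ⟨j, j1, j2, fun hj => ?_, e⟩
      subst hj
      rw [ldot_xBase', e] at hd
      revert hd; decide +kernel
    · rw [e] at hn; simp [vecB] at hn
    · rw [e] at hn; simp only [vecC] at hn; split at hn <;> omega
  have finishC : ∀ y' : leechLattice, y' ∈ mclSet uBase vBase → ldot xBase y' = 8 →
      (y' : GolayPt → ℤ) none = 2 →
      ∃ m ∈ masksC, hasPt m (some 1) = false ∧ (y' : GolayPt → ℤ) = vecC m := by
    intro y' hy' hd hn
    rcases mclSet_shape hy' with ⟨j, j1, j2, e⟩ | ⟨m, hm, e⟩ | ⟨m, hm, e⟩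
    · rw [e] at hn; simp [vecA] at hn
    · rw [e] at hn; simp [vecB] at hn
    · refine ⟨m, hm, ?_, e⟩
      by_contra hc
      have h2 := (List.mem_filter.mp hm).2
      rw [Bool.and_eq_true] at h2
      rw [ldot_xBase', e] at hd
      simp [xDot, vecC, h2.1, hc] at hd
  constructor <;> intro hd
  · have h := List.all_eq_true.mp cover16 (y : GolayPt → ℤ)
      (List.mem_filter.mpr ⟨hl, by rw [← ldot_xBase', hd]; rfl⟩)
    rw [Bool.or_eq_true, List.any_eq_true] at h
    simp only [beq_iff_eq] at h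
    rcases h with h | ⟨m, hm, hm'⟩
    · exact ⟨1, one_smul _ _, one_smul _ _, one_smul _ _, by rw [one_smul]; exact finishA y hy hd h⟩
    · obtain ⟨g, a1, a2, a3, a4⟩ := z_frame hm
      refine ⟨g, a1, a2, a3, finishA _ ?_ ?_ ?_⟩
      · have := smul_mclSet (g := g) hy; rwa [a1, a2] at this
      · conv_lhs => rw [← a3, co0_dot, hd]
      · have := a4 y
        rw [hv, hm'] at this; omega
  · have h := List.all_eq_true.mp cover8 (y : GolayPt → ℤ)
      (List.mem_filter.mpr ⟨hl, by rw [← ldot_xBase', hd]; rfl⟩)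
    rw [Bool.or_eq_true, List.any_eq_true] at h
    simp only [beq_iff_eq] at h
    rcases h with h | ⟨m, hm, hm'⟩
    · exact ⟨1, one_smul _ _, one_smul _ _, one_smul _ _, by rw [one_smul]; exact finishC y hy hd h⟩
    · obtain ⟨g, a1, a2, a3, a4⟩ := z_frame hm
      refine ⟨g, a1, a2, a3, finishC _ ?_ ?_ ?_⟩
      · have := smul_mclSet (g := g) hy; rwa [a1, a2] at this
      · conv_lhs => rw [← a3, co0_dot, hd]
      · have := a4 y
        rw [hv, hm'] at this; omega

theorem std_rank3 {y y' : leechLattice} (hy : y ∈ mclSet uBase vBase)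
    (hy' : y' ∈ mclSet uBase vBase) (hne : y ≠ xBase) (hd : ldot xBase y = ldot xBase y') :
    ∃ g : Co0, g • uBase = uBase ∧ g • vBase = vBase ∧ g • xBase = xBase ∧ g • y = y' := by
  classical
  have glue : ∀ {g h k : Co0}, g • uBase = uBase → g • vBase = vBase → g • xBase = xBase →
      h • uBase = uBase → h • vBase = vBase → h • xBase = xBase →
      k • uBase = uBase → k • vBase = vBase → k • xBase = xBase →
      k • g • y = h • y' →
      ∃ g : Co0, g • uBase = uBase ∧ g • vBase = vBase ∧ g • xBase = xBase ∧ g • y = y' := by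
    intro g h k g1 g2 g3 h1 h2 h3 k1 k2 k3 e
    refine ⟨h⁻¹ * k * g, ?_, ?_, ?_, ?_⟩ <;> rw [mul_smul, mul_smul, inv_smul_eq_iff]
    · rw [g1, k1, h1]
    · rw [g2, k2, h2]
    · rw [g3, k3, h3]
    · exact e
  have hv := List.all_eq_true.mp xDot_values _ (mclSet_mem_list hy)
  simp only [Bool.or_eq_true, beq_iff_eq] at hv
  rcases hv with (hv | hv) | hv
  · exfalso
    have hx : (xBase : GolayPt → ℤ) = vecA (some 1) := funext fun i => by rw [xBase_apply]; rfl
    have hinj := List.inj_on_of_nodup_map mclList_codes (mclSet_mem_list hy)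
      (mclSet_mem_list xBase_mem) (by rw [hv, hx])
    exact hne (Subtype.ext hinj)
  · rw [← ldot_xBase'] at hv
    obtain ⟨g, g1, g2, g3, m, hm, hm1, e⟩ := (to_normal hy).2 hv
    obtain ⟨h, h1, h2, h3, m', hm', hm1', e'⟩ := (to_normal hy').2 (hd ▸ hv)
    obtain ⟨hmo, hb⟩ := List.mem_filter.mp hm
    obtain ⟨hmo', hb'⟩ := List.mem_filter.mp hm'
    rw [Bool.and_eq_true] at hb hb'
    have h8 : ∀ {k : ℕ}, k ∈ octMasks → hammingNorm (H90.wordOf k) = 8 := fun {k} hk => by
      obtain ⟨n, hn, rfl⟩ := List.mem_map.mp hk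
      rw [H90.hammingNorm_wordOf]; exact (H90.mem_wtList.mp hn).2
    have hne0 : ∀ {k : ℕ} {i : GolayPt}, hasPt k i = true → H90.wordOf k i ≠ 0 := fun {k i} hk => by
      show (if hasPt k i then (1 : ZMod 2) else 0) ≠ 0
      rw [if_pos hk]; decide
    obtain ⟨σ, hσ, s1, s2, s3⟩ := m24_move_octad (p := none) (q := some 0) (by simp)
      (octMask_code hmo) (h8 hmo) (hne0 hb.1) (hne0 hb.2) (octMask_code hmo') (h8 hmo')
      (hne0 hb'.1) (hne0 hb'.2)
    have hoct : support₂ (H90.wordOf m') ∈ octads :=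
      ⟨⟨_, octMask_code hmo', rfl⟩, by rw [← hammingNorm_eq_support₂]; exact h8 hmo'⟩
    have hσ1 : σ (some 1) ∉ support₂ (H90.wordOf m') := by
      simp only [support₂, mem_filter, mem_univ, true_and, not_not, ← s3, Equiv.symm_apply_apply]
      show (if hasPt m (some 1) then (1 : ZMod 2) else 0) = 0
      rw [hm1]; rfl
    have h11 : (some 1 : GolayPt) ∉ support₂ (H90.wordOf m') := by
      simp only [support₂, mem_filter, mem_univ, true_and, not_not]
      show (if hasPt m' (some 1) then (1 : ZMod 2) else 0) = 0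
      rw [hm1']; rfl
    obtain ⟨τ, hτ, hτo, hτ1⟩ := H96.Lam.fix_octad_transitive hoct hσ1 h11
    have hno : none ∈ support₂ (H90.wordOf m') := by simpa [support₂] using hne0 hb'.1
    have hzo : some 0 ∈ support₂ (H90.wordOf m') := by simpa [support₂] using hne0 hb'.2
    set π : M24 := ⟨τ * σ, mul_mem hτ hσ⟩ with hπ
    obtain ⟨k1, k2, k3⟩ := perm_fix_triple π
      (by show τ (σ none) = none; rw [s1]; exact hτo _ hno)
      (by show τ (σ (some 0)) = some 0; rw [s2]; exact hτo _ hzo)
      (by show τ (σ (some 1)) = some 1; exact hτ1)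
    refine glue g1 g2 g3 h1 h2 h3 k1 k2 k3 (Subtype.ext (funext fun i => ?_))
    rw [permHom_apply, e, e']
    show vecC m ((τ * σ).symm i) = vecC m' i
    have hτmem : ∀ i, hasPt m' (τ.symm i) = hasPt m' i := by
      intro i
      by_cases hi : i ∈ support₂ (H90.wordOf m')
      · rw [show τ.symm i = i by rw [Equiv.symm_apply_eq]; exact (hτo i hi).symm]
      · have hj : τ.symm i ∉ support₂ (H90.wordOf m') := fun hj => hi (by
          have := hτo _ hj
          rw [Equiv.apply_symm_apply] at this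
          rwa [← this] at hj)
        have e1 : ∀ {k : GolayPt}, k ∉ support₂ (H90.wordOf m') → hasPt m' k = false := fun {k} hk => by
          by_contra hc
          exact hk (by simpa [support₂] using hne0 (by simpa using hc))
        rw [e1 hi, e1 hj]
    have hmm : hasPt m (σ.symm (τ.symm i)) = hasPt m' (τ.symm i) := by
      have := congrFun s3 (τ.symm i)
      change (if hasPt m (σ.symm (τ.symm i)) then (1 : ZMod 2) else 0)
        = if hasPt m' (τ.symm i) then 1 else 0 at this
      revert this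
      cases hasPt m (σ.symm (τ.symm i)) <;> cases hasPt m' (τ.symm i) <;> decide
    show (if hasPt m (σ.symm (τ.symm i)) then (2 : ℤ) else 0) = if hasPt m' i then 2 else 0
    rw [hmm, hτmem]
  · rw [← ldot_xBase'] at hv
    obtain ⟨g, g1, g2, g3, j, j0, j1, j2, e⟩ := (to_normal hy).1 hv
    obtain ⟨h, h1, h2, h3, j', j0', j1', j2', e'⟩ := (to_normal hy').1 (hd ▸ hv)
    obtain ⟨σ, hσ, he⟩ := m24_move (k := 4) (by norm_num)
      ⟨![none, some 0, some 1, j], by
        intro a b; fin_cases a <;> fin_cases b <;>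
          simp [j0, j1, j2, Ne.symm j0, Ne.symm j1, Ne.symm j2, pt_one_ne, pt_zero_ne]⟩
      ⟨![none, some 0, some 1, j'], by
        intro a b; fin_cases a <;> fin_cases b <;>
          simp [j0', j1', j2', Ne.symm j0', Ne.symm j1', Ne.symm j2', pt_one_ne, pt_zero_ne]⟩
    obtain ⟨k1, k2, k3⟩ := perm_fix_triple ⟨σ, hσ⟩ (he 0) (he 1) (he 2)
    refine glue g1 g2 g3 h1 h2 h3 k1 k2 k3 (Subtype.ext (funext fun i => ?_))
    rw [permHom_apply, e, e']
    simp only [vecA, Equiv.symm_apply_eq]
    rw [show (⟨σ, hσ⟩ : M24).1 none = none from he 0, show (⟨σ, hσ⟩ : M24).1 j = j' from he 3]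

theorem rank3_counts :
    (mclList.filter fun y => xDot y == 8).length = 112 ∧
      (mclList.filter fun y => xDot y == 16).length = 162 := by
  constructor <;> decide +kernel

theorem rank3 {u v x : leechLattice} (hu : ldot u u = 48) (hv : ldot v v = 32)
    (huv : ldot u v = 24) (hx : x ∈ mclSet u v) :
    {y | y ∈ mclSet u v ∧ ldot x y = 8}.ncard = 112 ∧
    {y | y ∈ mclSet u v ∧ y ≠ x ∧ ldot x y = 16}.ncard = 162 ∧
    ∀ y ∈ mclSet u v, ∀ y' ∈ mclSet u v, y ≠ x → ldot x y = ldot x y' →
      ∃ g : Co0, g • u = u ∧ g • v = v ∧ g • x = x ∧ g • y = y' := by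
  obtain ⟨g, a1, a2, a3⟩ := exists_triple_std hu hv huv hx
  have himg : ∀ (p : leechLattice → Prop), (∀ y, p y ↔ p y) → ∀ (q : leechLattice → Prop),
      (∀ y, p y ↔ q (g • y)) →
      {y | y ∈ mclSet u v ∧ p y}.ncard = {y | y ∈ mclSet uBase vBase ∧ q y}.ncard := by
    intro p _ q hpq
    rw [← Set.ncard_image_of_injective {y | y ∈ mclSet u v ∧ p y} (MulAction.injective g)]
    congr 1
    ext z
    constructor
    · rintro ⟨y, ⟨hy, hp⟩, rfl⟩
      exact ⟨a1 ▸ a2 ▸ smul_mclSet hy, (hpq y).mp hp⟩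
    · rintro ⟨hz, hq⟩
      refine ⟨g⁻¹ • z, ⟨?_, ?_⟩, smul_inv_smul g z⟩
      · rw [← a1, ← a2] at hz
        have := smul_mclSet (g := g⁻¹) hz
        rwa [inv_smul_smul, inv_smul_smul] at this
      · rw [hpq, smul_inv_smul]; exact hq
  refine ⟨?_, ?_, fun y hy y' hy' hne hd => ?_⟩
  · rw [himg (fun y => ldot x y = 8) (fun _ => Iff.rfl)
      (fun y => (xDot (y : GolayPt → ℤ) == 8) = true) (fun y => by
        rw [beq_iff_eq, ← ldot_xBase', ← a3, co0_dot])]
    exact (ncard_mcl_filter fun z => xDot z == 8).trans rank3_counts.1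
  · rw [himg (fun y => y ≠ x ∧ ldot x y = 16) (fun _ => Iff.rfl)
      (fun y => (xDot (y : GolayPt → ℤ) == 16) = true) (fun y => by
        rw [beq_iff_eq, ← ldot_xBase', ← a3, co0_dot]
        exact ⟨fun h => h.2, fun h => ⟨fun e => by rw [e, hx.1] at h; norm_num at h, h⟩⟩)]
    exact (ncard_mcl_filter fun z => xDot z == 16).trans rank3_counts.2
  · obtain ⟨k, k1, k2, k3, k4⟩ := std_rank3 (a1 ▸ a2 ▸ smul_mclSet (g := g) hy)
      (a1 ▸ a2 ▸ smul_mclSet (g := g) hy')
      (fun e => hne (MulAction.injective g (e.trans a3.symm)))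
      (by rw [← a3, co0_dot, co0_dot, hd])
    refine ⟨g⁻¹ * k * g, ?_, ?_, ?_, ?_⟩ <;> rw [mul_smul, mul_smul, inv_smul_eq_iff]
    · rw [a1, k1]
    · rw [a2, k2]
    · rw [a3, k3]
    · exact k4

end H95
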