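import Cfsg.Agent.H95.PairModel

/-!
The joint stabiliser of two minimal vectors with product `-8` is simple.
-/

set_option autoImplicit false

namespace H95

open Cfsg Finset

theorem pvU_dot : ldot Spor.leechV pvU.w = -24 := by rw [PairVec.dotV]; rfl

theorem summands_neg_iff {w : leechLattice} :
    w ∈ summands (-Spor.leechV) ↔ ldot w w = 32 ∧ ldot Spor.leechV w = -24 := by
  show ldot w w = 32 ∧ _ ↔ _
  rw [leechLike.norm_sub, leechLike.norm_neg, leechV_norm, leechLike.neg_left]
  constructor <;> rintro ⟨h1, h2⟩ <;> refine ⟨h1, ?_⟩ <;> linarith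

theorem card_mcl_model : Nat.card pvU.group = 898128000 := by
  have hU := golayUnique
  have hneg : ldot (-Spor.leechV) (-Spor.leechV) = 48 := by rw [leechLike.norm_neg, leechV_norm]
  have h := H90.natCard_inf_stabilizer (MulAction.stabilizer Co0 Spor.leechV) pvU.w
    (summands (-Spor.leechV)) fun w => by
    constructor
    · intro hw
      have hp := summands_neg_iff.mpr ⟨pvU.norm, pvU_dot⟩
      obtain ⟨g, hg1, hg2⟩ := decomp_transitive hU hneg hp.1 hp.2 hw.1 hw.2
      refine ⟨g, MulAction.mem_stabilizer_iff.mpr ?_, hg2⟩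
      rwa [co0_neg, neg_inj] at hg1
    · rintro ⟨g, hg, rfl⟩
      refine summands_neg_iff.mpr ⟨by rw [co0_dot, pvU.norm], ?_⟩
      conv_lhs => rw [← MulAction.mem_stabilizer_iff.mp hg]
      rw [co0_dot, pvU_dot]
  rw [ncard_summands hU hneg, card_stab_48 leechV_norm] at h
  exact Nat.eq_of_mul_eq_mul_right (by norm_num : 0 < 552) (h.trans (by norm_num))

theorem mcl_simple (hS : IsSimpleGroup m22Grp) : IsSimpleGroup pvU.group := by
  haveI : Finite Co0 := co0_finite
  haveI : Fact (Nat.Prime 11) := ⟨by norm_num⟩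
  haveI : Fact (Nat.Prime 7) := ⟨by norm_num⟩
  obtain ⟨D, hDS⟩ := pvU.crit hS (by rw [card_mcl_model]; norm_num)
  refine D.isSimple fun N hN hd => ?_
  by_contra hne
  have hN1 : Nat.card N ≠ 1 := fun h => hne (Subgroup.card_eq_one.mp h)
  have hdv : Nat.card N ∣ 898128000 := card_mcl_model ▸ Subgroup.card_subgroup_dvd_card N
  have hpr : ∀ q, q.Prime → q ∣ Nat.card N → q = 3 := by
    intro q hq hqN
    have hmem := prime_mem_of_dvd_prod (L := [(2, 7), (3, 6), (5, 3), (7, 1), (11, 1)])
      (by simp only [List.forall_mem_cons, List.not_mem_nil, IsEmpty.forall_iff, implies_true, and_true]; norm_num)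
      hq (hqN.trans hdv |>.trans (by norm_num))
    have hno : ∀ q ∈ [2, 5, 7], ¬ q ∣ Nat.card N := fun r hr => by
      have hok : powersOK 898128000 11 [2, 5, 7] = true := by decide +kernel
      have hr2 : r.Prime := by
        simp only [List.mem_cons, List.not_mem_nil, or_false] at hr
        rcases hr with rfl | rfl | rfl <;> norm_num
      exact D.not_dvd N hd hr2 fun j hj hdj =>
        powersOK_spec hok (by norm_num) hr (by norm_num) hr2.two_le j hj (card_mcl_model ▸ hdj)
    simp only [List.map_cons, List.map_nil, List.mem_cons, List.not_mem_nil, or_false] at hmem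
    rcases hmem with rfl | rfl | rfl | rfl | rfl
    · exact absurd hqN (hno 2 (by simp))
    · rfl
    · exact absurd hqN (hno 5 (by simp))
    · exact absurd hqN (hno 7 (by simp))
    · exact absurd hqN hd
  set k := (Nat.card N).primeFactorsList.length
  have hk : Nat.card N = 3 ^ k :=
    Nat.eq_prime_pow_of_unique_prime_dvd Nat.card_pos.ne' (fun {q} hq hqd => hpr q hq hqd)
  have hdis := D.disjoint N hd
  have hfree : N ⊓ Subgroup.centralizer {D.x} = ⊥ := by
    rw [Subgroup.eq_bot_iff_forall]
    rintro a ⟨ha, hac⟩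
    exact hdis.2 a ha (Subgroup.mem_centralizer_singleton_iff.mp hac).symm
  have hmod := card_modEq_centralizer N D.x (r := 11) (by norm_num) D.order
    (fun a ha => hN.conj_mem a ha D.x)
  rw [hfree, Subgroup.card_bot, hk] at hmod
  have hk6 : k ≤ 6 := by
    rw [hk] at hdv
    by_contra hc
    have h7 : 3 ^ 7 ∣ 898128000 := (pow_dvd_pow 3 (by omega)).trans hdv
    norm_num at h7
  have hk5 : k = 5 := by
    rcases Nat.eq_zero_or_pos k with h | h
    · exact absurd (by rw [hk, h, pow_zero]) hN1
    · interval_cases k <;> revert hmod <;> decide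
  -- an element of order seven of `S` centralises `N`
  haveI := D.simple
  have hS7 : 7 ∣ Nat.card D.S := by
    rw [hDS, ← Nat.card_congr (MonoidHom.ofInjective pvU.hom_injective).toEquiv,
      show Nat.card m22Grp = 443520 from H90.natCard_stab_pair (by simp)]
    norm_num
  obtain ⟨z, hz⟩ := exists_prime_orderOf_dvd_card' (G := D.S) 7 hS7
  have hzc := centralizes_of_coprime N (z : pvU.group) (r := 7) (q := 3) (k := k) (by norm_num)
    (by norm_num) (by norm_num) (by rw [Subgroup.orderOf_coe, hz]) hk
    (fun a ha => hN.conj_mem a ha _) (by intro j hj hj5; rw [hk5] at hj5; interval_cases j <;> decide)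
  let K : Subgroup D.S := (Subgroup.centralizer (N : Set pvU.group)).subgroupOf D.S
  have hKn : K.Normal := inferInstance
  have hzK : z ∈ K := by
    show (z : pvU.group) ∈ Subgroup.centralizer (N : Set pvU.group)
    rw [Subgroup.mem_centralizer_iff]
    intro a ha; exact (hzc a ha).symm
  rcases hKn.eq_bot_or_eq_top with h | h
  · rw [h, Subgroup.mem_bot] at hzK
    rw [hzK, orderOf_one] at hz
    norm_num at hz
  · have hxK : (⟨D.x, D.memS⟩ : D.S) ∈ K := h ▸ Subgroup.mem_top _
    refine hne ((Subgroup.eq_bot_iff_forall _).mpr fun a ha => hdis.2 a ha ?_)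
    exact ((Subgroup.mem_centralizer_iff.mp hxK) a ha).symm

theorem leechU_norm : ldot Spor.leechU Spor.leechU = 32 := pvU.norm

theorem isMcL_stab (hS : IsSimpleGroup m22Grp) {v w : leechLattice} (hv : ldot v v = 32)
    (hw : ldot w w = 32) (hd : ldot v w = -8) :
    IsMcL ↥(MulAction.stabilizer Co0 v ⊓ MulAction.stabilizer Co0 w) := by
  have hn : ldot (-(Spor.leechU + Spor.leechV)) (-(Spor.leechU + Spor.leechV)) = 32 := by
    rw [leechLike.norm_neg, leechLike.norm_add, leechV_norm, leechU_norm,
      ldot_comm, show ldot Spor.leechV Spor.leechU = -24 from pvU_dot]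
    norm_num
  have hd' : ldot Spor.leechU (-(Spor.leechU + Spor.leechV)) = -8 := by
    rw [leechLike.neg_right, leechLike.add_right, leechU_norm, ldot_comm Spor.leechU,
      show ldot Spor.leechV Spor.leechU = -24 from pvU_dot]
    norm_num
  obtain ⟨g, h1, h2⟩ := pair_transitive_m8 golayUnique hv hw hd leechU_norm hn hd'
  have e : MulAction.stabilizer Co0 Spor.leechU ⊓
      MulAction.stabilizer Co0 (-(Spor.leechU + Spor.leechV)) = pvU.group := by
    ext a
    show a • _ = _ ∧ a • _ = _ ↔ a • _ = _ ∧ a • Spor.leechU = Spor.leechU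
    rw [co0_neg, neg_inj, co0_add]
    constructor
    · rintro ⟨a1, a2⟩; rw [a1, add_right_inj] at a2; exact ⟨a2, a1⟩
    · rintro ⟨a1, a2⟩; rw [a1, a2]; exact ⟨rfl, rfl⟩
  let E := (stabEquiv₂ g v w _ _ h1 h2).trans (MulEquiv.subgroupCongr e)
  haveI := mcl_simple hS
  exact ⟨E.isSimpleGroup, (Nat.card_congr E.toEquiv).trans card_mcl_model⟩

end H95
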