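import Cfsg.Agent.H95.McLPoints

/-!
`Co0` is transitive on triples of the McLaughlin configuration.
-/

set_option autoImplicit false

namespace H95

open Cfsg Finset

@[local simp] theorem pt_one_ne : (1 : ZMod 23) ≠ 0 := by decide

@[local simp] theorem pt_zero_ne : (0 : ZMod 23) ≠ 1 := by decide

/-- `4 e + 4 e₁` -/
noncomputable def xBase : leechLattice :=
  quad none (some 1) (by simp) 1 1 (Or.inl rfl) (Or.inl rfl)

theorem xBase_apply (i : GolayPt) :
    (xBase : GolayPt → ℤ) i = if i = none ∨ i = some 1 then 4 else 0 := by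
  show (Pi.single none (4 * 1) + Pi.single (some 1) (4 * 1) : GolayPt → ℤ) i = _
  simp only [Pi.add_apply, Pi.single_apply]
  by_cases h1 : i = none
  · subst h1; simp
  · by_cases h2 : i = some 1 <;> simp [h1, h2]

theorem ldot_xBase (w : leechLattice) :
    ldot w xBase = 4 * (w : GolayPt → ℤ) none + 4 * (w : GolayPt → ℤ) (some 1) := by
  rw [xBase, ldot_quad]; ring

theorem xBase_mem : xBase ∈ mclSet uBase vBase := by
  refine ⟨quad_norm _ _ _, ?_, ?_⟩
  · rw [ldot_xBase, uBase_none, uBase_some]; norm_num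
  · rw [ldot_xBase, coe_vBase]
    simp

theorem smul_mclSet {g : Co0} {u v x : leechLattice} (h : x ∈ mclSet u v) :
    g • x ∈ mclSet (g • u) (g • v) :=
  ⟨by rw [co0_dot]; exact h.1, by rw [co0_dot]; exact h.2.1, by rw [co0_dot]; exact h.2.2⟩

/-- monomial normalisation -/
theorem frame_finish {u x : leechLattice} (hu : ldot u u = 48)
    (hu0 : (u : GolayPt → ℤ) none = 5) (hu1 : (u : GolayPt → ℤ) (some 0) = 1)
    (hx : x ∈ mclSet u vBase) (hx0 : (x : GolayPt → ℤ) none = 4)
    (hx1 : (x : GolayPt → ℤ) (some 0) = 0) :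
    ∃ h : Co0, h • u = uBase ∧ h • vBase = vBase ∧ h • x = xBase ∧
      ∀ y : leechLattice, ((h • y : leechLattice) : GolayPt → ℤ) none = (y : GolayPt → ℤ) none := by
  classical
  obtain ⟨hxn, hxu, -⟩ := hx
  -- the shape of `x`
  obtain ⟨j, s, hj0, hj1, hs, hxs⟩ : ∃ (j : GolayPt) (s : ℤ), j ≠ none ∧ j ≠ some 0 ∧
      (s = 1 ∨ s = -1) ∧ ∀ i, (x : GolayPt → ℤ) i = if i = none then 4 else if i = j then 4 * s else 0 := by
    have hn' : sqNorm (x : GolayPt → ℤ) = 32 := by rw [sqNorm_eq_ldot]; exact hxn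
    rcases min_cases hxn with ⟨a, b, hab, s, t, hs, ht, rfl⟩ | ⟨-, k, hk⟩ | ⟨-, hodd⟩
    · have e : ∀ i, (quad a b hab s t hs ht : GolayPt → ℤ) i
          = (if i = a then 4 * s else 0) + if i = b then 4 * t else 0 := fun i => by
        rw [show (quad a b hab s t hs ht : GolayPt → ℤ)
          = Pi.single a (4 * s) + Pi.single b (4 * t) from rfl, Pi.add_apply, Pi.single_apply,
          Pi.single_apply]
      rw [e] at hx0 hx1
      by_cases ha : a = none
      · subst ha
        simp only [if_true, if_neg hab, add_zero] at hx0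
        have hb0 : b ≠ some 0 := fun h => by subst h; simp at hx1; omega
        refine ⟨b, t, Ne.symm hab, hb0, ht, fun i => ?_⟩
        rw [e]
        by_cases h1 : i = none
        · subst h1; simp [hab, hx0]
        · by_cases h2 : i = b <;> simp [h1, h2, Ne.symm hab]
      · by_cases hb : b = none
        · subst hb
          simp only [if_true, if_neg (Ne.symm hab), zero_add] at hx0
          have ha0 : a ≠ some 0 := fun h => by subst h; simp at hx1; omega
          refine ⟨a, s, hab, ha0, hs, fun i => ?_⟩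
          rw [e]
          by_cases h1 : i = none
          · subst h1; simp [Ne.symm hab, hx0]
          · by_cases h2 : i = a <;> simp [h1, h2, hab]
        · simp [Ne.symm ha, Ne.symm hb] at hx0
    · obtain ⟨a, -, -, hs⟩ := octad_shape x.2 hn' hk
      rcases hs none with ⟨-, e⟩ | ⟨-, e⟩ <;> omega
    · omega
  -- the shape of `u`
  have hpar : ∀ i, (u : GolayPt → ℤ) i % 2 = 1 := fun i => by
    have := parity_leech u.2 i none; omega
  have hone : ∀ i, i ≠ none → (u : GolayPt → ℤ) i = 1 ∨ (u : GolayPt → ℤ) i = -1 := by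
    intro i hi
    have hle : ∀ k, (1 : ℤ) + (if k = none then 24 else 0)
        + (if k = i then (u : GolayPt → ℤ) i ^ 2 - 1 else 0) ≤ (u : GolayPt → ℤ) k ^ 2 := by
      intro k
      by_cases h1 : k = none
      · subst h1; simp [Ne.symm hi, hu0]
      · by_cases h2 : k = i
        · subst h2; simp [h1]
        · simp only [h1, h2, if_false, add_zero]
          have : (u : GolayPt → ℤ) k ≠ 0 := by have := hpar k; omega
          nlinarith [sq_pos_of_ne_zero this]
    have hsum := sum_le_sum (s := univ) fun k _ => hle k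
    rw [sum_add_distrib, sum_add_distrib, sum_ite_eq' univ none, sum_ite_eq' univ i,
      if_pos (mem_univ _), if_pos (mem_univ _), sum_const, card_univ,
      show Fintype.card GolayPt = 24 from rfl] at hsum
    rw [← sqNorm_eq_ldot] at hu
    unfold sqNorm at hu
    rw [hu] at hsum
    norm_num at hsum
    have := hpar i
    rw [abs_le] at hsum
    omega
  obtain ⟨m, hm, a, ha, z, hz, -⟩ := exists_form u.2
  have hm1 : m = 1 := by have := hz none; omega
  subst hm1
  have hai : ∀ i, a i ≠ 0 ↔ (u : GolayPt → ℤ) i % 4 = 3 := by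
    intro i
    have := hz i
    rcases zmod2_cases (a i) with h | h <;> rw [h] at this ⊢ <;>
      simp [show ((1 : ZMod 2).val) = 1 from rfl] at this ⊢ <;> omega
  set g1 := signEl ⟨a, ha⟩ with hg1
  have hg1u : g1 • u = uBase := by
    refine Subtype.ext (funext fun i => ?_)
    rw [hg1, signEl_coord]
    show (if a i ≠ 0 then -(u : GolayPt → ℤ) i else (u : GolayPt → ℤ) i) = _
    have h1 := hai i
    rcases i with _ | k
    · rw [if_neg (by rw [h1, hu0]; decide), uBase_none, hu0]
    · rw [uBase_some]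
      have h2 := hone (some k) (by simp)
      by_cases h : a (some k) ≠ 0
      · rw [if_pos h]; have := h1.mp h; omega
      · rw [if_neg h]; have := mt h1.mpr h; omega
  have han : a none = 0 := by
    by_contra h; have := (hai none).mp h; omega
  have ha0 : a (some 0) = 0 := by
    by_contra h; have := (hai (some 0)).mp h; omega
  have hg1v : g1 • vBase = vBase :=
    mono_fix_vBase (one_mem _) (code_supp _) rfl rfl (by simp [support₂, han]) (by simp [support₂, ha0])
  have hg1n : ∀ y : leechLattice,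
      ((g1 • y : leechLattice) : GolayPt → ℤ) none = (y : GolayPt → ℤ) none := fun y => by
    rw [hg1, signEl_coord]; simp [han]
  -- the sign at `j`
  have hxj : ((g1 • x : leechLattice) : GolayPt → ℤ) j = 4 := by
    have h1 : ldot uBase (g1 • x) = 24 := by rw [← hg1u, co0_dot]; exact hxu
    have hne : ∀ i, i ≠ none → i ≠ j → ((g1 • x : leechLattice) : GolayPt → ℤ) i = 0 := fun i a1 a2 => by
      rw [hg1, signEl_coord, hxs i, if_neg a1, if_neg a2]; simp
    rw [uBase_dot, hg1n, hxs none, if_pos rfl,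
      ← sum_subset (subset_univ ({none, j} : Finset GolayPt)) (fun i _ hi => by
        simp only [mem_insert, mem_singleton, not_or] at hi
        exact hne i hi.1 hi.2),
      sum_pair hj0.symm, hg1n, hxs none, if_pos rfl] at h1
    linarith
  obtain ⟨σ, hσ, s1, s2, s3⟩ := m24_move_three (p := none) (q := some 0) (r := j) (p' := none)
    (q' := some 0) (r' := some 1) (by simp) hj0.symm hj1.symm (by simp) (by simp) (by simp)
  have hsn : σ.symm none = none := by rw [Equiv.symm_apply_eq]; exact s1.symm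
  refine ⟨permHom ⟨σ, hσ⟩ * g1, ?_, ?_, ?_, fun y => ?_⟩
  · rw [mul_smul, hg1u]; exact permHom_fix_const ⟨σ, hσ⟩ s1 uBase_some
  · rw [mul_smul, hg1v]; exact mono_fix_vBase hσ empty_supp s1 s2 (by simp) (by simp)
  · rw [mul_smul]
    refine Subtype.ext (funext fun i => ?_)
    rw [permHom_apply, xBase_apply]
    show ((g1 • x : leechLattice) : GolayPt → ℤ) (σ.symm i) = _
    by_cases h1 : σ.symm i = none
    · have : i = none := by rw [Equiv.symm_apply_eq, s1] at h1; exact h1
      subst this
      rw [h1, hg1n, hxs none]; simp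
    · by_cases h2 : σ.symm i = j
      · have : i = some 1 := by rw [Equiv.symm_apply_eq, s3] at h2; exact h2
        subst this
        rw [h2, hxj]; simp
      · have h3 : i ≠ none := fun h => h1 (by rw [h]; exact hsn)
        have h4 : i ≠ some 1 := fun h => h2 (by rw [h, Equiv.symm_apply_eq]; exact s3.symm)
        rw [hg1, signEl_coord, hxs _, if_neg h1, if_neg h2, if_neg (not_or.mpr ⟨h3, h4⟩)]
        simp
  · rw [mul_smul, permHom_apply]
    show ((g1 • y : leechLattice) : GolayPt → ℤ) (σ.symm none) = _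
    rw [hsn, hg1n]

/-- a vector `z` defines a frame in which the triple is standard -/
theorem frame_std {u x z : leechLattice} (hu : ldot u u = 48) (huv : ldot u vBase = 24)
    (hx : x ∈ mclSet u vBase) (hz : ldot z z = 32) (hzv : ldot vBase z = 0) (hxz : ldot x z = 16)
    (huz : ldot u z = 16) :
    ∃ g : Co0, g • u = uBase ∧ g • vBase = vBase ∧ g • x = xBase ∧
      ∀ y : leechLattice, 8 * ((g • y : leechLattice) : GolayPt → ℤ) none = ldot y vBase + ldot y z := by
  obtain ⟨g, hgv, hgz⟩ := orth_pair_transitive golayUnique vBase_norm hz hzv vBase_norm zBase_norm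
    vBase_zBase
  have hc : ∀ y : leechLattice,
      8 * ((g • y : leechLattice) : GolayPt → ℤ) none = ldot y vBase + ldot y z ∧
      8 * ((g • y : leechLattice) : GolayPt → ℤ) (some 0) = ldot y vBase - ldot y z := by
    intro y
    have h1 : ldot (g • y) vBase = ldot y vBase := by conv_lhs => rw [← hgv, co0_dot]
    have h2 : ldot (g • y) zBase = ldot y z := by rw [← hgz, co0_dot]
    rw [ldot_vBase] at h1
    rw [ldot_zBase] at h2
    constructor <;> linarith
  have hu' : ldot (g • u) (g • u) = 48 := by rw [co0_dot, hu]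
  have hxv : ldot x vBase = 16 := by rw [ldot_comm]; exact hx.2.2
  obtain ⟨a1, a2⟩ := hc u
  obtain ⟨b1, b2⟩ := hc x
  rw [huv, huz] at a1 a2
  rw [hxv, hxz] at b1 b2
  obtain ⟨h, h1, h2, h3, h4⟩ := frame_finish (u := g • u) (x := g • x) hu' (by omega) (by omega)
    (by have := smul_mclSet (g := g) hx; rwa [hgv] at this) (by omega) (by omega)
  refine ⟨h * g, by rw [mul_smul, h1], by rw [mul_smul, hgv, h2], by rw [mul_smul, h3], fun y => ?_⟩
  rw [mul_smul, h4]
  exact (hc y).1

theorem pair_transitive_16 {v x v' x' : leechLattice} (hv : ldot v v = 32) (hx : ldot x x = 32)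
    (hd : ldot v x = 16) (hv' : ldot v' v' = 32) (hx' : ldot x' x' = 32) (hd' : ldot v' x' = 16) :
    ∃ g : Co0, g • v = v' ∧ g • x = x' := by
  obtain ⟨g1, hg1⟩ := transitive_32 golayUnique hv hv'
  obtain ⟨g2, hg2, hg2'⟩ := transitive_m16 golayUnique hv' (w := -(g1 • x)) (w' := -x')
    (by rw [leechLike.norm_neg, co0_dot, hx]) (by rw [leechLike.norm_neg, hx'])
    (by rw [leechLike.neg_right, ← hg1, co0_dot, hd]) (by rw [leechLike.neg_right, hd'])
  refine ⟨g2 * g1, by rw [mul_smul, hg1, hg2], ?_⟩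
  rw [mul_smul]
  exact neg_injective (by rw [← co0_neg, hg2'])

/-- every configuration triple is equivalent to the standard one -/
theorem exists_triple_std {u v x : leechLattice} (hu : ldot u u = 48) (hv : ldot v v = 32)
    (huv : ldot u v = 24) (hx : x ∈ mclSet u v) :
    ∃ g : Co0, g • u = uBase ∧ g • v = vBase ∧ g • x = xBase := by
  classical
  obtain ⟨g, hgv, hgx⟩ := pair_transitive_16 hv hx.1 hx.2.2 vBase_norm xBase_mem.1 xBase_mem.2.2
  set u1 := g • u with hu1
  have hn1 : ldot u1 u1 = 48 := by rw [hu1, co0_dot, hu]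
  have huv1 : ldot u1 vBase = 24 := by rw [hu1, ← hgv, co0_dot, huv]
  have hx1 : xBase ∈ mclSet u1 vBase := by rw [← hgv, ← hgx, hu1]; exact smul_mclSet hx
  have hw : ldot (u1 - vBase) (u1 - vBase) = 32 := by
    rw [leechLike.norm_sub, hn1, vBase_norm, huv1]; norm_num
  set w := u1 - vBase with hwdef
  have hwi : ∀ i, (u1 : GolayPt → ℤ) i = (w : GolayPt → ℤ) i + (vBase : GolayPt → ℤ) i := fun i => by
    rw [hwdef]; simp
  have e1 := hx1.2.1
  rw [ldot_xBase, hwi, hwi, coe_vBase] at e1
  have e2 := huv1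
  rw [ldot_vBase, hwi, hwi, coe_vBase] at e2
  simp at e1 e2
  -- the frame vector
  have hz : ∃ z : leechLattice, ldot z z = 32 ∧ ldot vBase z = 0 ∧ ldot xBase z = 16 ∧
      ldot u1 z = 16 := by
    by_cases ha : (w : GolayPt → ℤ) none = 1
    · refine ⟨zBase, zBase_norm, vBase_zBase, ?_, ?_⟩
      · rw [ldot_zBase, xBase_apply, xBase_apply]; simp
      · rw [ldot_zBase, hwi, hwi, coe_vBase]; simp; omega
    · have hn' : sqNorm (w : GolayPt → ℤ) = 32 := by rw [sqNorm_eq_ldot]; exact hw
      obtain ⟨j, s, hs, hj0, hj1, hj2, hj⟩ : ∃ (j : GolayPt) (s : ℤ), (s = 1 ∨ s = -1) ∧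
          j ≠ none ∧ j ≠ some 0 ∧ j ≠ some 1 ∧
          (w : GolayPt → ℤ) (some 1) + s * (w : GolayPt → ℤ) j = 4 := by
        rcases min_cases hw with ⟨a, b, hab, s, t, hs, ht, hq⟩ | ⟨-, k, hk⟩ | ⟨-, hodd⟩
        · exfalso
          have hv4 : ∀ i, (w : GolayPt → ℤ) i = 0 ∨ (w : GolayPt → ℤ) i = 4 ∨ (w : GolayPt → ℤ) i = -4 := by
            intro i
            rw [hq, show (quad a b hab s t hs ht : GolayPt → ℤ)
              = Pi.single a (4 * s) + Pi.single b (4 * t) from rfl, Pi.add_apply, Pi.single_apply,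
              Pi.single_apply]
            by_cases h1 : i = a
            · subst h1; rw [if_pos rfl, if_neg hab]; omega
            · rw [if_neg h1]; split <;> omega
          have := hv4 none; have := hv4 (some 0); have := hv4 (some 1)
          omega
        · obtain ⟨a, -, ha8, hs⟩ := octad_shape w.2 hn' hk
          have hval : ∀ i, (w : GolayPt → ℤ) i = 0 ∨ (w : GolayPt → ℤ) i = 2 ∨ (w : GolayPt → ℤ) i = -2 :=
            fun i => by rcases hs i with ⟨-, e⟩ | ⟨-, e⟩ <;> omega
          have := hval none; have := hval (some 0); have := hval (some 1)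
          have hw1 : (w : GolayPt → ℤ) (some 1) = 2 := by omega
          obtain ⟨j, hj, hjn⟩ := exists_mem_notMem_of_card_lt_card
            (s := ({none, some 0, some 1} : Finset GolayPt)) (t := support₂ a)
            (lt_of_le_of_lt card_le_three (by rw [← hammingNorm_eq_support₂, ha8]; norm_num))
          simp only [mem_insert, mem_singleton, not_or] at hjn
          simp only [support₂, mem_filter, mem_univ, true_and] at hj
          rcases hs j with ⟨e, -⟩ | ⟨-, e | e⟩
          · exact absurd e hj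
          · exact ⟨j, 1, Or.inl rfl, hjn.1, hjn.2.1, hjn.2.2, by omega⟩
          · exact ⟨j, -1, Or.inr rfl, hjn.1, hjn.2.1, hjn.2.2, by omega⟩
        · obtain ⟨l, hl, hrest⟩ := odd_shape w.2 hn' hodd
          have hl1 : l = some 1 ∧ (w : GolayPt → ℤ) (some 1) = 3 := by
            by_cases h1 : l = none
            · subst h1; have := hrest (some 0) (by simp); have := hrest (some 1) (by simp); omega
            · have := hrest none (Ne.symm h1)
              by_cases h2 : l = some 1
              · subst h2; exact ⟨rfl, by omega⟩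
              · have := hrest (some 1) (Ne.symm h2); omega
          obtain ⟨j, hj⟩ : ∃ j : GolayPt, j ≠ none ∧ j ≠ some 0 ∧ j ≠ some 1 :=
            ⟨some 2, by decide, by decide, by decide⟩
          rcases hrest j (by rw [hl1.1]; exact hj.2.2) with e | e
          · exact ⟨j, 1, Or.inl rfl, hj.1, hj.2.1, hj.2.2, by omega⟩
          · exact ⟨j, -1, Or.inr rfl, hj.1, hj.2.1, hj.2.2, by omega⟩
      refine ⟨quad (some 1) j (Ne.symm hj2) 1 s (Or.inl rfl) hs, quad_norm _ _ _, ?_, ?_, ?_⟩
      · rw [ldot_quad, coe_vBase]; simp [hj0, hj1]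
      · rw [ldot_quad, xBase_apply, xBase_apply]; simp [hj0, hj2]
      · rw [ldot_quad, hwi, hwi, coe_vBase]
        simp [hj0, hj1]
        linarith
  obtain ⟨z, hzn, hzv, hzx, hzu⟩ := hz
  obtain ⟨g', h1, h2, h3, -⟩ := frame_std hn1 huv1 hx1 hzn hzv hzx hzu
  exact ⟨g' * g, by rw [mul_smul, h1], by rw [mul_smul, hgv, h2], by rw [mul_smul, hgx, h3]⟩

theorem mclSet_transitive {u v x x' : leechLattice} (hu : ldot u u = 48) (hv : ldot v v = 32)
    (huv : ldot u v = 24) (hx : x ∈ mclSet u v) (hx' : x' ∈ mclSet u v) :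
    ∃ g : Co0, g • u = u ∧ g • v = v ∧ g • x = x' := by
  obtain ⟨g, a1, a2, a3⟩ := exists_triple_std hu hv huv hx
  obtain ⟨g', b1, b2, b3⟩ := exists_triple_std hu hv huv hx'
  refine ⟨g'⁻¹ * g, ?_, ?_, ?_⟩ <;> rw [mul_smul, inv_smul_eq_iff]
  · rw [a1, b1]
  · rw [a2, b2]
  · rw [a3, b3]

theorem mclSet_eq {u v : leechLattice} (hu : ldot u u = 48) :
    {x : leechLattice | sqNorm (x : GolayPt → ℤ) = 32 ∧
      sqNorm ((u - x) : GolayPt → ℤ) = 32 ∧ dotInt (v : GolayPt → ℤ) (x : GolayPt → ℤ) = 16}
      = mclSet u v := by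
  ext x
  have h : sqNorm ((u - x) : GolayPt → ℤ) = ldot (u - x) (u - x) := sqNorm_eq_ldot (u - x)
  show _ ∧ _ ∧ _ ↔ ldot x x = 32 ∧ ldot u x = 24 ∧ ldot v x = 16
  rw [sqNorm_eq_ldot, h, leechLike.norm_sub, hu]
  constructor <;> rintro ⟨h1, h2, h3⟩ <;> exact ⟨h1, by linarith, h3⟩

theorem summand_dot {u v : leechLattice} (hu : ldot u u = 48) (hv : ldot v v = 32)
    (hw : sqNorm ((u - v) : GolayPt → ℤ) = 32) : ldot u v = 24 := by
  rw [show sqNorm ((u - v) : GolayPt → ℤ) = ldot (u - v) (u - v) from sqNorm_eq_ldot (u - v),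
    leechLike.norm_sub, hu, hv] at hw
  linarith

theorem image_mclSet (g : Co0) (u v : leechLattice) :
    (fun x => g • x) '' mclSet u v = mclSet (g • u) (g • v) := by
  ext y
  constructor
  · rintro ⟨x, hx, rfl⟩; exact smul_mclSet hx
  · intro hy
    refine ⟨g⁻¹ • y, ?_, smul_inv_smul g y⟩
    have := smul_mclSet (g := g⁻¹) hy
    rwa [inv_smul_smul, inv_smul_smul] at this

theorem exists_uv_std {u v : leechLattice} (hu : ldot u u = 48) (hv : ldot v v = 32)
    (huv : ldot u v = 24) : ∃ g : Co0, g • u = uBase ∧ g • v = vBase := by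
  obtain ⟨g1, hg1⟩ := transitive_48 golayUnique hu uBase_norm
  have hd : ldot uBase (g1 • v) = 24 := by rw [← hg1, co0_dot, huv]
  obtain ⟨g2, h1, h2⟩ := decomp_transitive golayUnique uBase_norm (v := g1 • v) (v' := vBase)
    (by rw [co0_dot, hv]) (decomp_norm uBase_norm (by rw [co0_dot, hv]) hd) vBase_norm
    (decomp_norm uBase_norm vBase_norm uBase_vBase)
  exact ⟨g2 * g1, by rw [mul_smul, hg1, h1], by rw [mul_smul, h2]⟩

theorem ncard_mclSet {u v : leechLattice} (hu : ldot u u = 48) (hv : ldot v v = 32)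
    (huv : ldot u v = 24) : (mclSet u v).ncard = 275 := by
  obtain ⟨g, h1, h2⟩ := exists_uv_std hu hv huv
  rw [← Set.ncard_image_of_injective (mclSet u v) (MulAction.injective g), image_mclSet, h1, h2]
  have h := ncard_mcl_filter fun _ => true
  simp only [and_true] at h
  rw [show {x | x ∈ mclSet uBase vBase} = mclSet uBase vBase from rfl] at h
  rw [h]
  decide +kernel

end H95
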