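import Cfsg.Agent.H95.Co3Simple

/-!
The stabiliser of a minimal vector is simple.
-/

set_option autoImplicit false

namespace H95

open Cfsg Finset

/-- orbits of a two group, all of one size, on a set of order not divisible by four -/
theorem orbit_le_two {M X : Type*} [Group M] [MulAction M X] [Finite X] [Finite M]
    (hM : IsPGroup 2 M)
    (hsame : ∀ x y : X, (MulAction.orbit M x).ncard = (MulAction.orbit M y).ncard)
    (h4 : ¬ 4 ∣ Nat.card X) (x : X) : (MulAction.orbit M x).ncard ≤ 2 := by
  classical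
  haveI : Fact (Nat.Prime 2) := ⟨Nat.prime_two⟩
  haveI := Fintype.ofFinite (MulAction.orbitRel.Quotient M X)
  obtain ⟨k, hk⟩ := hM.card_orbit x
  rw [Nat.card_coe_set_eq] at hk
  by_contra hc
  refine h4 ?_
  have hd : 4 ∣ (MulAction.orbit M x).ncard := by
    rw [hk] at hc ⊢
    rcases k with _ | _ | k
    · norm_num at hc
    · norm_num at hc
    · exact ⟨2 ^ k, by ring⟩
  rw [Nat.card_congr (MulAction.selfEquivSigmaOrbits M X), Nat.card_sigma]
  refine Finset.dvd_sum fun ω _ => ?_
  rw [Nat.card_coe_set_eq, hsame _ x]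
  exact hd

/-- the vector `(-3, 1²³)` -/
def oddL : leechLattice := ⟨oddVec, oddVec_mem⟩

theorem oddL_none : (oddL : GolayPt → ℤ) none = -3 := rfl
theorem oddL_some (x : ZMod 23) : (oddL : GolayPt → ℤ) (some x) = 1 := rfl

theorem oddL_norm : ldot oddL oddL = 32 := by
  rw [norm_const oddL_none oddL_some]; norm_num

theorem card_stab_32 {v : leechLattice} (hv : ldot v v = 32) :
    Nat.card (MulAction.stabilizer Co0 v) = 42305421312000 := by
  have h := card_orbit_mul (v := v) {x | ldot x x = 32} 196560 leechLike.count32 fun q => by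
    constructor
    · intro hq; exact transitive_32 golayUnique hv hq
    · rintro ⟨g, rfl⟩
      show ldot (g • v) (g • v) = 32
      rw [co0_dot, hv]
  exact Nat.eq_of_mul_eq_mul_right (by norm_num : 0 < 196560) (h.trans (by norm_num))

/-- the point stabiliser of `M24` in the stabiliser of a vector constant off the extra point -/
noncomputable def constHom (v : leechLattice) (b : ℤ) (h1 : ∀ x, (v : GolayPt → ℤ) (some x) = b) :
    MulAction.stabilizer M24 (none : GolayPt) →* MulAction.stabilizer Co0 v :=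
  (permHom.comp (MulAction.stabilizer M24 (none : GolayPt)).subtype).codRestrict _
    fun σ => permHom_fix_const σ.1 σ.2 h1

theorem eight_back {g : Co0} {v : leechLattice} (hg : g • v = v) :
    ldot (g⁻¹ • eight none) v = ldot (eight none) v := by
  calc ldot (g⁻¹ • eight none) v = ldot (g⁻¹ • eight none) (g⁻¹ • v) := by
        rw [inv_smul_eq_iff.mpr hg.symm]
    _ = ldot (eight none) v := co0_dot _ _ _

theorem const_crit {v : leechLattice} {a b : ℤ} (h0 : (v : GolayPt → ℤ) none = a)
    (h1 : ∀ x, (v : GolayPt → ℤ) (some x) = b) (ha : a ≠ 0) (hb : b ≠ 0)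
    (hS : IsSimpleGroup (MulAction.stabilizer M24 (none : GolayPt)))
    (hsq : ¬ 23 ^ 2 ∣ Nat.card (MulAction.stabilizer Co0 v)) :
    ∃ D : CritData (MulAction.stabilizer Co0 v) 23, D.S = (constHom v b h1).range := by
  have hinj : Function.Injective (constHom v b h1) := fun _ _ h =>
    Subtype.ext (permHom_injective (congrArg Subtype.val h))
  refine ⟨⟨(constHom v b h1).range, ?_, constHom v b h1 translStab, ⟨translStab, rfl⟩, ?_, hsq, ?_⟩, rfl⟩
  · haveI := hS
    exact (MonoidHom.ofInjective hinj).symm.isSimpleGroup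
  · rw [orderOf_injective _ hinj]; exact order_translStab
  · intro g hg
    have hfix : (constHom v b h1 translStab).1 • eight none = eight none := by
      show permHom translOne • eight none = _
      rw [permHom_eight]; rfl
    obtain ⟨k, hk⟩ := hg
    have hgx : (g * constHom v b h1 translStab * g⁻¹).1 • eight none = eight none := by
      have hk' : constHom v b h1 translStab ^ k = g * constHom v b h1 translStab * g⁻¹ := hk
      rw [← hk', SubgroupClass.coe_zpow]
      exact (MulAction.stabilizer Co0 (eight none)).zpow_mem hfix k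
    have hu : permHom translOne • ((g.1)⁻¹ • eight none) = (g.1)⁻¹ • eight none := by
      simp only [Subgroup.coe_mul, InvMemClass.coe_inv, mul_smul] at hgx
      exact (eq_inv_smul_iff.mpr hgx)
    have he : (g.1)⁻¹ • eight none = eight none := by
      refine eq_eight_of_fix hu h0 h1 ?_ ?_ ha
      · rw [co0_dot, eight_norm]
      · rw [eight_back g.2, ldot_comm, ldot_eight, h0]; ring
    have hge : g.1 • eight none = eight none := by
      conv_lhs => rw [← he]
      exact smul_inv_smul _ _
    obtain ⟨σ, hσ, hgσ⟩ := mono_of_const hge h1 hb g.2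
    exact ⟨⟨σ, hσ⟩, Subtype.ext hgσ.symm⟩

/-- the minimal vectors orthogonal to `oddL` -/
abbrev Perp : Type := {w : leechLattice // w ∈ minWith oddL 0}

theorem co2_two_group_trivial {N : Subgroup (MulAction.stabilizer Co0 oddL)} (hN : N.Normal)
    (h2 : IsPGroup 2 N) (hdis : ∀ g : MulAction.stabilizer Co0 oddL,
      (∃ σ : M24, σ.1 none = none ∧ g.1 = permHom σ) → g ∈ N → g = 1) : N = ⊥ := by
  classical
  haveI : Finite Co0 := co0_finite
  have hfin : Finite Perp :=
    ((leechLike.finite_norm (Or.inl rfl)).subset fun w (hw : w ∈ minWith oddL 0) => hw.1).to_subtype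
  have hcardX : Nat.card Perp = 93150 :=
    (Nat.card_coe_set_eq _).trans (census_min golayUnique oddL_norm).2.2
  have hsgn : ∀ (e : ℤˣ) {w : leechLattice}, w ∈ minWith oddL 0 → (e : ℤ) • w ∈ minWith oddL 0 := by
    intro e w hw
    rcases Int.units_eq_one_or e with rfl | rfl
    · rwa [Units.val_one, one_zsmul]
    · rw [Units.val_neg, Units.val_one, neg_one_zsmul]
      exact ⟨by rw [leechLike.norm_neg]; exact hw.1, by rw [leechLike.neg_right, hw.2, neg_zero]⟩
  have hmv : ∀ (g : MulAction.stabilizer Co0 oddL) {w : leechLattice}, w ∈ minWith oddL 0 →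
      g.1 • w ∈ minWith oddL 0 := by
    intro g w hw
    refine ⟨by rw [co0_dot]; exact hw.1, ?_⟩
    calc ldot oddL (g.1 • w) = ldot (g.1 • oddL) (g.1 • w) := by
          rw [MulAction.mem_stabilizer_iff.mp g.2]
      _ = 0 := by rw [co0_dot]; exact hw.2
  letI act : MulAction (N × ℤˣ) Perp :=
    { smul := fun p w => ⟨(p.2 : ℤ) • (p.1.1.1 • w.1), hsgn _ (hmv _ w.2)⟩
      one_smul := fun w => Subtype.ext (by
        show ((1 : ℤˣ) : ℤ) • ((1 : Co0) • w.1) = w.1
        rw [Units.val_one, one_zsmul, one_smul])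
      mul_smul := fun p q w => Subtype.ext (by
        show ((p.2 * q.2 : ℤˣ) : ℤ) • ((p.1.1.1 * q.1.1.1) • w.1)
          = (p.2 : ℤ) • (p.1.1.1 • ((q.2 : ℤ) • (q.1.1.1 • w.1)))
        rw [co0_zsmul, mul_smul, Units.val_mul, mul_zsmul]) }
  have hM : IsPGroup 2 (N × ℤˣ) := by
    obtain ⟨k, hk⟩ := h2.exists_card_eq
    exact IsPGroup.of_card (n := k + 1) (by
      rw [Nat.card_prod, hk, Nat.card_eq_fintype_card (α := ℤˣ)]; simp [pow_succ])
  have hsame : ∀ x y : Perp, (MulAction.orbit (N × ℤˣ) x).ncard
      = (MulAction.orbit (N × ℤˣ) y).ncard := by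
    intro x y
    obtain ⟨g, hg1, hg2⟩ := orth_pair_transitive golayUnique oddL_norm x.2.1 x.2.2
      oddL_norm y.2.1 y.2.2
    let G' : MulAction.stabilizer Co0 oddL := ⟨g, hg1⟩
    let φ : Perp → Perp := fun w => ⟨g • w.1, hmv G' w.2⟩
    have hφ : Function.Injective φ := fun a b h =>
      Subtype.ext (MulAction.injective g (congrArg Subtype.val h))
    rw [← Set.ncard_image_of_injective (MulAction.orbit (N × ℤˣ) x) hφ]
    congr 1
    ext w
    constructor
    · rintro ⟨_, ⟨⟨n, e⟩, rfl⟩, rfl⟩
      refine ⟨(⟨G' * n * G'⁻¹, hN.conj_mem n n.2 G'⟩, e), Subtype.ext ?_⟩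
      show (e : ℤ) • ((g * n.1.1 * g⁻¹) • y.1) = g • ((e : ℤ) • (n.1.1 • x.1))
      rw [mul_smul, mul_smul, ← hg2, inv_smul_smul, co0_zsmul]
    · rintro ⟨⟨n, e⟩, rfl⟩
      refine ⟨_, ⟨(⟨G'⁻¹ * n * G', by simpa using hN.conj_mem n n.2 G'⁻¹⟩, e), rfl⟩, Subtype.ext ?_⟩
      show g • ((e : ℤ) • ((g⁻¹ * n.1.1 * g) • x.1)) = (e : ℤ) • (n.1.1 • y.1)
      rw [co0_zsmul, mul_smul, mul_smul, hg2, smul_inv_smul]
  have hpm : ∀ n ∈ N, ∀ w ∈ minWith oddL 0, n.1 • w = w ∨ n.1 • w = -w := by
    intro n hn w hw
    set x : Perp := ⟨w, hw⟩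
    have hle := orbit_le_two hM hsame (by rw [hcardX]; norm_num) x
    set y : Perp := ⟨-w, by simpa using hsgn (-1) hw⟩
    set z : Perp := ⟨n.1 • w, hmv n hw⟩
    have hy : y ∈ MulAction.orbit (N × ℤˣ) x := ⟨(1, -1), Subtype.ext (by
      show ((-1 : ℤˣ) : ℤ) • ((1 : Co0) • w) = -w
      simp)⟩
    have hz : z ∈ MulAction.orbit (N × ℤˣ) x := ⟨(⟨n, hn⟩, 1), Subtype.ext (by
      show ((1 : ℤˣ) : ℤ) • (n.1 • w) = n.1 • w
      simp)⟩
    have hxy : x ≠ y := fun e => by
      have e' : w = -w := congrArg Subtype.val e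
      have h1 := hw.1
      have : ldot w w = -ldot w w := by
        conv_lhs => arg 2; rw [e']
        rw [leechLike.neg_right]
      omega
    by_contra hc
    push Not at hc
    have h3 : ({x, y, z} : Set Perp).ncard = 3 :=
      Set.ncard_eq_three.mpr ⟨x, y, z, hxy, fun e => hc.1 (congrArg Subtype.val e).symm,
        fun e => hc.2 (congrArg Subtype.val e).symm, rfl⟩
    have := Set.ncard_le_ncard (s := {x, y, z}) (t := MulAction.orbit (N × ℤˣ) x)
      (by
        intro q hq
        rcases hq with rfl | rfl | rfl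
        · exact MulAction.mem_orbit_self _
        · exact hy
        · exact hz) (Set.toFinite _)
    omega
  rw [Subgroup.eq_bot_iff_forall]
  intro n hn
  refine hdis n ?_ hn
  set u := n.1 • eight none with hu
  have hconst : ∀ x : ZMod 23, (u : GolayPt → ℤ) (some x) = (u : GolayPt → ℤ) (some 0) := by
    intro x
    by_cases hx : x = 0
    · rw [hx]
    · have hne : (some x : GolayPt) ≠ some 0 := by simp [hx]
      set w := quad (some x) (some 0) hne 1 (-1) (Or.inl rfl) (Or.inr rfl) with hw
      have hwm : w ∈ minWith oddL 0 := ⟨quad_norm _ _ _, by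
        rw [hw, ldot_quad, oddL_some, oddL_some]; norm_num⟩
      have hd : ldot u (n.1 • w) = 0 := by
        rw [hu, co0_dot, hw, ldot_quad]; simp [eight]
      have hd' : ldot u w = 0 := by
        rcases hpm n hn w hwm with e | e <;> rw [e] at hd
        · exact hd
        · rw [leechLike.neg_right] at hd; omega
      rw [hw, ldot_quad] at hd'
      omega
  have hfix : permHom translOne • u = u := permHom_fix_const translOne rfl hconst
  have hue : u = eight none := by
    refine eq_eight_of_fix hfix oddL_none oddL_some ?_ ?_ (by norm_num)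
    · rw [hu, co0_dot, eight_norm]
    · calc ldot u oddL = ldot u (n.1 • oddL) := by rw [MulAction.mem_stabilizer_iff.mp n.2]
        _ = 8 * -3 := by rw [hu, co0_dot, ldot_comm, ldot_eight, oddL_none]; norm_num
  exact mono_of_const hue oddL_some (by norm_num) n.2

theorem co2_simple (hS : IsSimpleGroup (MulAction.stabilizer M24 (none : GolayPt))) :
    IsSimpleGroup (MulAction.stabilizer Co0 oddL) := by
  haveI : Finite Co0 := co0_finite
  haveI : Fact (Nat.Prime 23) := ⟨by norm_num⟩
  obtain ⟨D, hDS⟩ := const_crit oddL_none oddL_some (by norm_num) (by norm_num) hS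
    (by rw [card_stab_32 oddL_norm]; norm_num)
  refine D.isSimple fun N hN hd => co2_two_group_trivial hN ?_ ?_
  · have hdv : Nat.card N ∣ 42305421312000 :=
      card_stab_32 oddL_norm ▸ Subgroup.card_subgroup_dvd_card N
    refine IsPGroup.of_card (n := (Nat.card N).primeFactorsList.length)
      (Nat.eq_prime_pow_of_unique_prime_dvd Nat.card_pos.ne' fun {q} hq hqN => ?_)
    have hmem := prime_mem_of_dvd_prod (L := [(2, 18), (3, 6), (5, 3), (7, 1), (11, 1), (23, 1)])
      (by simp only [List.forall_mem_cons, List.not_mem_nil, IsEmpty.forall_iff, implies_true, and_true]; norm_num)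
      hq (hqN.trans hdv |>.trans (by norm_num))
    have hno : ∀ q ∈ [3, 5, 7, 11], ¬ q ∣ Nat.card N := fun r hr => by
      have hok : powersOK 42305421312000 23 [3, 5, 7, 11] = true := by decide +kernel
      have hr2 : r.Prime := by
        simp only [List.mem_cons, List.not_mem_nil, or_false] at hr
        rcases hr with rfl | rfl | rfl | rfl <;> norm_num
      exact D.not_dvd N hd hr2 fun j hj hdj =>
        powersOK_spec hok (by norm_num) hr (by norm_num) hr2.two_le j hj
          (card_stab_32 oddL_norm ▸ hdj)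
    simp only [List.map_cons, List.map_nil, List.mem_cons, List.not_mem_nil, or_false] at hmem
    rcases hmem with rfl | rfl | rfl | rfl | rfl | rfl
    · rfl
    · exact absurd hqN (hno 3 (by simp))
    · exact absurd hqN (hno 5 (by simp))
    · exact absurd hqN (hno 7 (by simp))
    · exact absurd hqN (hno 11 (by simp))
    · exact absurd hqN hd
  · rintro g ⟨σ, hσ, hg⟩ hgN
    refine (D.disjoint N hd).1 g ?_ hgN
    rw [hDS]
    exact ⟨⟨σ, hσ⟩, Subtype.ext hg.symm⟩

theorem isCo2_stab (hS : IsSimpleGroup (MulAction.stabilizer M24 (none : GolayPt)))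
    {v : leechLattice} (hv : ldot v v = 32) : IsCo2 (MulAction.stabilizer Co0 v) := by
  obtain ⟨g, hg⟩ := transitive_32 golayUnique hv oddL_norm
  haveI := co2_simple hS
  exact ⟨(stabEquiv g v oddL hg).isSimpleGroup, card_stab_32 hv⟩

end H95
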