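import Cfsg.Agent.H95.SimpleCrit
import Cfsg.Prelude.Def_KGroupFacts

/-!
A criterion for all automorphisms of a finite group to be inner, and the index of a subgroup
containing a Sylow normaliser.
-/

set_option autoImplicit false

namespace H95

variable {G : Type*} [Group G]

theorem conj_pow_iter {x y : G} {r : ℕ} (h : y * x * y⁻¹ = x ^ r) (j m : ℕ) :
    y ^ j * x ^ m * (y ^ j)⁻¹ = x ^ (r ^ j * m) := by
  induction j with
  | zero => simp
  | succ j ih =>
    rw [pow_succ' y j, mul_inv_rev, show y * y ^ j * x ^ m * ((y ^ j)⁻¹ * y⁻¹)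
      = y * (y ^ j * x ^ m * (y ^ j)⁻¹) * y⁻¹ by group, ih, ← conj_pow, h, ← pow_mul,
      pow_succ', mul_assoc]

theorem pow_eq_of_zmod {x : G} {p : ℕ} (hx : orderOf x = p) {a b : ℕ}
    (h : (a : ZMod p) = (b : ZMod p)) : x ^ a = x ^ b := by
  rw [pow_eq_pow_iff_modEq, hx]
  exact (ZMod.natCast_eq_natCast_iff _ _ _).mp h

theorem zmod_of_pow_eq {x : G} {p : ℕ} (hx : orderOf x = p) {a b : ℕ}
    (h : x ^ a = x ^ b) : (a : ZMod p) = (b : ZMod p) := by
  rw [pow_eq_pow_iff_modEq, hx] at h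
  exact (ZMod.natCast_eq_natCast_iff _ _ _).mpr h

/-- a coset `x^i y` is one conjugacy class under `x` -/
theorem conj_adjust {p : ℕ} [Fact p.Prime] {x y : G} {r : ℕ} (hx : orderOf x = p)
    (hyx : y * x * y⁻¹ = x ^ r) (hr : (r : ZMod p) ≠ 1) (i : ℕ) :
    ∃ a : ℕ, x ^ a * (x ^ i * y) * (x ^ a)⁻¹ = y := by
  refine ⟨((i : ZMod p) / ((r : ZMod p) - 1)).val, ?_⟩
  set a := ((i : ZMod p) / ((r : ZMod p) - 1)).val with ha
  have h : x ^ (a + i) = x ^ (r * a) := by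
    refine pow_eq_of_zmod hx ?_
    have hne : ((r : ZMod p) - 1) ≠ 0 := sub_ne_zero.mpr hr
    rw [Nat.cast_add, Nat.cast_mul, ha, ZMod.natCast_zmod_val]
    field_simp
    ring
  have h' : y * x ^ a * y⁻¹ = x ^ (a + i) := by rw [h, ← conj_pow, hyx, ← pow_mul]
  rw [← mul_assoc, ← pow_add, ← h']
  group

/-- a coset `e y^j` is one conjugacy class under `y` -/
theorem conj_shift {q : ℕ} [Fact q.Prime] {y e : G} {s : ℕ} (hy : orderOf y = q)
    (hey : e * y * e⁻¹ = y ^ s) (hs : (s : ZMod q) ≠ 1) (j : ℕ) :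
    ∃ a : ℕ, y ^ a * e * (y ^ a)⁻¹ = e * y ^ j := by
  refine ⟨(((s : ZMod q) * j) / (1 - (s : ZMod q))).val, ?_⟩
  set a := (((s : ZMod q) * j) / (1 - (s : ZMod q))).val with ha
  have h : y ^ (s * (j + a)) = y ^ a := by
    refine pow_eq_of_zmod hy ?_
    have hne : (1 - (s : ZMod q)) ≠ 0 := sub_ne_zero.mpr hs.symm
    rw [Nat.cast_mul, Nat.cast_add, ha, ZMod.natCast_zmod_val]
    field_simp
    ring
  have h' : e * y ^ (j + a) * e⁻¹ = y ^ a := by rw [← h, ← conj_pow, hey, ← pow_mul]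
  conv_lhs => arg 1; arg 1; rw [← h']
  rw [pow_add]
  group

/-- A criterion for every automorphism to be inner. -/
theorem out_trivial {p q : ℕ} [Fact p.Prime] [Fact q.Prime] [Finite G] (x y e : G) (r s : ℕ)
    (hsq : ¬ p ^ 2 ∣ Nat.card G) (hx : orderOf x = p) (hy : orderOf y = q)
    (hyx : y * x * y⁻¹ = x ^ r) (hey : e * y * e⁻¹ = y ^ s)
    (hr : ∀ j < q, (r : ZMod p) ^ j = (r : ZMod p) → j = 1)
    (hs : (s : ZMod q) ≠ 1)
    (hN : ∀ g : G, g * x * g⁻¹ ∈ Subgroup.zpowers x → ∃ i j : ℕ, g = x ^ i * y ^ j)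
    (hC : ∀ g : G, g * y * g⁻¹ = y ^ s → orderOf g = orderOf e → ∃ j : ℕ, g = e * y ^ j)
    (hgen : Subgroup.closure ({x, y, e} : Set G) = ⊤)
    (htest : ∀ (f : MulAut G) (k : ℕ), f x = x ^ k → f y = y → f e = e → x ^ k = x) :
    Nat.card (Cfsg.Out G) = 1 := by
  have hp := (inferInstance : Fact p.Prime)
  have hq := (inferInstance : Fact q.Prime)
  have hr1 : (r : ZMod p) ≠ 1 := fun h => by
    have := hr 0 hq.out.pos (by rw [pow_zero, h])
    omega
  suffices key : ∀ φ : MulAut G, φ ∈ Cfsg.Inn G by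
    haveI : Subsingleton (Cfsg.Out G) := by
      refine ⟨fun a b => ?_⟩
      obtain ⟨a, rfl⟩ := QuotientGroup.mk_surjective a
      obtain ⟨b, rfl⟩ := QuotientGroup.mk_surjective b
      exact QuotientGroup.eq.mpr (key _)
    exact Nat.card_unique
  intro φ
  obtain ⟨g, hg⟩ := exists_conj_zpowers hsq (by rw [MulEquiv.orderOf_eq, hx] : orderOf (φ x) = p) hx
  obtain ⟨k, hk⟩ := mem_powers_iff_mem_zpowers.mpr hg
  set φ₁ : MulAut G := MulAut.conj g * φ with hφ₁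
  have h1x : φ₁ x = x ^ k := hk.symm
  have hk0 : (k : ZMod p) ≠ 0 := fun h0 => by
    have h' : φ₁ x = 1 := by
      rw [h1x, ← pow_zero x]; exact pow_eq_of_zmod hx (by rw [h0, Nat.cast_zero])
    have hx1 : x = 1 := φ₁.injective (h'.trans (map_one φ₁).symm)
    rw [hx1, orderOf_one] at hx
    exact hp.out.one_lt.ne hx
  -- the image of `y`
  have h1y : φ₁ y * x ^ k * (φ₁ y)⁻¹ = x ^ (k * r) := by
    rw [← h1x, ← map_inv, ← map_mul, ← map_mul, hyx, map_pow, h1x, ← pow_mul]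
  have hmem : φ₁ y * x * (φ₁ y)⁻¹ ∈ Subgroup.zpowers x := by
    have hxk : x = (x ^ k) ^ ((k : ZMod p)⁻¹).val := by
      conv_lhs => rw [← pow_one x]
      rw [← pow_mul]
      refine pow_eq_of_zmod hx ?_
      rw [Nat.cast_one, Nat.cast_mul, ZMod.natCast_zmod_val, mul_inv_cancel₀ hk0]
    have e1 : φ₁ y * x * (φ₁ y)⁻¹ = (x ^ (k * r)) ^ ((k : ZMod p)⁻¹).val := by
      rw [← h1y, conj_pow, ← hxk]
    rw [e1]
    exact pow_mem (Subgroup.npow_mem_zpowers x _) _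
  obtain ⟨i, j, hij⟩ := hN _ hmem
  have hj : φ₁ y = x ^ i * y := by
    have hyj : y ^ j = y ^ (j % q) := by rw [← hy, pow_mod_orderOf]
    rw [hij, hyj, show j % q = 1 from ?_, pow_one]
    refine hr _ (Nat.mod_lt _ hq.out.pos) ?_
    have e1 : x ^ (r ^ (j % q) * k) = x ^ (k * r) := by
      rw [← h1y, hij, hyj, ← conj_pow_iter hyx, mul_inv_rev]
      have hc : x ^ i * (y ^ (j % q) * x ^ k * (y ^ (j % q))⁻¹) * (x ^ i)⁻¹
          = y ^ (j % q) * x ^ k * (y ^ (j % q))⁻¹ := by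
        rw [conj_pow_iter hyx, ← pow_add, mul_inv_eq_iff_eq_mul, ← pow_add, add_comm]
      conv_lhs => rw [← hc]
      group
    have e2 := zmod_of_pow_eq hx e1
    rw [Nat.cast_mul, Nat.cast_mul, Nat.cast_pow, mul_comm (k : ZMod p) (r : ZMod p)] at e2
    exact mul_right_cancel₀ hk0 e2
  obtain ⟨a, ha⟩ := conj_adjust hx hyx hr1 i
  set φ₂ : MulAut G := MulAut.conj (x ^ a) * φ₁ with hφ₂
  have h2x : φ₂ x = x ^ k := by
    show x ^ a * φ₁ x * (x ^ a)⁻¹ = x ^ k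
    rw [h1x, ← pow_add, mul_inv_eq_iff_eq_mul, ← pow_add, add_comm]
  have h2y : φ₂ y = y := by
    show x ^ a * φ₁ y * (x ^ a)⁻¹ = y
    rw [hj]; exact ha
  obtain ⟨m, hm⟩ := hC (φ₂ e)
    (by rw [← h2y, ← map_inv, ← map_mul, ← map_mul, hey, map_pow]) (MulEquiv.orderOf_eq φ₂ e)
  obtain ⟨b, hb⟩ := conj_shift hy hey hs m
  obtain ⟨c, hc⟩ : ∃ c : ℕ, y ^ c = (y ^ b)⁻¹ :=
    mem_powers_iff_mem_zpowers.mpr (inv_mem (Subgroup.npow_mem_zpowers y b))
  set φ₃ : MulAut G := MulAut.conj (y ^ c) * φ₂ with hφ₃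
  have h3x : φ₃ x = x ^ (r ^ c * k) := by
    show y ^ c * φ₂ x * (y ^ c)⁻¹ = _
    rw [h2x, conj_pow_iter hyx]
  have h3y : φ₃ y = y := by
    show y ^ c * φ₂ y * (y ^ c)⁻¹ = y
    rw [h2y, mul_inv_eq_iff_eq_mul]
    exact (Commute.pow_self y c).eq
  have h3e : φ₃ e = e := by
    show y ^ c * φ₂ e * (y ^ c)⁻¹ = e
    rw [hm, ← hb, hc]
    group
  have h3x' : φ₃ x = x := h3x.trans (htest φ₃ _ h3x h3y h3e)
  have h1 : φ₃ = 1 := by
    refine MulEquiv.ext fun z => ?_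
    have hz : z ∈ Subgroup.closure ({x, y, e} : Set G) := hgen ▸ Subgroup.mem_top z
    refine MonoidHom.eqOn_closure (f := φ₃.toMonoidHom) (g := MonoidHom.id G) ?_ hz
    intro w hw
    rcases hw with rfl | rfl | rfl
    · exact h3x'
    · exact h3y
    · exact h3e
  have hinn : φ = (MulAut.conj g)⁻¹ * (MulAut.conj (x ^ a))⁻¹ * (MulAut.conj (y ^ c))⁻¹ * φ₃ := by
    rw [hφ₃, hφ₂, hφ₁]; group
  rw [hinn, h1, mul_one]
  exact mul_mem (mul_mem (inv_mem ⟨g, rfl⟩) (inv_mem ⟨_, rfl⟩)) (inv_mem ⟨_, rfl⟩)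

/-- A subgroup containing the normaliser of a Sylow subgroup of order `p` has index `1` mod `p`. -/
theorem index_modEq_of_norm [Finite G] {p : ℕ} [hp : Fact p.Prime]
    (hp2 : ¬ p ^ 2 ∣ Nat.card G) {x : G} (hx : orderOf x = p) (H : Subgroup G)
    (hn : ∀ g : G, g * x * g⁻¹ ∈ Subgroup.zpowers x → g ∈ H) : H.index % p = 1 := by
  have hfac : (Nat.card G).factorization p = 1 := by
    have h1 : p ∣ Nat.card G := hx ▸ orderOf_dvd_natCard x
    have hn : Nat.card G ≠ 0 := Nat.card_pos.ne'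
    have ha : 1 ≤ (Nat.card G).factorization p :=
      hp.out.pow_dvd_iff_le_factorization hn |>.mp (by simpa using h1)
    have hb : ¬ 2 ≤ (Nat.card G).factorization p := fun h =>
      hp2 ((hp.out.pow_dvd_iff_le_factorization hn).mpr h)
    omega
  let P : Sylow p G := Sylow.ofCard (Subgroup.zpowers x) (by rw [Nat.card_zpowers, hx, hfac, pow_one])
  have hP : (P : Subgroup G) = Subgroup.zpowers x := Sylow.coe_ofCard _ _
  set N := Subgroup.normalizer (P : Set G) with hN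
  have hNH : N ≤ H := fun g hg => hn g (by
    have hxP : x ∈ (P : Subgroup G) := by rw [hP]; exact Subgroup.mem_zpowers x
    have h : g * x * g⁻¹ ∈ (P : Subgroup G) := (hg x).mp hxP
    rwa [hP] at h)
  have hPH : (P : Subgroup G) ≤ H := Subgroup.le_normalizer.trans hNH
  have h1 := card_sylow_modEq_one p G
  rw [P.card_eq_index_normalizer, ← hN, ← Subgroup.relIndex_mul_index hNH] at h1
  have h2 : N.relIndex H ≡ 1 [MOD p] := by
    have h := card_sylow_modEq_one p H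
    rw [(P.subtype hPH).card_eq_index_normalizer] at h
    have e : Subgroup.normalizer ((P.subtype hPH : Subgroup H) : Set H) = N.subgroupOf H :=
      (Subgroup.subgroupOf_normalizer_eq hPH).symm
    have e' : ((P.subtype hPH : Sylow p H) : Set H) = ((P.subtype hPH : Subgroup H) : Set H) := rfl
    rw [e', e] at h
    exact h
  have h3 : H.index ≡ 1 [MOD p] := by
    have := (h2.mul_right H.index).symm.trans h1
    rwa [one_mul] at this
  exact Eq.trans h3 (Nat.mod_eq_of_lt hp.out.one_lt)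

end H95
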