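import Cfsg.Agent.H95.PairModel
import Cfsg.Agent.H96.LeechPairs

/-!
The joint stabiliser of two vectors of norm 48 with product `-32` is simple.
-/

set_option autoImplicit false

namespace H95

open Cfsg Finset

theorem pvU'_dot : ldot Spor.leechV pvU'.w = -16 := by rw [PairVec.dotV]; rfl

theorem card_hs_model
    (hcount : {x : leechLattice | ldot x x = 32 ∧ ldot Spor.leechV x = -16}.ncard = 11178) :
    Nat.card pvU'.group = 44352000 := by
  have h := H90.natCard_inf_stabilizer (MulAction.stabilizer Co0 Spor.leechV) pvU'.w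
    {x : leechLattice | ldot x x = 32 ∧ ldot Spor.leechV x = -16} fun w => by
    constructor
    · intro hw
      obtain ⟨g, hg1, hg2⟩ := H96.Lam.pair_transitive_48_32_neg leechV_norm pvU'.norm
        pvU'_dot leechV_norm hw.1 hw.2
      exact ⟨g, hg1, hg2⟩
    · rintro ⟨g, hg, rfl⟩
      refine ⟨by rw [co0_dot, pvU'.norm], ?_⟩
      conv_lhs => rw [← MulAction.mem_stabilizer_iff.mp hg]
      rw [co0_dot, pvU'_dot]
  rw [hcount, card_stab_48 leechV_norm] at h
  exact Nat.eq_of_mul_eq_mul_right (by norm_num : 0 < 11178) (h.trans (by norm_num))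

theorem hs_simple (hS : IsSimpleGroup m22Grp) (hc : Nat.card pvU'.group = 44352000) :
    IsSimpleGroup pvU'.group := by
  haveI : Finite Co0 := co0_finite
  haveI : Fact (Nat.Prime 11) := ⟨by norm_num⟩
  obtain ⟨D, -⟩ := pvU'.crit hS (by rw [hc]; norm_num)
  exact D.isSimple_of_powers hc [(2, 9), (3, 2), (5, 3), (7, 1)]
    (by simp only [List.forall_mem_cons, List.not_mem_nil, IsEmpty.forall_iff, implies_true, and_true]; norm_num)
    (by norm_num) (by norm_num) (by decide +kernel)

theorem isHS_stab (hS : IsSimpleGroup m22Grp)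
    (hcount : {x : leechLattice | ldot x x = 32 ∧ ldot Spor.leechV x = -16}.ncard = 11178)
    {v w : leechLattice} (hv : ldot v v = 48) (hw : ldot w w = 48) (hd : ldot v w = -32) :
    IsHS ↥(MulAction.stabilizer Co0 v ⊓ MulAction.stabilizer Co0 w) := by
  have hx : ldot (-(v + w)) (-(v + w)) = 32 := by
    rw [leechLike.norm_neg, leechLike.norm_add, hv, hw, hd]; norm_num
  have hxd : ldot v (-(v + w)) = -16 := by
    rw [leechLike.neg_right, leechLike.add_right, hv, hd]; norm_num
  obtain ⟨g, h1, h2⟩ := H96.Lam.pair_transitive_48_32_neg hv hx hxd leechV_norm pvU'.norm pvU'_dot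
  have h2' : g • w = -(Spor.leechV + pvU'.w) := by
    rw [← h1, ← h2, ← co0_add, ← co0_neg]
    congr 1
    abel
  have e : MulAction.stabilizer Co0 Spor.leechV ⊓
      MulAction.stabilizer Co0 (-(Spor.leechV + pvU'.w)) = pvU'.group := by
    ext a
    show a • _ = _ ∧ a • _ = _ ↔ a • _ = _ ∧ a • pvU'.w = pvU'.w
    rw [co0_neg, neg_inj, co0_add]
    constructor
    · rintro ⟨a1, a2⟩; rw [a1, add_right_inj] at a2; exact ⟨a1, a2⟩
    · rintro ⟨a1, a2⟩; rw [a1, a2]; exact ⟨rfl, rfl⟩
  let E := (stabEquiv₂ g v w _ _ h1 h2').trans (MulEquiv.subgroupCongr e)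
  haveI := hs_simple hS (card_hs_model hcount)
  exact ⟨E.isSimpleGroup, (Nat.card_congr E.toEquiv).trans (card_hs_model hcount)⟩

end H95
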