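import Cfsg.Agent.H95.PairModel
import Cfsg.Agent.H95.M22Simple
import Cfsg.Agent.H95.McLSimple
import Cfsg.Agent.H95.HSSimple
import Cfsg.Prelude.Def_KGroupFacts

/-!
Exchanging the two vectors gives automorphisms of the joint stabilisers that are not inner.
-/

set_option autoImplicit false

namespace H95

open Cfsg Finset

/-- conjugation by a normalising element -/
noncomputable def normAut {G : Type*} [Group G] (H : Subgroup G) (g : G)
    (hg : ∀ h ∈ H, g * h * g⁻¹ ∈ H) (hg' : ∀ h ∈ H, g⁻¹ * h * g ∈ H) : MulAut H where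
  toFun h := ⟨g * h * g⁻¹, hg h h.2⟩
  invFun h := ⟨g⁻¹ * h * g, hg' h h.2⟩
  left_inv h := Subtype.ext (by simp [mul_assoc])
  right_inv h := Subtype.ext (by simp [mul_assoc])
  map_mul' a b := Subtype.ext (by simp [mul_assoc])

/-- if inner, something acting like `g` centralises the subgroup -/
theorem exists_central_of_inner {G : Type*} [Group G] (H : Subgroup G) (g : G)
    (hg : ∀ h ∈ H, g * h * g⁻¹ ∈ H) (hg' : ∀ h ∈ H, g⁻¹ * h * g ∈ H)
    (hi : normAut H g hg hg' ∈ Cfsg.Inn H) : ∃ h ∈ H, ∀ k ∈ H, Commute (h⁻¹ * g) k := by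
  obtain ⟨h, hh⟩ := hi
  refine ⟨h, h.2, fun k hk => ?_⟩
  have e : (h : G) * k * (h : G)⁻¹ = g * k * g⁻¹ :=
    congrArg (fun z : MulAut H => ((z ⟨k, hk⟩ : H) : G)) hh
  show (h : G)⁻¹ * g * k = k * ((h : G)⁻¹ * g)
  calc (h : G)⁻¹ * g * k = (h : G)⁻¹ * (g * k * g⁻¹) * g := by group
    _ = k * ((h : G)⁻¹ * g) := by rw [← e]; group

theorem PairVec.mem_hom (P : PairVec) (τ : m22Grp) : permHom τ.1 ∈ P.group := (P.hom τ).2

/-- the stabiliser is transitive on the other points -/
theorem m22_move {p q : ZMod 23} (hp : p ≠ 0) (hq : q ≠ 0) :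
    ∃ τ : m22Grp, τ.1.1 (some p) = some q := by
  obtain ⟨σ, hσ, he⟩ := m24_move (k := 3) (by norm_num)
    ⟨![none, some 0, some p], by
      intro i j
      fin_cases i <;> fin_cases j <;> simp [hp, Ne.symm hp]⟩
    ⟨![none, some 0, some q], by
      intro i j
      fin_cases i <;> fin_cases j <;> simp [hq, Ne.symm hq]⟩
  exact ⟨⟨⟨σ, hσ⟩, he 0, he 1⟩, he 2⟩

/-- a vector fixed by the two point stabiliser -/
theorem fix22_values {u : leechLattice} (h : ∀ τ : m22Grp, permHom τ.1 • u = u) :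
    (∀ x : ZMod 23, x ≠ 0 → (u : GolayPt → ℤ) (some x) = (u : GolayPt → ℤ) (some 1)) ∧
    ldot u u = (u : GolayPt → ℤ) none ^ 2 + (u : GolayPt → ℤ) (some 0) ^ 2
      + 22 * (u : GolayPt → ℤ) (some 1) ^ 2 ∧
    ldot u Spor.leechV = -5 * (u : GolayPt → ℤ) none - (u : GolayPt → ℤ) (some 0)
      - 22 * (u : GolayPt → ℤ) (some 1) := by
  have hc : ∀ x : ZMod 23, x ≠ 0 → (u : GolayPt → ℤ) (some x) = (u : GolayPt → ℤ) (some 1) := by
    intro x hx
    obtain ⟨τ, hτ⟩ := m22_move (by decide +kernel : (1 : ZMod 23) ≠ 0) hx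
    have e := congrArg (fun w : leechLattice => (w : GolayPt → ℤ) (τ.1.1 (some 1))) (h τ)
    simp only [permHom_apply, Equiv.symm_apply_apply] at e
    rw [hτ] at e
    exact e.symm
  have hs : ∀ F : ℤ → ℤ, ∑ x : ZMod 23, F ((u : GolayPt → ℤ) (some x))
      = F ((u : GolayPt → ℤ) (some 0)) + 22 * F ((u : GolayPt → ℤ) (some 1)) := by
    intro F
    rw [← Finset.add_sum_erase _ _ (mem_univ (0 : ZMod 23)),
      sum_congr rfl (fun x hx => by rw [hc x (ne_of_mem_erase hx)]), sum_const,
      card_erase_of_mem (mem_univ _), card_univ, ZMod.card]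
    norm_num
  refine ⟨hc, ?_, ?_⟩
  · rw [← sqNorm_eq_ldot]
    unfold sqNorm
    rw [sum_option, hs (fun t => t ^ 2)]
    ring
  · rw [dot_const leechV_none leechV_some, hs (fun t => t)]
    ring

theorem centralising_fix {P : PairVec} {c : Co0} (hc : ∀ k ∈ P.group, Commute c k) {u : leechLattice}
    (hu : ∀ τ : m22Grp, permHom τ.1 • u = u) (τ : m22Grp) : permHom τ.1 • c • u = c • u := by
  rw [← mul_smul, ← (hc _ (P.mem_hom τ)).eq, mul_smul, hu τ]

theorem eight_none_fix (τ : m22Grp) : permHom τ.1 • eight none = eight none := by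
  rw [permHom_eight, show τ.1.1 none = none from τ.2.1]

theorem eight_zero_fix (τ : m22Grp) : permHom τ.1 • eight (some 0) = eight (some 0) := by
  rw [permHom_eight, show τ.1.1 (some 0) = some 0 from τ.2.2]

theorem mcl_outer : ∃ φ : MulAut pvU.group, φ ∉ Cfsg.Inn pvU.group := by
  have hV : ldot Spor.leechV Spor.leechV = 48 := leechV_norm
  have hn : ldot (-(Spor.leechU + Spor.leechV)) (-(Spor.leechU + Spor.leechV)) = 32 := by
    rw [leechLike.norm_neg, leechLike.norm_add, leechV_norm, leechU_norm,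
      ldot_comm, show ldot Spor.leechV Spor.leechU = -24 from pvU_dot]
    norm_num
  have hd : ldot Spor.leechU (-(Spor.leechU + Spor.leechV)) = -8 := by
    rw [leechLike.neg_right, leechLike.add_right, leechU_norm, ldot_comm Spor.leechU,
      show ldot Spor.leechV Spor.leechU = -24 from pvU_dot]
    norm_num
  set b := -(Spor.leechU + Spor.leechV) with hb
  obtain ⟨g, g1, g2⟩ := pair_transitive_m8 golayUnique leechU_norm hn hd hn leechU_norm
    (by rw [ldot_comm]; exact hd)
  have gv : g • Spor.leechV = Spor.leechV := by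
    have : Spor.leechV = -Spor.leechU - b := by rw [hb]; abel
    conv_lhs => rw [this]
    rw [co0_sub, co0_neg, g1, g2, hb]
    abel
  have hmem : ∀ k : Co0, k ∈ pvU.group → k • b = b := fun k hk => by
    rw [hb, co0_neg, co0_add, show k • Spor.leechU = Spor.leechU from hk.2,
      show k • Spor.leechV = Spor.leechV from hk.1]
  have hg : ∀ k ∈ pvU.group, g * k * g⁻¹ ∈ pvU.group := fun k hk => by
    refine ⟨?_, ?_⟩
    · show (g * k * g⁻¹) • Spor.leechV = _
      rw [mul_smul, mul_smul, inv_smul_eq_iff.mpr gv.symm, show k • Spor.leechV = _ from hk.1, gv]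
    · show (g * k * g⁻¹) • Spor.leechU = _
      rw [mul_smul, mul_smul, inv_smul_eq_iff.mpr g2.symm, hmem k hk, g2]
      rfl
  have hg' : ∀ k ∈ pvU.group, g⁻¹ * k * g ∈ pvU.group := fun k hk => by
    refine ⟨?_, ?_⟩
    · show (g⁻¹ * k * g) • Spor.leechV = _
      rw [mul_smul, mul_smul, gv, show k • Spor.leechV = _ from hk.1, inv_smul_eq_iff.mpr gv.symm]
    · show (g⁻¹ * k * g) • Spor.leechU = _
      rw [mul_smul, mul_smul, g1, hmem k hk, inv_smul_eq_iff.mpr g1.symm]
      rfl
  refine ⟨normAut pvU.group g hg hg', fun hi => ?_⟩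
  obtain ⟨h, hh, hc⟩ := exists_central_of_inner _ g hg hg' hi
  set c := h⁻¹ * g with hcdef
  have cv : c • Spor.leechV = Spor.leechV := by
    rw [hcdef, mul_smul, gv, inv_smul_eq_iff]; exact hh.1.symm
  have cu : c • pvU.w = b := by
    rw [hcdef, mul_smul, show g • pvU.w = b from g1, inv_smul_eq_iff, hmem h hh]
  set u' := c • eight none with hu'
  obtain ⟨-, e1, e2⟩ := fix22_values
    (fun τ => centralising_fix hc eight_none_fix τ : ∀ τ : m22Grp, permHom τ.1 • u' = u')
  have dn : ldot u' u' = 64 := by rw [hu', co0_dot, eight_norm]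
  have dv : ldot u' Spor.leechV = -40 := by
    rw [← cv, hu', co0_dot, ldot_comm, ldot_eight, leechV_none]; norm_num
  have db : ldot u' b = 32 := by
    rw [← cu, hu', co0_dot, ldot_comm, ldot_eight, pvU.h0]; norm_num
  have dw : ldot u' pvU.w = 8 := by
    have e : ldot u' b = -(ldot u' pvU.w + ldot u' Spor.leechV) := by
      rw [hb, leechLike.neg_right, leechLike.add_right]; rfl
    linarith
  rw [pvU.dot, show pvU.e = 1 from rfl] at dw
  rw [e1] at dn
  rw [e2] at dv
  set A := (u' : GolayPt → ℤ) none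
  set B := (u' : GolayPt → ℤ) (some 0)
  set C := (u' : GolayPt → ℤ) (some 1)
  have hC : -1 ≤ C ∧ C ≤ 1 := ⟨by nlinarith, by nlinarith⟩
  rcases (show C = -1 ∨ C = 0 ∨ C = 1 by omega) with h | h | h <;> rw [h] at dn dv
  · have hA : A = 15 := by omega
    have hB : B = -13 := by omega
    rw [hA, hB] at dn; norm_num at dn
  · omega
  · have hA : A = 4 := by omega
    have hB : B = -2 := by omega
    rw [hA, hB] at dn; norm_num at dn

theorem swap_not_mem {σ : Equiv.Perm GolayPt} (hσ : σ ∈ M24) (h1 : σ none = some 0)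
    (h2 : σ (some 0) = none) (hf : ∀ x : ZMod 23, x ≠ 0 → σ (some x) = some x) : False := by
  have hq0 : qrWord 0 ∈ golayCode := Submodule.subset_span (Or.inl ⟨0, rfl⟩)
  set d : GolayPt → ZMod 2 := (fun i => qrWord 0 (σ i)) + qrWord 0 with hd
  have hdm : d ∈ golayCode := add_mem (perm_mem_code hσ hq0) hq0
  have e : d = fun i => if i = none ∨ i = some 0 then 1 else 0 := by
    funext i
    rw [hd, Pi.add_apply]
    rcases i with _ | x
    · rw [h1, if_pos (Or.inl rfl)]; decide +kernel
    · by_cases hx : x = 0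
      · subst hx; rw [h2, if_pos (Or.inr rfl)]; decide +kernel
      · rw [hf x hx, if_neg (by simp [hx]), CharTwo.add_self_eq_zero]
  have h4 := golayOK.four_dvd hdm
  rw [e] at h4
  revert h4; decide +kernel

theorem hs_outer : ∃ φ : MulAut pvU'.group, φ ∉ Cfsg.Inn pvU'.group := by
  have hw := pvU'.norm
  have hd : ldot Spor.leechV pvU'.w = -16 := pvU'_dot
  set v' := -(Spor.leechV + pvU'.w) with hv'
  have hn : ldot v' v' = 48 := by
    rw [hv', leechLike.norm_neg, leechLike.norm_add, leechV_norm, hw, hd]; norm_num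
  have hd' : ldot v' pvU'.w = -16 := by
    rw [hv', leechLike.neg_left, leechLike.add_left, hd, hw]; norm_num
  obtain ⟨g, g1, gw⟩ := H96.Lam.pair_transitive_48_32_neg leechV_norm hw hd hn hw hd'
  have g2 : g • v' = Spor.leechV := by
    rw [hv', co0_neg, co0_add, g1, gw, hv']; abel
  have hmem : ∀ k : Co0, k ∈ pvU'.group → k • v' = v' := fun k hk => by
    rw [hv', co0_neg, co0_add, show k • pvU'.w = pvU'.w from hk.2,
      show k • Spor.leechV = Spor.leechV from hk.1]
  have hg : ∀ k ∈ pvU'.group, g * k * g⁻¹ ∈ pvU'.group := fun k hk => by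
    refine ⟨?_, ?_⟩
    · show (g * k * g⁻¹) • Spor.leechV = _
      rw [mul_smul, mul_smul, inv_smul_eq_iff.mpr g2.symm, hmem k hk, g2]
    · show (g * k * g⁻¹) • pvU'.w = _
      rw [mul_smul, mul_smul, inv_smul_eq_iff.mpr gw.symm, show k • pvU'.w = _ from hk.2, gw]
  have hg' : ∀ k ∈ pvU'.group, g⁻¹ * k * g ∈ pvU'.group := fun k hk => by
    refine ⟨?_, ?_⟩
    · show (g⁻¹ * k * g) • Spor.leechV = _
      rw [mul_smul, mul_smul, g1, hmem k hk, inv_smul_eq_iff.mpr g1.symm]
    · show (g⁻¹ * k * g) • pvU'.w = _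
      rw [mul_smul, mul_smul, gw, show k • pvU'.w = _ from hk.2, inv_smul_eq_iff.mpr gw.symm]
  refine ⟨normAut pvU'.group g hg hg', fun hi => ?_⟩
  obtain ⟨h, hh, hc⟩ := exists_central_of_inner _ g hg hg' hi
  set c := h⁻¹ * g with hcdef
  have cv : c • Spor.leechV = v' := by
    rw [hcdef, mul_smul, g1, inv_smul_eq_iff, hmem h hh]
  have cw : c • pvU'.w = pvU'.w := by
    rw [hcdef, mul_smul, gw, inv_smul_eq_iff]; exact hh.2.symm
  -- the images of the two fixed coordinates
  have img : ∀ p, (∀ τ : m22Grp, permHom τ.1 • eight p = eight p) →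
      ∀ A0 B0 : ℤ, ((Spor.leechV : GolayPt → ℤ) p = A0) → ((pvU'.w : GolayPt → ℤ) p = B0) →
      let u := c • eight p
      ∃ A B C : ℤ, A ^ 2 + B ^ 2 + 22 * C ^ 2 = 64 ∧ 4 * A - 4 * B = 8 * B0 ∧
        5 * A + B + 22 * C - (4 * A - 4 * B) = 8 * A0 ∧ (u : GolayPt → ℤ) none = A ∧
        (u : GolayPt → ℤ) (some 0) = B ∧ ∀ x : ZMod 23, x ≠ 0 → (u : GolayPt → ℤ) (some x) = C := by
    intro p hp A0 B0 hA0 hB0 u
    obtain ⟨e0, e1, e2⟩ := fix22_values
      (fun τ => centralising_fix hc hp τ : ∀ τ : m22Grp, permHom τ.1 • u = u)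
    have dn : ldot u u = 64 := by rw [co0_dot, eight_norm]
    have dw : ldot u pvU'.w = 8 * B0 := by
      rw [← cw, co0_dot, ldot_comm, ldot_eight, hB0, mul_comm]
    have dv : ldot u v' = 8 * A0 := by
      rw [← cv, co0_dot, ldot_comm, ldot_eight, hA0, mul_comm]
    have e : ldot u v' = -(ldot u Spor.leechV + ldot u pvU'.w) := by
      rw [hv', leechLike.neg_right, leechLike.add_right]
    rw [pvU'.dot, show pvU'.e = -1 from rfl] at dw
    rw [pvU'.dot, show pvU'.e = -1 from rfl, e2] at e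
    exact ⟨_, _, _, e1.symm.trans dn, by linarith, by linarith, rfl, rfl, e0⟩
  have c8 : c • eight none = -eight (some 0) := by
    obtain ⟨A, B, C, n1, n2, n3, hA, hB, hC⟩ := img none eight_none_fix (-5) 4 leechV_none pvU'.h0
    have bC : -1 ≤ C ∧ C ≤ 1 := ⟨by nlinarith, by nlinarith⟩
    have : A = 0 ∧ B = -8 ∧ C = 0 := by
      rcases (show C = -1 ∨ C = 0 ∨ C = 1 by omega) with h | h | h <;> rw [h] at n1 n3 <;>
        first
          | exact ⟨by omega, by omega, h⟩
          | omega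
    obtain ⟨rfl, rfl, rfl⟩ := this
    refine Subtype.ext (funext fun i => ?_)
    show _ = -(Pi.single (some 0) 8 : GolayPt → ℤ) i
    rcases i with _ | x
    · rw [hA]; simp
    · by_cases hx : x = 0
      · subst hx; rw [hB]; simp
      · rw [hC x hx, Pi.single_eq_of_ne (by simp [hx])]; simp
  have c0 : c • eight (some 0) = -eight none := by
    obtain ⟨A, B, C, n1, n2, n3, hA, hB, hC⟩ :=
      img (some 0) eight_zero_fix (-1) (-4) (leechV_some 0) (pvU'.h1.trans (by rfl))
    have bC : -1 ≤ C ∧ C ≤ 1 := ⟨by nlinarith, by nlinarith⟩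
    have : A = -8 ∧ B = 0 ∧ C = 0 := by
      rcases (show C = -1 ∨ C = 0 ∨ C = 1 by omega) with h | h | h <;> rw [h] at n1 n3 <;>
        first
          | exact ⟨by omega, by omega, h⟩
          | omega
    obtain ⟨rfl, rfl, rfl⟩ := this
    refine Subtype.ext (funext fun i => ?_)
    show _ = -(Pi.single none 8 : GolayPt → ℤ) i
    rcases i with _ | x
    · rw [hA]; simp
    · by_cases hx : x = 0
      · subst hx; rw [hB]; simp
      · rw [hC x hx, Pi.single_eq_of_ne (by simp)]; simp
  have hcross : ∀ i, ((c • eight i : leechLattice) : GolayPt → ℤ) ∈ stdCross := by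
    intro i
    obtain ⟨z, hz⟩ := mem_twice.mp (eight_sub_mem_twice none i)
    have h1 : -eight (some 0) - c • eight i = 2 • (c • z) := by
      rw [← c8, ← co0_sub, hz, two_nsmul, two_nsmul, co0_add]
    have h2 : eight none + eight (some 0) ∈ twice leechLattice :=
      (leechLike.sub_mem_twice_iff).mp (eight_sub_mem_twice none (some 0))
    have hcls : eight none - c • eight i ∈ twice leechLattice := by
      have e : eight none - c • eight i
          = (eight none + eight (some 0)) + (-eight (some 0) - c • eight i) := by abel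
      rw [e, h1]
      exact add_mem h2 (mem_twice.mpr ⟨_, rfl⟩)
    obtain ⟨j, hj | hj⟩ := cross_std (by rw [co0_dot, eight_norm]) hcls
    · exact ⟨j, 8, Or.inl rfl, by rw [hj]; rfl⟩
    · exact ⟨j, -8, Or.inr rfl, by rw [hj]; exact (Pi.single_neg j 8).symm⟩
  obtain ⟨σ, S, hσ, hS, hcm⟩ := exists_mono_of_eight hcross
  have hpt : ∀ p, ∃ s : ℤ, s ≠ 0 ∧
      ((c • eight p : leechLattice) : GolayPt → ℤ) = Pi.single (σ p) s := by
    intro p
    rw [hcm, mono_smul, eight, signedPerm_single]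
    refine ⟨_, ?_, rfl⟩
    split <;> norm_num
  have single_inj : ∀ {p q : GolayPt} {s t : ℤ}, s ≠ 0 →
      (Pi.single p s : GolayPt → ℤ) = Pi.single q t → p = q := by
    intro p q s t hs h
    by_contra hne
    have := congrFun h p
    rw [Pi.single_eq_same, Pi.single_eq_of_ne hne] at this
    exact hs this
  have s1 : σ none = some 0 := by
    obtain ⟨s, hs, e⟩ := hpt none
    rw [c8] at e
    exact single_inj hs (e.symm.trans (by
      show -(Pi.single (some 0) 8 : GolayPt → ℤ) = _; rw [← Pi.single_neg]))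
  have s2 : σ (some 0) = none := by
    obtain ⟨s, hs, e⟩ := hpt (some 0)
    rw [c0] at e
    exact single_inj hs (e.symm.trans (by
      show -(Pi.single none 8 : GolayPt → ℤ) = _; rw [← Pi.single_neg]))
  have hcom : ∀ (τ : m22Grp) p, σ (τ.1.1 p) = τ.1.1 (σ p) := by
    intro τ p
    obtain ⟨s, hs, e⟩ := hpt p
    obtain ⟨t, ht, e'⟩ := hpt (τ.1.1 p)
    have hcc : c • eight (τ.1.1 p) = permHom τ.1 • c • eight p := by
      rw [← permHom_eight, ← mul_smul, (hc _ (pvU'.mem_hom τ)).eq, mul_smul]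
    rw [hcc] at e'
    refine single_inj (t := s) ht (e'.symm.trans (funext fun i => ?_))
    rw [permHom_apply, e]
    by_cases hi : i = τ.1.1 (σ p)
    · subst hi; rw [Equiv.symm_apply_apply, Pi.single_eq_same, Pi.single_eq_same]
    · rw [Pi.single_eq_of_ne hi, Pi.single_eq_of_ne (fun h => hi (by rw [← h, Equiv.apply_symm_apply]))]
  refine swap_not_mem hσ s1 s2 fun x hx => ?_
  by_contra hne
  rcases hy : σ (some x) with _ | y
  · exact hx (Option.some.inj (σ.injective (hy.trans s2.symm)))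
  have hy0 : y ≠ 0 := fun h => by
    subst h
    exact absurd (σ.injective (hy.trans s1.symm)) (by simp)
  have hxy : x ≠ y := fun h => hne (by rw [hy, h])
  obtain ⟨z, hz0, hzx, hzy⟩ : ∃ z : ZMod 23, z ≠ 0 ∧ z ≠ x ∧ z ≠ y := by
    by_cases h1 : (1 : ZMod 23) ≠ x ∧ (1 : ZMod 23) ≠ y
    · exact ⟨1, by decide +kernel, h1.1, h1.2⟩
    by_cases h2 : (2 : ZMod 23) ≠ x ∧ (2 : ZMod 23) ≠ y
    · exact ⟨2, by decide +kernel, h2.1, h2.2⟩
    refine ⟨3, by decide +kernel, ?_, ?_⟩ <;> intro h3 <;> subst h3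
    · rcases not_and_or.mp h1 with a | a
      · exact absurd (not_not.mp a) (by decide +kernel)
      · rcases not_and_or.mp h2 with b | b
        · exact absurd (not_not.mp b) (by decide +kernel)
        · exact absurd ((not_not.mp a).trans (not_not.mp b).symm) (by decide +kernel)
    · rcases not_and_or.mp h1 with a | a
      · rcases not_and_or.mp h2 with b | b
        · exact absurd ((not_not.mp a).trans (not_not.mp b).symm) (by decide +kernel)
        · exact absurd (not_not.mp b) (by decide +kernel)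
      · exact absurd (not_not.mp a) (by decide +kernel)
  obtain ⟨τ, hτM, he⟩ := m24_move (k := 4) (by norm_num)
    ⟨![none, some 0, some x, some y], by
      intro i j
      fin_cases i <;> fin_cases j <;> simp [hx, hy0, Ne.symm hx, Ne.symm hy0, hxy, Ne.symm hxy]⟩
    ⟨![none, some 0, some x, some z], by
      intro i j
      fin_cases i <;> fin_cases j <;> simp [hx, hz0, Ne.symm hx, Ne.symm hz0, hzx, Ne.symm hzx]⟩
  have h := hcom ⟨⟨τ, hτM⟩, he 0, he 1⟩ (some x)
  have h2 : τ (some x) = some x := he 2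
  have h3 : τ (some y) = some z := he 3
  simp only at h
  rw [h2, hy, h3] at h
  exact hzy (Option.some.inj h).symm

/-- the group in `Perm leechLattice` and the joint stabiliser -/
noncomputable def infStabPair (P : PairVec) :
    ↥(Spor.Co3 ⊓ MulAction.stabilizer (Equiv.Perm leechLattice) P.w) ≃* P.group where
  toFun g := ⟨⟨g.1, g.2.1.1⟩, g.2.1.2, g.2.2⟩
  invFun g := ⟨g.1.1, ⟨g.1.2, g.2.1⟩, g.2.2⟩
  left_inv _ := rfl
  right_inv _ := rfl
  map_mul' _ _ := rfl

end H95
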