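import Cfsg.Agent.H95.OutModel

/-!
An element of order five in the two point stabiliser of `M24`, and its centraliser there.
-/

set_option autoImplicit false

namespace H95

open Cfsg Finset

/-- `t ↦ t³ / 9` or `9 t³`, in the two point stabiliser -/
noncomputable def twStab : m22Grp :=
  ⟨⟨cubeTwist, H90.cubeTwist_mem⟩, by
    refine ⟨?_, ?_⟩
    · show cubeTwist none = none
      rw [H90.cubeTwist_apply]; rfl
    · show cubeTwist (some 0) = some 0
      rw [H90.cubeTwist_apply]; decide +kernel⟩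

/-- iterated position map -/
def itF (z : ℕ) : ℕ → ℕ
  | 0 => z
  | k + 1 => H90.img H90.genDN (itF z k)

theorem twist_pow_idx (k : ℕ) (p : GolayPt) :
    (H90.idx ((twStab ^ k).1.1 p)).val = itF (H90.idx p).val k := by
  induction k with
  | zero => rfl
  | succ k ih =>
    rw [pow_succ']
    show (H90.idx (cubeTwist ((twStab ^ k).1.1 p))).val = _
    rw [H90.repr_cubeTwist.apply, ih]; rfl

theorem twStab_five : twStab ^ 5 = 1 := by
  refine Subtype.ext (Subtype.ext (Equiv.ext fun p => H90.idx_injective (Fin.ext ?_)))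
  rw [twist_pow_idx]
  show _ = (H90.idx p).val
  have h : ∀ i : Fin 24, itF i.val 5 = i.val := by decide +kernel
  exact h _

theorem order_twStab : orderOf twStab = 5 := by
  haveI : Fact (Nat.Prime 5) := ⟨by norm_num⟩
  refine orderOf_eq_prime twStab_five fun h => ?_
  have h1 := twist_pow_idx 1 (some 1)
  rw [pow_one, h] at h1
  revert h1; decide +kernel

theorem twist_dbl : twStab * dblStab * twStab⁻¹ = dblStab ^ 3 := by
  rw [mul_inv_eq_iff_eq_mul]
  refine Subtype.ext (Subtype.ext (Equiv.ext fun p => H90.idx_injective (Fin.ext ?_)))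
  show (H90.idx (cubeTwist (dblPerm.1 p))).val = (H90.idx ((dblPerm ^ 3).1 (cubeTwist p))).val
  simp only [H90.cubeTwist_apply]
  rcases p with _ | x
  · rw [dblPerm_none]; rfl
  · rw [dblPerm_some]
    revert x
    decide +kernel

/-- orbit and position of a point under the element -/
def cycPos (n : ℕ) : ℕ × ℕ :=
  ([(0, 0), (1, 0), (1, 3), (0, 0), (1, 2), (2, 0), (1, 4), (2, 4), (3, 0), (3, 3), (2, 3), (4, 0),
    (3, 4), (3, 2), (4, 3), (0, 0), (3, 1), (4, 4), (1, 1), (4, 1), (2, 2), (2, 1), (4, 2), (0, 0)]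
    : List (ℕ × ℕ)).getD n (0, 0)

/-- the permutation with given images of `3` and of the four representatives -/
def candF (q z₁ z₂ z₃ z₄ n : ℕ) : ℕ :=
  if n = 0 then 0 else if n = 23 then 23 else if n = 3 then q else if n = 15 then 18 - q
  else
    itF (match (cycPos n).1 with
      | 1 => z₁
      | 2 => z₂
      | 3 => z₃
      | _ => z₄) (cycPos n).2 % 32

/-- packed -/
def candN (q z₁ z₂ z₃ z₄ : ℕ) : ℕ := H90.packAux (fun n => candF q z₁ z₂ z₃ z₄ n % 32) 24

/-- a filter from one octad -/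
def candOK (m q z₁ z₂ z₃ z₄ : ℕ) : Bool := H90.isCode (H90.permMask (candN q z₁ z₂ z₃ z₄) m)

/-- the search -/
def centSearch : Bool :=
  [3, 15].all fun q =>
    (List.range 24).all fun z₁ => !candOK 8683614 q z₁ z₁ z₁ z₁ ||
      (List.range 24).all fun z₂ => !candOK 11535529 q z₂ z₂ z₂ z₂ ||
        (List.range 24).all fun z₃ => !candOK 8499969 q z₃ z₃ z₃ z₃ ||
          (List.range 24).all fun z₄ => !candOK 4900873 q z₄ z₄ z₄ z₄ ||
            (let p := candN q z₁ z₂ z₃ z₄
             !H90.preservesCode p || (List.range 5).any fun k =>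
               (List.range 24).all fun n => H90.img p n == itF n k)

theorem centSearch_ok : centSearch = true := by decide +kernel

theorem permMaskAux_congr {p p' m : ℕ} : ∀ k,
    (∀ i < k, m.testBit i = true → H90.img p i = H90.img p' i) →
      H90.permMaskAux p m k = H90.permMaskAux p' m k
  | 0, _ => rfl
  | k + 1, h => by
    rw [H90.permMaskAux, H90.permMaskAux, permMaskAux_congr k fun i hi => h i (by omega)]
    cases hk : m.testBit k
    · rfl
    · rw [h k (by omega) hk]

theorem twist_fixed : ∀ p : GolayPt, cubeTwistFun p = p →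
    (H90.idx p).val = 23 ∨ (H90.idx p).val = 0 ∨ (H90.idx p).val = 3 ∨ (H90.idx p).val = 15 := by
  decide +kernel

theorem cyc_points : ∀ n : Fin 24, n.val = 0 ∨ n.val = 23 ∨ n.val = 3 ∨ n.val = 15 ∨
    ((cycPos n.val).1 = 1 ∧ itF 1 (cycPos n.val).2 = n.val) ∨
    ((cycPos n.val).1 = 2 ∧ itF 5 (cycPos n.val).2 = n.val) ∨
    ((cycPos n.val).1 = 3 ∧ itF 8 (cycPos n.val).2 = n.val) ∨
    ((cycPos n.val).1 = 4 ∧ itF 11 (cycPos n.val).2 = n.val) := by decide +kernel

theorem octad_mem : ∀ m ∈ [8683614, 11535529, 8499969, 4900873],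
    H90.isCode m = true ∧ m < 2 ^ 24 := by decide +kernel

/-- the support of a mask lies in one orbit and the fixed points -/
def maskBits (m c : ℕ) : Bool :=
  (List.range 24).all fun n =>
    !Nat.testBit m n || (cycPos n).1 == c || n == 0 || n == 23 || n == 3 || n == 15

theorem maskBits_ok :
    (maskBits 8683614 1 && maskBits 11535529 2 && maskBits 8499969 3 && maskBits 4900873 4) = true := by
  decide +kernel

theorem maskBits_spec {m c : ℕ} (h : maskBits m c = true) :
    ∀ n < 24, Nat.testBit m n = true → (cycPos n).1 = c ∨ n = 0 ∨ n = 23 ∨ n = 3 ∨ n = 15 := by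
  intro n hn hb
  have := List.all_eq_true.mp h n (List.mem_range.mpr hn)
  simpa [hb, Bool.or_eq_true, or_assoc] using this

theorem zmod5_pow_two : ∀ z : ZMod 5, z ≠ 0 → ∃ m : Fin 4, (2 : ZMod 5) ^ m.val = z := by
  decide +kernel

/-- the centraliser -/
theorem centralizer_twist {g : m22Grp} (hg : g * twStab = twStab * g) :
    g ∈ Subgroup.zpowers twStab := by
  have hcomm : ∀ k p, g.1.1 ((twStab ^ k).1.1 p) = (twStab ^ k).1.1 (g.1.1 p) := fun k p =>
    congrArg (fun a : m22Grp => a.1.1 p) ((show Commute g twStab from hg).pow_right k).eq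
  set f : ℕ → ℕ := fun n => if h : n < 24 then (H90.idx (g.1.1 (H90.pt ⟨n, h⟩))).val else 0 with hf
  have hit : ∀ k z, (hz : z < 24) → ∀ n : Fin 24, itF z k = n.val → f n.val = itF (f z) k := by
    intro k z hz n hn
    have e : H90.pt n = (twStab ^ k).1.1 (H90.pt ⟨z, hz⟩) := by
      refine H90.idx_injective (Fin.ext ?_)
      rw [twist_pow_idx, H90.idx_pt, H90.idx_pt, hn]
    simp only [hf, dif_pos n.isLt, dif_pos hz, Fin.eta]
    rw [e, hcomm, twist_pow_idx]
  have h23 : f 23 = 23 := by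
    simp only [hf, dif_pos (by norm_num : 23 < 24)]
    rw [show H90.pt ⟨23, _⟩ = none from H90.pt23, show g.1.1 none = none from g.2.1]; rfl
  have h0 : f 0 = 0 := by
    simp only [hf, dif_pos (by norm_num : 0 < 24)]
    rw [show H90.pt ⟨0, _⟩ = some 0 from rfl, show g.1.1 (some 0) = some 0 from g.2.2]; rfl
  have hfix : ∀ n : ℕ, (hn : n < 24) → cubeTwistFun (H90.pt ⟨n, hn⟩) = H90.pt ⟨n, hn⟩ →
      n ≠ 23 → n ≠ 0 → f n = 3 ∨ f n = 15 := by
    intro n hn hfx h1 h2
    have e : cubeTwistFun (g.1.1 (H90.pt ⟨n, hn⟩)) = g.1.1 (H90.pt ⟨n, hn⟩) := by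
      have h := hcomm 1 (H90.pt ⟨n, hn⟩)
      rw [pow_one] at h
      change g.1.1 (cubeTwist (H90.pt ⟨n, hn⟩)) = cubeTwist (g.1.1 (H90.pt ⟨n, hn⟩)) at h
      rw [H90.cubeTwist_apply, H90.cubeTwist_apply, hfx] at h
      exact h.symm
    have hinj : ∀ m, (hm : m < 24) → f n = f m → n = m := fun m hm he => by
      simp only [hf, dif_pos hn, dif_pos hm] at he
      exact congrArg Fin.val (H90.pt_injective (g.1.1.injective (H90.idx_injective (Fin.ext he))))
    have hcase := twist_fixed _ e
    simp only [hf, dif_pos hn]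
    rcases hcase with h | h | h | h
    · exact absurd (hinj 23 (by norm_num) (by rw [h23]; simp only [hf, dif_pos hn]; exact h)) h1
    · exact absurd (hinj 0 (by norm_num) (by rw [h0]; simp only [hf, dif_pos hn]; exact h)) h2
    · exact Or.inl h
    · exact Or.inr h
  have h3 := hfix 3 (by norm_num) (by decide +kernel) (by norm_num) (by norm_num)
  have h15 := hfix 15 (by norm_num) (by decide +kernel) (by norm_num) (by norm_num)
  have hne : f 3 ≠ f 15 := fun he => by
    simp only [hf, dif_pos (by norm_num : 3 < 24), dif_pos (by norm_num : 15 < 24)] at he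
    have := congrArg Fin.val (H90.pt_injective (g.1.1.injective (H90.idx_injective (Fin.ext he))))
    norm_num at this
  have hflt : ∀ n, f n < 24 := fun n => by
    simp only [hf]; split
    · exact (H90.idx _).isLt
    · norm_num
  set p := candN (f 3) (f 1) (f 5) (f 8) (f 11) with hp
  have hF : ∀ n : Fin 24, candF (f 3) (f 1) (f 5) (f 8) (f 11) n.val % 32 = f n.val := by
    intro n
    have hlt : ∀ z k, (hz : z < 24) → itF z k = n.val →
        itF (f z) k % 32 % 32 = f n.val := by
      intro z k hz hn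
      rw [← hit k z hz n hn]
      have := hflt n.val
      omega
    rcases cyc_points n with h | h | h | h | ⟨a, b⟩ | ⟨a, b⟩ | ⟨a, b⟩ | ⟨a, b⟩
    · rw [h]; show 0 = f 0; rw [h0]
    · rw [h]; show 23 = f 23; rw [h23]
    · rw [h]; show f 3 % 32 = f 3; have := hflt 3; omega
    · rw [h]
      show (18 - f 3) % 32 = f 15
      rcases h3 with e | e <;> rcases h15 with e' | e' <;> omega
    all_goals
      have hne' : n.val ≠ 0 ∧ n.val ≠ 23 ∧ n.val ≠ 3 ∧ n.val ≠ 15 := by
        refine ⟨?_, ?_, ?_, ?_⟩ <;> intro h <;> rw [h] at a <;> exact absurd a (by decide +kernel)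
      simp only [candF, if_neg hne'.1, if_neg hne'.2.1, if_neg hne'.2.2.1, if_neg hne'.2.2.2, a]
    · exact hlt 1 _ (by norm_num) b
    · exact hlt 5 _ (by norm_num) b
    · exact hlt 8 _ (by norm_num) b
    · exact hlt 11 _ (by norm_num) b
  have hr : H90.Repr g.1.1 p := fun i => by
    rw [hp, candN, H90.img_packAux _ (fun j => Nat.mod_lt _ (by norm_num)), if_pos i.isLt, hF]
    simp only [hf, dif_pos i.isLt, Fin.eta]
  have hfilter : ∀ m c z, m ∈ [8683614, 11535529, 8499969, 4900873] →
      (∀ n < 24, Nat.testBit m n = true → (cycPos n).1 = c ∨ n = 0 ∨ n = 23 ∨ n = 3 ∨ n = 15) →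
      (∀ n, (cycPos n).1 = c → candF (f 3) z z z z n = candF (f 3) (f 1) (f 5) (f 8) (f 11) n) →
      candOK m (f 3) z z z z = true := by
    intro m c z hm hb hcand
    have e : H90.permMask (candN (f 3) z z z z) m = H90.permMask p m := by
      refine permMaskAux_congr 24 fun n hn hbit => ?_
      rw [hp, candN, candN, H90.img_packAux _ (fun j => Nat.mod_lt _ (by norm_num)),
        H90.img_packAux _ (fun j => Nat.mod_lt _ (by norm_num)), if_pos hn, if_pos hn]
      rcases hb n hn hbit with h | h | h | h | h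
      · rw [hcand n h]
      all_goals subst h; rfl
    rw [candOK, e, ← H90.wordOf_mem_iff (H90.permMask_lt hr m)]
    have hmC : H90.wordOf m ∈ golayCode :=
      (H90.wordOf_mem_iff (octad_mem m hm).2).mpr (octad_mem m hm).1
    have := H90.mem_M24_iff_words.mp g.1.2 _ hmC
    convert this using 1
    apply H90.support₂_injective
    rw [H90.support₂_comp_symm, H90.support₂_wordOf, H90.support₂_wordOf, H90.setOf'_permMask hr]
  have hs := centSearch_ok
  simp only [centSearch, List.all_eq_true, List.mem_range, Bool.or_eq_true, Bool.not_eq_true',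
    List.any_eq_true, beq_iff_eq] at hs
  have hq : f 3 ∈ [3, 15] := by rcases h3 with h | h <;> simp [h]
  have hcz : ∀ c z, ((c = 1 ∧ z = f 1) ∨ (c = 2 ∧ z = f 5) ∨ (c = 3 ∧ z = f 8) ∨ (c = 4 ∧ z = f 11)) →
      ∀ n, (cycPos n).1 = c → candF (f 3) z z z z n = candF (f 3) (f 1) (f 5) (f 8) (f 11) n := by
    rintro c z (⟨rfl, rfl⟩ | ⟨rfl, rfl⟩ | ⟨rfl, rfl⟩ | ⟨rfl, rfl⟩) n hn <;>
      simp only [candF, hn]
  have hm := maskBits_ok
  simp only [Bool.and_eq_true] at hm
  have k1 := hfilter 8683614 1 (f 1) (by simp) (maskBits_spec hm.1.1.1) (hcz 1 _ (by simp))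
  have k2 := hfilter 11535529 2 (f 5) (by simp) (maskBits_spec hm.1.1.2) (hcz 2 _ (by simp))
  have k3 := hfilter 8499969 3 (f 8) (by simp) (maskBits_spec hm.1.2) (hcz 3 _ (by simp))
  have k4 := hfilter 4900873 4 (f 11) (by simp) (maskBits_spec hm.2) (hcz 4 _ (by simp))
  have h1 := (hs _ hq _ (hflt 1)).resolve_left (by rw [k1]; simp)
  have h2 := (h1 _ (hflt 5)).resolve_left (by rw [k2]; simp)
  have h3' := (h2 _ (hflt 8)).resolve_left (by rw [k3]; simp)
  have h4 := (h3' _ (hflt 11)).resolve_left (by rw [k4]; simp)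
  obtain ⟨k, -, hk⟩ := h4.resolve_left (by
    rw [← hp, (H90.mem_M24_iff_preservesCode hr).mp g.1.2]; simp)
  rw [← hp] at hk
  have : twStab ^ k = g := by
    refine Subtype.ext (Subtype.ext (Equiv.ext fun q => H90.idx_injective (Fin.ext ?_)))
    rw [twist_pow_idx, hr.apply, hk _ (H90.idx q).isLt]
  rw [← this]
  exact Subgroup.npow_mem_zpowers _ _

/-- normalising elements, given one of order four -/
theorem normalizer_twist {τ g : m22Grp} (hτ : τ * twStab * τ⁻¹ = twStab ^ 2)
    (hg : g * twStab * g⁻¹ ∈ Subgroup.zpowers twStab) :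
    ∃ m b : ℕ, g = τ ^ m * twStab ^ b := by
  haveI : Fact (Nat.Prime 5) := ⟨by norm_num⟩
  obtain ⟨k, hk⟩ := mem_powers_iff_mem_zpowers.mpr hg
  have hk0 : (k : ZMod 5) ≠ 0 := fun h => by
    have h1 : twStab ^ k = 1 := by
      rw [← pow_zero twStab]; exact pow_eq_of_zmod order_twStab (by rw [h, Nat.cast_zero])
    have h2 : g * twStab * g⁻¹ = 1 := hk.symm.trans h1
    rw [conj_eq_one_iff] at h2
    have := order_twStab
    rw [h2, orderOf_one] at this
    norm_num at this
  obtain ⟨m, hm⟩ : ∃ m : Fin 4, (2 : ZMod 5) ^ m.val = k := by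
    exact zmod5_pow_two _ hk0
  have h1 : τ ^ m.val * twStab * (τ ^ m.val)⁻¹ = g * twStab * g⁻¹ := by
    rw [← hk]
    have := conj_pow_iter hτ m.val 1
    rw [pow_one] at this
    rw [this]
    exact pow_eq_of_zmod order_twStab (by rw [Nat.cast_mul, Nat.cast_pow, Nat.cast_one, mul_one]; exact hm)
  have h2 : ((τ ^ m.val)⁻¹ * g) * twStab = twStab * ((τ ^ m.val)⁻¹ * g) := by
    rw [← mul_inv_eq_iff_eq_mul,
      show (τ ^ m.val)⁻¹ * g * twStab * ((τ ^ m.val)⁻¹ * g)⁻¹
        = (τ ^ m.val)⁻¹ * (g * twStab * g⁻¹) * τ ^ m.val by group, ← h1]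
    group
  obtain ⟨b, hb⟩ := mem_powers_iff_mem_zpowers.mpr (centralizer_twist h2)
  exact ⟨m.val, b, by rw [show twStab ^ b = (τ ^ m.val)⁻¹ * g from hb, mul_inv_cancel_left]⟩

end H95
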