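import Cfsg.Agent.H95.OutPair
import Cfsg.Agent.H95.OutInst
import Cfsg.Agent.H95.Co1Simple

/-!
The centraliser of doubling in the automorphism group of the lattice.
-/

set_option autoImplicit false

namespace H95

open Cfsg Finset

/-- minus a list -/
def negL (l : List ℤ) : List ℤ := List.ofFn fun i : Fin 24 => -(l.getD i.val 0)

theorem vecL_neg (u : leechLattice) :
    vecL ((-u : leechLattice) : GolayPt → ℤ) = negL (vecL (u : GolayPt → ℤ)) := by
  unfold negL
  conv_lhs => unfold vecL
  congr 1
  funext i
  rw [vecL_getD _ i.isLt, AddSubgroup.coe_neg]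
  rfl

/-- the square classes with zero, as signs -/
def dWord : golayCode := ⟨qrWord 0, Submodule.subset_span (Or.inl ⟨0, rfl⟩)⟩

/-- the sign change -/
noncomputable def dEl : Co0 := signEl dWord

/-- the sign change on lists -/
def signL (l : List ℤ) : List ℤ :=
  List.ofFn fun i : Fin 24 => if (H90.genMask 0).testBit i.val then -(l.getD i.val 0) else l.getD i.val 0

theorem vecL_sign (u : leechLattice) :
    vecL ((dEl • u : leechLattice) : GolayPt → ℤ) = signL (vecL (u : GolayPt → ℤ)) := by
  unfold signL
  conv_lhs => unfold vecL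
  congr 1
  funext i
  rw [dEl, signEl_coord, vecL_getD _ i.isLt]
  have e : dWord.1 (H90.pt i) ≠ 0 ↔ (H90.genMask 0).testBit i.val = true := by
    show qrWord 0 (H90.pt i) ≠ 0 ↔ _
    rw [H90.qrWord_eq, H90.wordOf, H90.idx_pt]
    split <;> simp [*]
  simp only [e]

/-- `x ↦ -1/x` in `Co0` -/
noncomputable def piEl : Co0 := permHom ⟨projInv, H90.projInv_mem⟩

/-- `x ↦ -1/x` on lists -/
def projL (l : List ℤ) : List ℤ :=
  List.ofFn fun i : Fin 24 => l.getD (H90.img H90.genSN i.val % 24) 0

theorem proj_twice : ∀ i : Fin 24, H90.img H90.genSN (H90.img H90.genSN i.val % 24) = i.val := by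
  decide +kernel

theorem vecL_proj (u : leechLattice) :
    vecL ((piEl • u : leechLattice) : GolayPt → ℤ) = projL (vecL (u : GolayPt → ℤ)) :=
  vecL_perm (src := fun i => H90.img H90.genSN i % 24) (fun i _ => Nat.mod_lt _ (by norm_num))
    (fun i => H90.idx_injective (Fin.ext (by
      show (H90.idx (projInv _)).val = _
      rw [H90.repr_projInv.apply, H90.idx_pt, H90.idx_pt]
      exact proj_twice i))) u

/-- the search for all vectors fixed by doubling -/
def solAll (sols : List (List ℤ)) : Bool :=
  (List.range 17).all fun a => (List.range 17).all fun b =>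
    (List.range 5).all fun c => (List.range 5).all fun d =>
      let A : ℤ := (a : ℤ) - 8
      let B : ℤ := (b : ℤ) - 8
      let C : ℤ := (c : ℤ) - 2
      let D : ℤ := (d : ℤ) - 2
      if A * A + B * B + 11 * (C * C + D * D) = 64 then
        (!integralL (mkL A B C D)) || sols.contains (mkL A B C D)
      else true

/-- all vectors of norm 64 fixed by doubling -/
theorem dbl_solutions_all {sols : List (List ℤ)} (hc : solAll sols = true) {u : leechLattice}
    (hu : permHom dblPerm • u = u) (hn : ldot u u = 64) : vecL (u : GolayPt → ℤ) ∈ sols := by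
  set A := (u : GolayPt → ℤ) none with hA
  set B := (u : GolayPt → ℤ) (some 0) with hB
  set C := (u : GolayPt → ℤ) (some 1) with hC
  set D := (u : GolayPt → ℤ) (some (-1)) with hD
  have hn' : A ^ 2 + (B ^ 2 + (11 * C ^ 2 + 11 * D ^ 2)) = 64 := by
    rw [← sqNorm_eq_ldot] at hn
    unfold sqNorm at hn
    rw [sum_option, sum_dbl hu (fun t _ => t ^ 2), ← hA] at hn
    simp only [← hB, ← hC, ← hD, sum_const, card_univ, Fintype.card_fin, nsmul_eq_mul] at hn
    push_cast at hn
    linarith
  have bA : -8 ≤ A ∧ A ≤ 8 := ⟨by nlinarith [sq_nonneg B, sq_nonneg C, sq_nonneg D],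
    by nlinarith [sq_nonneg B, sq_nonneg C, sq_nonneg D]⟩
  have bB : -8 ≤ B ∧ B ≤ 8 := ⟨by nlinarith [sq_nonneg A, sq_nonneg C, sq_nonneg D],
    by nlinarith [sq_nonneg A, sq_nonneg C, sq_nonneg D]⟩
  have bC : -2 ≤ C ∧ C ≤ 2 := ⟨by nlinarith [sq_nonneg A, sq_nonneg B, sq_nonneg D],
    by nlinarith [sq_nonneg A, sq_nonneg B, sq_nonneg D]⟩
  have bD : -2 ≤ D ∧ D ≤ 2 := ⟨by nlinarith [sq_nonneg A, sq_nonneg B, sq_nonneg C],
    by nlinarith [sq_nonneg A, sq_nonneg B, sq_nonneg C]⟩
  have hvec : vecL (u : GolayPt → ℤ) = mkL A B C D := by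
    have hstep : ∀ y : ZMod 23, (u : GolayPt → ℤ) (some (2 * y)) = (u : GolayPt → ℤ) (some y) := by
      intro y
      have e := congrArg (fun w : leechLattice => (w : GolayPt → ℤ) (some (2 * y))) hu
      simp only [permHom_apply] at e
      rw [← e, show dblPerm.1.symm (some (2 * y)) = some y by rw [Equiv.symm_apply_eq, dblPerm_some]]
    have hp : ∀ k : ℕ, ∀ y : ZMod 23,
        (u : GolayPt → ℤ) (some (2 ^ k * y)) = (u : GolayPt → ℤ) (some y) := by
      intro k
      induction k with
      | zero => intro y; simp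
      | succ k ih => intro y; rw [pow_succ', mul_assoc, hstep, ih]
    have hcase : ∀ i : Fin 24, i.val ≠ 23 → i.val ≠ 0 → ∃ k : Fin 11,
        if i.val ^ 11 % 23 = 1 then H90.pt i = some (2 ^ k.val * 1)
        else H90.pt i = some (2 ^ k.val * (-1)) := by decide +kernel
    unfold vecL mkL
    congr 1
    funext i
    by_cases h23 : i.val = 23
    · rw [if_pos h23, pt_cases, if_pos h23]
    · rw [if_neg h23]
      by_cases hz : i.val = 0
      · rw [if_pos hz, pt_cases, if_neg h23, hz, Nat.cast_zero]
      · rw [if_neg hz]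
        obtain ⟨k, hk⟩ := hcase i h23 hz
        by_cases hq : i.val ^ 11 % 23 = 1
        · rw [if_pos hq] at hk
          rw [if_pos hq, hk, hp]
        · rw [if_neg hq] at hk
          rw [if_neg hq, hk, hp]
  have h := range_all (range_all (range_all (range_all hc (z := A) (r := 8) (by omega) (by omega))
    (z := B) (r := 8) (by omega) (by omega)) (z := C) (r := 2) (by omega) (by omega))
    (z := D) (r := 2) (by omega) (by omega)
  have eA : (((A + 8).toNat : ℕ) : ℤ) - 8 = A := by omega
  have eB : (((B + 8).toNat : ℕ) : ℤ) - 8 = B := by omega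
  have eC : (((C + 2).toNat : ℕ) : ℤ) - 2 = C := by omega
  have eD : (((D + 2).toNat : ℕ) : ℤ) - 2 = D := by omega
  simp only [Nat.cast_ofNat, eA, eB, eC, eD] at h
  rw [if_pos (by linarith), Bool.or_eq_true, Bool.not_eq_true', List.contains_iff_mem] at h
  rcases h with h | h
  · have := integralL_vec u
    rw [hvec, h] at this
    exact absurd this (by simp)
  · rwa [hvec]

theorem signEl_zero : signEl 0 = 1 := co0_ext fun v => Subtype.ext (funext fun i => by
  rw [signEl_coord, one_smul]; simp)

theorem monMap_signEl (w : golayCode) : MonMap (signEl w) 1 :=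
  monMap_mono 1 _ (one_mem _) (code_supp w)

theorem mem_stdGrp_of_image {g : Co0} {p q : GolayPt} (h : g • eight p = eight q) : g ∈ stdGrp := by
  refine fixesStd_iff.mp ?_
  rintro v ⟨i, s, hs, hv⟩
  have hve : v = eight i ∨ v = -eight i := eight_single hs hv
  have hcls : eight p - v ∈ twice leechLattice := by
    rcases hve with rfl | rfl
    · exact eight_sub_mem_twice _ _
    · rw [sub_neg_eq_add]; exact (leechLike.sub_mem_twice_iff).mp (eight_sub_mem_twice p i)
  have hn : ldot v v = 64 := by
    rcases hve with rfl | rfl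
    · exact eight_norm i
    · rw [leechLike.norm_neg, eight_norm]
  have h1 : eight none - g • v ∈ twice leechLattice := by
    have h2 := smul_twice g hcls
    rw [co0_sub, h] at h2
    have h3 := add_mem (eight_sub_mem_twice none q) h2
    rwa [sub_add_sub_cancel] at h3
  obtain ⟨j, hj | hj⟩ := cross_std (by rw [co0_dot, hn]) h1
  · exact ⟨j, 8, Or.inl rfl, by rw [hj]; rfl⟩
  · exact ⟨j, -8, Or.inr rfl, by rw [hj]; exact (Pi.single_neg j 8).symm⟩

/-- the code words fixed by doubling and vanishing at the extra point -/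
theorem fixed_words : (List.range 4096).all (fun n =>
    (H90.encode n).testBit 23 || (List.range 23).any (fun i =>
      (H90.encode n).testBit i != (H90.encode n).testBit (2 * i % 23)) ||
    H90.encode n == 0 || H90.encode n == H90.genMask 0) = true := by decide +kernel

theorem fixed_word_cases {w : GolayPt → ZMod 2} (hw : w ∈ golayCode) (h0 : w none = 0)
    (hd : ∀ x : ZMod 23, w (some (2 * x)) = w (some x)) : w = 0 ∨ w = qrWord 0 := by
  obtain ⟨n, hn, rfl⟩ := H90.mem_golayCode_iff.mp hw
  have h := List.all_eq_true.mp fixed_words n (List.mem_range.mpr hn)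
  simp only [Bool.or_eq_true, List.any_eq_true, List.mem_range, bne_iff_ne, beq_iff_eq] at h
  rcases h with ((h | ⟨i, hi, h⟩) | h) | h
  · have : H90.wordOf (H90.encode n) none = 1 := by
      rw [H90.wordOf]; exact if_pos h
    rw [h0] at this
    exact absurd this (by decide)
  · exfalso
    refine h ?_
    have e := hd ((i : ℕ) : ZMod 23)
    have v1 : (H90.idx (some ((i : ℕ) : ZMod 23))).val = i := by
      show (((i : ℕ) : ZMod 23)).val = i
      rw [ZMod.val_natCast, Nat.mod_eq_of_lt hi]
    have v2 : (H90.idx (some (2 * ((i : ℕ) : ZMod 23)))).val = 2 * i % 23 := by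
      show (2 * ((i : ℕ) : ZMod 23)).val = _
      rw [show 2 * ((i : ℕ) : ZMod 23) = ((2 * i : ℕ) : ZMod 23) by push_cast; rfl, ZMod.val_natCast]
    simp only [H90.wordOf, v1, v2] at e
    cases hA : (H90.encode n).testBit i <;> cases hB : (H90.encode n).testBit (2 * i % 23) <;>
      simp [hA, hB] at e ⊢
  · left; rw [h, H90.wordOf_zero]
  · right; funext p; rw [H90.qrWord_eq, h]

/-- the centraliser, given representatives for the orbit of `8e` -/
theorem cent_dbl (reps : List Co0) (sols : List (List ℤ)) (hs : solAll sols = true)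
    (hreps : ∀ l ∈ sols, ∃ r ∈ reps, ∃ u : leechLattice,
      (u = eight none ∨ u = -eight none ∨ u = eight (some 0) ∨ u = -eight (some 0)) ∧
      vecL ((r • u : leechLattice) : GolayPt → ℤ) = l)
    (hcr : ∀ r ∈ reps, Commute r (permHom dblPerm))
    {z : Co0} (hz : Commute z (permHom dblPerm)) :
    ∃ r ∈ reps, ∃ a j : ℕ, a < 2 ∧ j < 11 ∧
      (z = r * dEl ^ a * permHom dblPerm ^ j ∨ z = negOne * (r * dEl ^ a * permHom dblPerm ^ j)) := by
  have hfix : permHom dblPerm • eight none = eight none := by rw [permHom_eight, dblPerm_none]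
  have hu : permHom dblPerm • (z • eight none) = z • eight none := by
    rw [← mul_smul, ← hz.eq, mul_smul, hfix]
  obtain ⟨r, hr, u, hu4, hl⟩ :=
    hreps _ (dbl_solutions_all hs hu (by rw [co0_dot, eight_norm]))
  have hru : r • u = z • eight none := eq_of_vecL hl
  refine ⟨r, hr, ?_⟩
  have hneg : ∀ g : Co0, Commute negOne g := fun g =>
    ((Subgroup.mem_center_iff.mp negOne_mem_center) g).symm
  -- strip the representative and the sign
  obtain ⟨w, hw, hwimg, hwc⟩ : ∃ w : Co0, (z = r * w ∨ z = negOne * (r * w)) ∧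
      (w • eight none = eight none ∨ w • eight none = eight (some 0)) ∧
      Commute w (permHom dblPerm) := by
    have hc : Commute (r⁻¹ * z) (permHom dblPerm) := ((hcr r hr).inv_left).mul_left hz
    have himg : (r⁻¹ * z) • eight none = u := by rw [mul_smul, ← hru, inv_smul_smul]
    have hnn : negOne * negOne = (1 : Co0) := co0_ext fun v => by
      rw [mul_smul, negOne_smul, negOne_smul, neg_neg, one_smul]
    have hz' : z = negOne * (r * (negOne * (r⁻¹ * z))) := by
      rw [← mul_assoc r, ← (hneg r).eq, mul_assoc negOne r, mul_inv_cancel_left, ← mul_assoc, hnn,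
        one_mul]
    rcases hu4 with h | h | h | h
    · exact ⟨_, Or.inl (by group), Or.inl (himg.trans h), hc⟩
    · refine ⟨negOne * (r⁻¹ * z), Or.inr hz', Or.inl ?_, (hneg _).mul_left hc⟩
      rw [mul_smul, himg, h, negOne_smul, neg_neg]
    · exact ⟨_, Or.inl (by group), Or.inr (himg.trans h), hc⟩
    · refine ⟨negOne * (r⁻¹ * z), Or.inr hz', Or.inr ?_, (hneg _).mul_left hc⟩
      rw [mul_smul, himg, h, negOne_smul, neg_neg]
  -- the permutation part
  have hstd : w ∈ stdGrp := by rcases hwimg with h | h <;> exact mem_stdGrp_of_image h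
  obtain ⟨σ, hσm⟩ := hstd
  obtain ⟨c, hσ, hcc, hwm⟩ := hσm.exists_mono
  have hσD : σ * dblPerm.1 = dblPerm.1 * σ := by
    have h1 := hσm.mul (monMap_permHom dblPerm)
    rw [hwc.eq] at h1
    exact h1.unique ((monMap_permHom dblPerm).mul hσm)
  have hσimg : ∀ q, w • eight none = eight q → σ none = q := by
    intro q hq
    obtain ⟨s, hs, e⟩ := hσm none
    rw [hq] at e
    have := congrFun e q
    by_contra hne
    rw [Pi.single_eq_of_ne (Ne.symm hne)] at this
    revert this
    show (Pi.single q 8 : GolayPt → ℤ) q = 0 → False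
    simp
  have hfx : ∀ p, dblPerm.1 p = p → dblPerm.1 (σ p) = σ p := fun p hp => by
    have := Equiv.ext_iff.mp hσD p
    simp only [Equiv.Perm.mul_apply] at this
    rw [hp] at this
    exact this.symm
  have h0fix : dblPerm.1 (some 0) = some 0 := by rw [dblPerm_some, mul_zero]
  rcases hwimg with himg | himg
  · have hσ0 : σ none = none := hσimg none himg
    have hσ00 : σ (some 0) = some 0 := by
      rcases dblS_fixed _ (hfx _ h0fix) with h | h
      · exact absurd (σ.injective (h.trans hσ0.symm)) (by simp)
      · exact h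
    let g : m22Grp := ⟨⟨σ, hσ⟩, hσ0, hσ00⟩
    have hg : g * dblStab = dblStab * g := Subtype.ext (Subtype.ext hσD)
    obtain ⟨j, hj⟩ := mem_powers_iff_mem_zpowers.mpr (centralizer_dbl hg)
    obtain ⟨d, hd⟩ := mono_eq_sign_mul hσ hcc
    have hperm : permHom ⟨σ, hσ⟩ = permHom dblPerm ^ j := by
      rw [← map_pow]
      refine congrArg permHom ?_
      have := congrArg (fun a : m22Grp => (a : M24)) hj
      simp only [SubmonoidClass.coe_pow] at this
      exact this.symm
    rw [hwm, hd, hperm] at hw himg hwc
    have hpj : (permHom dblPerm ^ j) • eight none = eight none := by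
      rw [← map_pow, permHom_eight, dblPerm_pow_none]
    rw [mul_smul, hpj] at himg
    have hd0 : d.1 none = 0 := by
      have e := congrArg (fun v : leechLattice => (v : GolayPt → ℤ) none) himg
      simp only [signEl_coord] at e
      rcases zmod2_cases (d.1 none) with h | h
      · exact h
      · rw [h, if_pos (by decide)] at e
        revert e
        show -(Pi.single none 8 : GolayPt → ℤ) none = (Pi.single none 8 : GolayPt → ℤ) none → _
        simp
    have hdc : Commute (signEl d) (permHom dblPerm) := by
      have := hwc.mul_left (((Commute.refl (permHom dblPerm)).pow_left j).inv_left)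
      rwa [mul_inv_cancel_right] at this
    have hdd : ∀ x : ZMod 23, d.1 (some (2 * x)) = d.1 (some x) := by
      intro x
      have h1 := signEl_conj dblPerm d
      rw [← hdc.eq, mul_inv_cancel_right] at h1
      have h2 := congrArg (fun g : Co0 =>
        ((g • eight (some (2 * x)) : leechLattice) : GolayPt → ℤ) (some (2 * x))) h1
      simp only [signEl_coord] at h2
      simp only [show dblPerm.1.symm (some (2 * x)) = some x by rw [Equiv.symm_apply_eq, dblPerm_some]] at h2
      have h8 : (eight (some (2 * x)) : GolayPt → ℤ) (some (2 * x)) = 8 := by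
        show (Pi.single _ 8 : GolayPt → ℤ) _ = 8
        exact Pi.single_eq_same _ _
      rw [h8] at h2
      rcases zmod2_cases (d.1 (some (2 * x))) with h | h <;>
        rcases zmod2_cases (d.1 (some x)) with h' | h' <;> rw [h, h'] at h2 ⊢ <;> simp at h2 ⊢
    have hd' : ∃ a < 2, signEl d = dEl ^ a := by
      rcases fixed_word_cases d.2 hd0 hdd with h | h
      · exact ⟨0, by norm_num, by rw [show d = 0 from Subtype.ext h, signEl_zero, pow_zero]⟩
      · exact ⟨1, by norm_num, by rw [show d = dWord from Subtype.ext h, pow_one]; rfl⟩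
    obtain ⟨a, ha, hda⟩ := hd'
    have hord : (permHom dblPerm) ^ 11 = 1 := by
      rw [← map_pow, ← order_dblPerm, pow_orderOf_eq_one, map_one]
    have hj11 : permHom dblPerm ^ j = permHom dblPerm ^ (j % 11) := by
      conv_lhs => rw [← Nat.mod_add_div j 11, pow_add, pow_mul, hord, one_pow, mul_one]
    refine ⟨a, j % 11, ha, Nat.mod_lt _ (by norm_num), ?_⟩
    rw [hda, hj11, ← mul_assoc] at hw
    exact hw
  · exfalso
    have hσ0 : σ none = some 0 := hσimg _ himg
    have hσ00 : σ (some 0) = none := by
      rcases dblS_fixed _ (hfx _ h0fix) with h | h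
      · exact h
      · exact absurd (σ.injective (h.trans hσ0.symm)) (by simp)
    have hp : (projInv : Equiv.Perm GolayPt) (some 0) = none ∧ projInv none = some 0 := by
      constructor <;> rfl
    let g : m22Grp := ⟨⟨projInv, H90.projInv_mem⟩ * ⟨σ, hσ⟩,
      by show projInv (σ none) = none; rw [hσ0, hp.1],
      by show projInv (σ (some 0)) = some 0; rw [hσ00, hp.2]⟩
    have hg : g * dblStab * g⁻¹ = dblStab ^ 10 := by
      rw [mul_inv_eq_iff_eq_mul]
      refine Subtype.ext (Subtype.ext (Equiv.ext fun p => ?_))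
      show projInv (σ (dblPerm.1 p)) = (dblPerm ^ 10).1 (projInv (σ p))
      rw [show σ (dblPerm.1 p) = dblPerm.1 (σ p) from Equiv.ext_iff.mp hσD p]
      generalize σ p = q
      revert q
      decide +kernel
    have := norm22_exponent hg
    revert this
    decide +kernel

end H95
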