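import Cfsg.Agent.H95.Co1Words

/-!
The computations for the automorphisms of the lattice group modulo its centre.
-/

set_option autoImplicit false
set_option maxRecDepth 20000
set_option Elab.async false

namespace H95

open Cfsg Finset

/-- relations for the sign change -/
def relsD : List (List ℕ × ℕ) := [([7], 2), ([0, 7], 23), ([0, 1, 1, 7], 11)]
/-- relations for the element of order five -/
def relsS : List (List ℕ × ℕ) := [([7], 5), ([0, 7], 6)]
/-- relations for the inversion -/
def relsP : List (List ℕ × ℕ) := [([7], 2), ([0, 7], 3), ([3, 0, 0, 0, 7], 10)]
/-- relations for the matrix -/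
def relsE : List (List ℕ × ℕ) := [([7], 10), ([0, 7], 7), ([2, 7], 15), ([0, 0, 7], 22)]

theorem relsD_hold : relsHold 2 relsD = true := by decide +kernel
theorem relsS_hold : relsHold 3 relsS = true := by decide +kernel
theorem relsP_hold : relsHold 4 relsP = true := by decide +kernel
theorem relsE_hold : relsHold 5 relsE = true := by decide +kernel

theorem letters_ok : (lettersOK [1] relsD && lettersOK [] relsS && lettersOK [3] relsP &&
    lettersOK [2] relsE) = true := by decide +kernel

theorem testD0 : stageTest 2 [1, 22] relsD 0 = true := by decide +kernel
theorem testD1 : stageTest 2 [1, 22] relsD 1 = true := by decide +kernel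
theorem testD2 : stageTest 2 [1, 22] relsD 2 = true := by decide +kernel
theorem testS0 : stageTest 3 [1] relsS 0 = true := by decide +kernel
theorem testS1 : stageTest 3 [1] relsS 1 = true := by decide +kernel
theorem testS2 : stageTest 3 [1] relsS 2 = true := by decide +kernel
theorem testP0 : stageTest 4 [1] relsP 0 = true := by decide +kernel
theorem testP1 : stageTest 4 [1] relsP 1 = true := by decide +kernel
theorem testP2 : stageTest 4 [1] relsP 2 = true := by decide +kernel
theorem testE0 : stageTest 5 [1] relsE 0 = true := by decide +kernel
theorem testE1 : stageTest 5 [1] relsE 1 = true := by decide +kernel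
theorem testE2 : stageTest 5 [1] relsE 2 = true := by decide +kernel

theorem all_three {f : ℕ → Bool} (h0 : f 0 = true) (h1 : f 1 = true) (h2 : f 2 = true) :
    (List.range 3).all f = true := by
  refine List.all_eq_true.mpr fun i hi => ?_
  rw [List.mem_range] at hi
  interval_cases i <;> assumption

/-- the four bases of the vectors fixed by doubling -/
def baseL : List (List ℤ) := [eightL 23, negL (eightL 23), eightL 0, negL (eightL 0)]

/-- the twelve vectors fixed by doubling -/
def sols12 : List (List ℤ) := repWords.flatMap fun w => baseL.map (wordC w)

theorem sols12_all : solAll sols12 = true := by decide +kernel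

theorem conj_s : sameC [3, 1] [1, 1, 1, 3] = true := by decide +kernel
theorem conj_p : sameC [4, 1] (List.replicate 10 1 ++ [4]) = true := by decide +kernel
theorem conj_e : sameC [5, 1] [1, 1, 1, 5] = true := by decide +kernel
theorem conj_d : sameC [2, 1] [1, 2] = true := by decide +kernel
theorem conj_f : sameC [6, 1] [1, 6] = true := by decide +kernel

theorem e_moves : ((List.range 24).all fun i =>
    applyL co3Rows (eightL 23) != eightL (Fin.ofNat 24 i) &&
      applyL co3Rows (eightL 23) != negL (eightL (Fin.ofNat 24 i))) = true := by decide +kernel

theorem d_moves : (signL (eightL 0) != eightL 0 && signL (eightL 23) != negL (eightL 23)) = true := by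
  decide +kernel

end H95
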