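import Cfsg.Agent.H95.ModelFix
import Cfsg.Agent.H95.SimpleCrit
import Cfsg.Prelude.Def_Sporadic

/-!
The stabiliser of a vector of norm 48 is simple.
-/

set_option autoImplicit false

namespace H95

open Cfsg Finset

theorem leechV_none : (Spor.leechV : GolayPt → ℤ) none = -5 := rfl
theorem leechV_some (x : ZMod 23) : (Spor.leechV : GolayPt → ℤ) (some x) = -1 := rfl

theorem leechV_norm : ldot Spor.leechV Spor.leechV = 48 := by
  rw [norm_const leechV_none leechV_some]; norm_num

/-- the point stabiliser of `M24` as a subgroup of the stabiliser of `leechV` -/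
noncomputable def m23Hom : MulAction.stabilizer M24 (none : GolayPt) →* MulAction.stabilizer Co0 Spor.leechV :=
  (permHom.comp (MulAction.stabilizer M24 (none : GolayPt)).subtype).codRestrict _
    fun σ => permHom_fix_const σ.1 σ.2 leechV_some

theorem m23Hom_injective : Function.Injective m23Hom := fun _ _ h =>
  Subtype.ext (permHom_injective (congrArg Subtype.val h))

/-- translation, in the point stabiliser -/
def translStab : MulAction.stabilizer M24 (none : GolayPt) := ⟨translOne, rfl⟩

theorem order_translStab : orderOf translStab = 23 := by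
  rw [← Subgroup.orderOf_coe]; exact order_translOne

theorem card_orbit_mul {v : leechLattice} (S : Set leechLattice) (n : ℕ) (hn : S.ncard = n)
    (h : ∀ q, q ∈ S ↔ ∃ g : Co0, g • v = q) :
    Nat.card (MulAction.stabilizer Co0 v) * n = 8315553613086720000 := by
  rw [← hn, H90.natCard_stabilizer_mul v S h, card_co0 golayUnique]

theorem card_stab_48 {v : leechLattice} (hv : ldot v v = 48) :
    Nat.card (MulAction.stabilizer Co0 v) = 495766656000 := by
  have h := card_orbit_mul (v := v) {x | ldot x x = 48} 16773120 leechLike.count48 fun q => by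
    constructor
    · intro hq; exact transitive_48 golayUnique hv hq
    · rintro ⟨g, rfl⟩
      show ldot (g • v) (g • v) = 48
      rw [co0_dot, hv]
  omega

theorem co3_crit (hS : IsSimpleGroup (MulAction.stabilizer M24 (none : GolayPt))) :
    Nonempty (CritData (MulAction.stabilizer Co0 Spor.leechV) 23) := by
  refine ⟨⟨m23Hom.range, ?_, m23Hom translStab, ⟨translStab, rfl⟩, ?_, ?_, ?_⟩⟩
  · haveI := hS
    exact (MonoidHom.ofInjective m23Hom_injective).symm.isSimpleGroup
  · rw [orderOf_injective m23Hom m23Hom_injective]; exact order_translStab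
  · rw [card_stab_48 leechV_norm]; norm_num
  · intro g hg
    have hfix : (m23Hom translStab).1 • eight none = eight none := by
      show permHom translOne • eight none = _
      rw [permHom_eight]; rfl
    obtain ⟨k, hk⟩ := hg
    have hgx : (g * m23Hom translStab * g⁻¹).1 • eight none = eight none := by
      have hk' : m23Hom translStab ^ k = g * m23Hom translStab * g⁻¹ := hk
      rw [← hk', SubgroupClass.coe_zpow]
      exact (MulAction.stabilizer Co0 (eight none)).zpow_mem hfix k
    have hu : permHom translOne • ((g.1)⁻¹ • eight none) = (g.1)⁻¹ • eight none := by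
      simp only [Subgroup.coe_mul, InvMemClass.coe_inv, mul_smul] at hgx
      exact (eq_inv_smul_iff.mpr hgx)
    have hgv : g.1 • Spor.leechV = Spor.leechV := g.2
    have he : (g.1)⁻¹ • eight none = eight none := by
      refine eq_eight_of_fix hu leechV_none leechV_some ?_ ?_ (by norm_num)
      · rw [co0_dot, eight_norm]
      · calc ldot ((g.1)⁻¹ • eight none) Spor.leechV
            = ldot ((g.1)⁻¹ • eight none) ((g.1)⁻¹ • Spor.leechV) := by
              rw [inv_smul_eq_iff.mpr hgv.symm]
          _ = ldot (eight none) Spor.leechV := co0_dot _ _ _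
          _ = 8 * -5 := by rw [ldot_comm, ldot_eight, leechV_none]; norm_num
    have hge : g.1 • eight none = eight none := by
      conv_lhs => rw [← he]
      exact smul_inv_smul _ _
    obtain ⟨σ, hσ, hgσ⟩ := mono_of_const hge leechV_some (by norm_num) hgv
    exact ⟨⟨σ, hσ⟩, Subtype.ext hgσ.symm⟩

theorem co3_simple (hS : IsSimpleGroup (MulAction.stabilizer M24 (none : GolayPt))) :
    IsSimpleGroup (MulAction.stabilizer Co0 Spor.leechV) := by
  haveI : Finite Co0 := co0_finite
  haveI : Fact (Nat.Prime 23) := ⟨by norm_num⟩
  obtain ⟨D⟩ := co3_crit hS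
  exact D.isSimple_of_powers (card_stab_48 leechV_norm) [(2, 10), (3, 7), (5, 3), (7, 1), (11, 1)]
    (by simp only [List.forall_mem_cons, List.not_mem_nil, IsEmpty.forall_iff, implies_true, and_true]; norm_num)
    (by norm_num) (by norm_num) (by decide +kernel)

theorem isCo3_stab (hS : IsSimpleGroup (MulAction.stabilizer M24 (none : GolayPt)))
    {v : leechLattice} (hv : ldot v v = 48) : IsCo3 (MulAction.stabilizer Co0 v) := by
  obtain ⟨g, hg⟩ := transitive_48 golayUnique hv leechV_norm
  haveI := co3_simple hS
  exact ⟨(stabEquiv g v Spor.leechV hg).isSimpleGroup, card_stab_48 hv⟩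

end H95
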