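import Cfsg.Agent.H95.Co1Frame
import Cfsg.Agent.H95.MinShapes
import Cfsg.Agent.H95.Census

/-!
The three shapes of minimal vectors as orbits of the stabiliser of the standard cross.
-/

set_option autoImplicit false

namespace H95

open Cfsg Finset

/-- `u` has two coordinates `±4` and is zero elsewhere -/
def IsQuad (u : leechLattice) : Prop :=
  ∃ (a b : GolayPt) (h : a ≠ b) (s t : ℤ) (hs : s = 1 ∨ s = -1) (ht : t = 1 ∨ t = -1),
    u = quad a b h s t hs ht

/-- `u` has a coordinate `2` modulo `4` -/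
def IsOctadVec (u : leechLattice) : Prop :=
  ldot u u = 32 ∧ ∃ k, (u : GolayPt → ℤ) k % 4 = 2

/-- `u` is minimal with odd coordinates -/
def IsOddVec (u : leechLattice) : Prop :=
  ldot u u = 32 ∧ ¬ 2 ∣ (u : GolayPt → ℤ) none

theorem isQuad_of_mod_four {u : leechLattice} (hu : ldot u u = 32)
    (h0 : ∀ i, (u : GolayPt → ℤ) i % 4 = 0) : IsQuad u := by
  classical
  have hn : sqNorm (u : GolayPt → ℤ) = 32 := by rw [sqNorm_eq_ldot]; exact hu
  have hv : ∀ i, (u : GolayPt → ℤ) i = 0 ∨ (u : GolayPt → ℤ) i = 4 ∨ (u : GolayPt → ℤ) i = -4 := by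
    intro i
    have := abs_le_of_sqNorm (R := 5) hn (by norm_num) (by norm_num) i
    have := h0 i
    omega
  set S := univ.filter fun i => (u : GolayPt → ℤ) i ≠ 0 with hS
  have hsum : sqNorm (u : GolayPt → ℤ) = 16 * (S.card : ℤ) := by
    unfold sqNorm
    rw [hS, card_filter, Nat.cast_sum, mul_sum]
    refine sum_congr rfl fun i _ => ?_
    rcases hv i with h | h | h <;> rw [h] <;> simp
  have hS2 : S.card = 2 := by rw [hn] at hsum; omega
  obtain ⟨a, b, hab, hSab⟩ := card_eq_two.mp hS2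
  have hsgn : ∀ i ∈ S, ∃ s : ℤ, (s = 1 ∨ s = -1) ∧ (u : GolayPt → ℤ) i = 4 * s := by
    intro i hi
    rcases hv i with h | h | h
    · exact absurd h (mem_filter.mp hi).2
    · exact ⟨1, Or.inl rfl, by rw [h]; rfl⟩
    · exact ⟨-1, Or.inr rfl, by rw [h]; rfl⟩
  obtain ⟨s, hs, hsa⟩ := hsgn a (by rw [hSab]; simp)
  obtain ⟨t, ht, htb⟩ := hsgn b (by rw [hSab]; simp)
  refine ⟨a, b, hab, s, t, hs, ht, Subtype.ext (funext fun i => ?_)⟩
  show _ = (Pi.single a (4 * s) + Pi.single b (4 * t) : GolayPt → ℤ) i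
  by_cases hia : i = a
  · subst hia; simp [hab, hsa]
  · by_cases hib : i = b
    · subst hib; simp [hia, htb]
    · simp only [Pi.add_apply, Pi.single_eq_of_ne hia, Pi.single_eq_of_ne hib, add_zero]
      by_contra hne
      have : i ∈ S := mem_filter.mpr ⟨mem_univ _, hne⟩
      rw [hSab] at this
      simp [hia, hib] at this

theorem min_cases {u : leechLattice} (hu : ldot u u = 32) :
    IsQuad u ∨ IsOctadVec u ∨ IsOddVec u := by
  by_cases hodd : 2 ∣ (u : GolayPt → ℤ) none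
  · by_cases h2 : ∃ k, (u : GolayPt → ℤ) k % 4 = 2
    · exact Or.inr (Or.inl ⟨hu, h2⟩)
    · push Not at h2
      refine Or.inl (isQuad_of_mod_four hu fun i => ?_)
      have := parity_leech u.2 i none
      have := h2 i
      omega
  · exact Or.inr (Or.inr ⟨hu, hodd⟩)

theorem mono_mem_std (σ : Equiv.Perm GolayPt) (c : Finset GolayPt) (hσ : σ ∈ M24)
    (hc : c ∈ supports (golayCode : Set (GolayPt → ZMod 2))) : mono σ c hσ hc ∈ stdGrp :=
  ⟨σ, monMap_mono σ c hσ hc⟩

theorem signEl_mem_std (d : golayCode) : signEl d ∈ stdGrp := mono_mem_std _ _ _ _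

theorem permHom_mem_std (σ : M24) : permHom σ ∈ stdGrp := ⟨σ.1, monMap_permHom σ⟩

theorem isQuad_base : IsQuad vBase := ⟨none, some 0, by simp, 1, 1, Or.inl rfl, Or.inl rfl, rfl⟩

/-- all quads are images of one -/
theorem quad_std {u : leechLattice} (hu : IsQuad u) : ∃ g ∈ stdGrp, g • vBase = u := by
  obtain ⟨a, b, hab, s, t, hs, ht, rfl⟩ := hu
  obtain ⟨σ, hσ, h1, h2⟩ := m24_move_two (show (none : GolayPt) ≠ some 0 by simp) hab
  obtain ⟨w, hw, hwT⟩ := exists_code_small ({a, b} : Finset GolayPt)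
    (le_trans card_le_two (by norm_num))
    (fun i => if (i = a ∧ s = -1) ∨ (i = b ∧ t = -1) then 1 else 0)
  refine ⟨signEl ⟨w, hw⟩ * permHom ⟨σ, hσ⟩,
    stdGrp.mul_mem (signEl_mem_std _) (permHom_mem_std _), Subtype.ext (funext fun i => ?_)⟩
  rw [mul_smul, signEl_coord, permHom_apply, coe_vBase]
  show (if w i ≠ 0 then -(_ : ℤ) else _) = (Pi.single a (4 * s) + Pi.single b (4 * t) : GolayPt → ℤ) i
  by_cases hia : i = a
  · subst hia
    rw [show (⟨σ, hσ⟩ : M24).1.symm i = none by rw [Equiv.symm_apply_eq]; exact h1.symm,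
      hwT i (by simp)]
    rcases hs with rfl | rfl <;> simp [hab]
  · by_cases hib : i = b
    · subst hib
      rw [show (⟨σ, hσ⟩ : M24).1.symm i = some 0 by rw [Equiv.symm_apply_eq]; exact h2.symm,
        hwT i (by simp)]
      rcases ht with rfl | rfl <;> simp [hia]
    · have hj1 : (⟨σ, hσ⟩ : M24).1.symm i ≠ none := fun h => hia (by
        rw [Equiv.symm_apply_eq] at h; exact h.trans h1)
      have hj2 : (⟨σ, hσ⟩ : M24).1.symm i ≠ some 0 := fun h => hib (by
        rw [Equiv.symm_apply_eq] at h; exact h.trans h2)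
      simp [hj1, hj2, hia, hib]

/-- the odd minimal vectors are one orbit -/
theorem odd_std {x y : leechLattice} (hx : IsOddVec x) (hy : IsOddVec y) :
    ∃ g ∈ stdGrp, g • x = y := by
  have canon : ∀ u : leechLattice, IsOddVec u →
      ∃ g ∈ stdGrp, ((g • u : leechLattice) : GolayPt → ℤ) = fun i => if i = none then 3 else -1 := by
    rintro u ⟨hu, hodd⟩
    rw [← sqNorm_eq_ldot] at hu
    obtain ⟨l, hl, hrest⟩ := odd_shape u.2 hu hodd
    obtain ⟨m, hm, a, ha, z, hz, -⟩ := exists_form u.2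
    have hm1 : m = 1 := by have := hz none; omega
    subst hm1
    have hc : ∀ i, (1 + a) i ≠ 0 ↔ (u : GolayPt → ℤ) i % 4 = 1 := by
      intro i
      have := hz i
      rcases zmod2_cases (a i) with h | h <;> rw [h] at this
      · have e : (1 + a) i = 1 := by simp [h]
        rw [e]; simp at this ⊢; omega
      · have e : (1 + a) i = 0 := by simp [h]; decide
        rw [e]
        have : ((1 : ZMod 2).val : ℤ) = 1 := rfl
        simp only [ne_eq, not_true, false_iff]
        omega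
    obtain ⟨σ, hσ, hσl⟩ := H90.exists_move1 l none
    refine ⟨permHom ⟨σ, hσ⟩ * signEl ⟨1 + a, add_mem one_mem_code ha⟩,
      stdGrp.mul_mem (permHom_mem_std _) (signEl_mem_std _), funext fun i => ?_⟩
    rw [mul_smul, permHom_apply, signEl_coord]
    show (if (1 + a) (σ.symm i) ≠ 0 then -((u : GolayPt → ℤ) (σ.symm i))
      else (u : GolayPt → ℤ) (σ.symm i)) = if i = none then 3 else -1
    have h1 := hc (σ.symm i)
    have hil : σ.symm i = l ↔ i = none := by rw [Equiv.symm_apply_eq, hσl]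
    have h2 : (i = none ∧ ((u : GolayPt → ℤ) (σ.symm i) = 3 ∨ (u : GolayPt → ℤ) (σ.symm i) = -3))
        ∨ (i ≠ none ∧ ((u : GolayPt → ℤ) (σ.symm i) = 1 ∨ (u : GolayPt → ℤ) (σ.symm i) = -1)) := by
      by_cases h : i = none
      · exact Or.inl ⟨h, by rw [hil.mpr h]; exact hl⟩
      · exact Or.inr ⟨h, hrest _ (mt hil.mp h)⟩
    by_cases hq : (1 + a) (σ.symm i) ≠ 0
    · rw [if_pos hq]
      have := h1.mp hq
      rcases h2 with ⟨h, h'⟩ | ⟨h, h'⟩
      · rw [if_pos h]; omega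
      · rw [if_neg h]; omega
    · rw [if_neg hq]
      have := mt h1.mpr hq
      rcases h2 with ⟨h, h'⟩ | ⟨h, h'⟩
      · rw [if_pos h]; omega
      · rw [if_neg h]; omega
  obtain ⟨g, hg, e⟩ := canon x hx
  obtain ⟨g', hg', e'⟩ := canon y hy
  refine ⟨g'⁻¹ * g, stdGrp.mul_mem (stdGrp.inv_mem hg') hg, ?_⟩
  rw [mul_smul, inv_smul_eq_iff]
  exact Subtype.ext (e.trans e'.symm)

/-- the octad vectors are one orbit -/
theorem octad_std {x y : leechLattice} (hx : IsOctadVec x) (hy : IsOctadVec y) :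
    ∃ g ∈ stdGrp, g • x = y := by
  obtain ⟨hx, k, hk⟩ := hx
  obtain ⟨hy, k', hk'⟩ := hy
  rw [← sqNorm_eq_ldot] at hx hy
  obtain ⟨a, ha, ha8, hxs⟩ := octad_shape x.2 hx hk
  obtain ⟨b, hb, hb8, hys⟩ := octad_shape y.2 hy hk'
  obtain ⟨σ, hσ, hσo⟩ := H90.exists_M24_octad (o := support₂ a) (o' := support₂ b)
    ⟨⟨a, ha, rfl⟩, by rw [← hammingNorm_eq_support₂]; exact ha8⟩
    ⟨⟨b, hb, rfl⟩, by rw [← hammingNorm_eq_support₂]; exact hb8⟩
  set g1 := permHom ⟨σ, hσ⟩ with hg1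
  set x' := g1 • x with hx'
  have hx'i : ∀ i, (x' : GolayPt → ℤ) i = (x : GolayPt → ℤ) (σ.symm i) := fun i => by
    rw [hx', hg1, permHom_apply]
  have hba : ∀ i, b i ≠ 0 ↔ a (σ.symm i) ≠ 0 := by
    intro i
    have : i ∈ support₂ b ↔ σ.symm i ∈ support₂ a := by
      rw [← hσo, mem_image]
      exact ⟨fun ⟨j, hj, e⟩ => by rw [← e, Equiv.symm_apply_apply]; exact hj,
        fun h => ⟨_, h, Equiv.apply_symm_apply σ i⟩⟩
    simpa [support₂] using this
  have hxb : ∀ i, (b i = 0 ∧ (x' : GolayPt → ℤ) i = 0) ∨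
      (b i ≠ 0 ∧ ((x' : GolayPt → ℤ) i = 2 ∨ (x' : GolayPt → ℤ) i = -2)) := by
    intro i
    rw [hx'i]
    rcases hxs (σ.symm i) with ⟨h1, h2⟩ | ⟨h1, h2⟩
    · exact Or.inl ⟨by by_contra h; exact (hba i).mp h h1, h2⟩
    · exact Or.inr ⟨(hba i).mpr h1, h2⟩
  let s : GolayPt → ZMod 2 :=
    fun i => if (x' : GolayPt → ℤ) i = (y : GolayPt → ℤ) i then 0 else 1
  have hev : ∑ i, b i * s i = 0 := by
    obtain ⟨m, hp, hsx, -⟩ := mem_leech.mp x'.2
    obtain ⟨n, hp', hsy, -⟩ := mem_leech.mp y.2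
    obtain ⟨j, hj⟩ : ∃ j, b j ≠ 0 := by
      by_contra hc
      push Not at hc
      rw [show b = 0 from funext hc, hammingNorm_zero] at hb8
      omega
    have e1 := hp j
    have e2 := hp' j
    have hxj := hxb j
    have hyj := hys j
    simp only [hj, false_and, false_or, not_false_eq_true, true_and, ne_eq] at hxj hyj
    have hterm : ∀ i, 8 ∣ ((x' : GolayPt → ℤ) i - (y : GolayPt → ℤ) i)
        - 4 * ((b i).val : ℤ) * ((s i).val : ℤ) := by
      intro i
      rcases hxb i with ⟨hb0, hx0'⟩ | ⟨hb1, hx2⟩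
      · rcases hys i with ⟨-, hy0'⟩ | ⟨hbne, -⟩
        · rw [hx0', hy0', hb0]; simp
        · exact absurd hb0 hbne
      · rcases hys i with ⟨hb0, -⟩ | ⟨-, hy2⟩
        · exact absurd hb0 hb1
        · rcases zmod2_cases (b i) with hb' | hb'
          · exact absurd hb' hb1
          · rcases hx2 with h | h <;> rcases hy2 with h' | h' <;>
              simp only [s, h, h', hb'] <;> decide
    have hsum := dvd_sum fun i (_ : i ∈ (univ : Finset GolayPt)) => hterm i
    simp only [sum_sub_distrib, mul_assoc, ← mul_sum, sum_val_mul] at hsum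
    rw [dot2_eq, ZMod.natCast_eq_zero_iff]
    rcases hxj with h | h <;> rcases hyj with h' | h' <;> rw [h] at e1 <;> rw [h'] at e2 <;> omega
  obtain ⟨w, hw, hws⟩ := exists_code_octad hb8 hb s hev
  refine ⟨signEl ⟨w, hw⟩ * g1, stdGrp.mul_mem (signEl_mem_std _) (permHom_mem_std _),
    Subtype.ext (funext fun i => ?_)⟩
  rw [mul_smul, ← hx', signEl_coord]
  rcases hxb i with ⟨hb0, hx0'⟩ | ⟨hb1, hx2⟩
  · rcases hys i with ⟨-, hy0'⟩ | ⟨hbne, -⟩
    · rw [hx0', hy0']; simp
    · exact absurd hb0 hbne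
  · rcases hys i with ⟨hb0, -⟩ | ⟨-, hy2⟩
    · exact absurd hb0 hb1
    · show (if w i ≠ 0 then -(x' : GolayPt → ℤ) i else (x' : GolayPt → ℤ) i) = _
      simp only [hws i hb1, s]
      by_cases he : (x' : GolayPt → ℤ) i = (y : GolayPt → ℤ) i
      · simp [he]
      · rw [if_neg he, if_pos (by decide)]; omega

end H95
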