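import Cfsg.Agent.H95.McLSimple
import Cfsg.Agent.H95.OutSwap
import Cfsg.Agent.H87.MathieuCert
import Cfsg.Agent.H87.DataM22

/-!
The 2-fusion system of McLaughlin's group: a Sylow 2-subgroup lies in `M22`, and the fixed point
numbers used by the certificate of `M22` are traces on the Leech lattice, so they are kept by all
conjugations in the isometry group.
-/

set_option autoImplicit false

namespace H95.McLFusion

open Cfsg Finset

section General

variable {M G : Type*} [Group M] [Group G]

theorem noClosed_map (f : M →* G) (hf : Function.Injective f) {K : Subgroup M}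
    (h : H87.NoClosedSubgroup K) : H87.NoClosedSubgroup (K.map f) := by
  intro T hT hcl
  have hTe : (T.comap f).map f = T :=
    Subgroup.map_comap_eq_self (hT.trans (Subgroup.map_le_range f K))
  rcases h (T.comap f)
    (fun x hx => (Subgroup.mem_map_iff_mem hf).mp (hT hx))
    (fun x hx g hgx => by
      show f (g * x * g⁻¹) ∈ T
      rw [map_mul, map_mul, map_inv]
      refine hcl (f x) hx (f g) ?_
      simpa using Subgroup.mem_map_of_mem f hgx) with h1 | h1
  · left; rw [← hTe, h1, Subgroup.map_bot]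
  · right; rw [← hTe, h1]

theorem oddNormalizer_map (e : M ≃* G) {S : Subgroup M} (h : H87.OddNormalizerTrivial S) :
    H87.OddNormalizerTrivial (S.map e.toMonoidHom) := by
  intro g hg n hn hgn x hx
  rw [Subgroup.mem_map_equiv] at hx
  have hg' : e.symm g ∈ Subgroup.normalizer (S : Set M) := by
    rw [Subgroup.mem_normalizer_iff] at hg ⊢
    intro z
    have h1 := hg (e z)
    simp only [Subgroup.mem_map_equiv, map_mul, map_inv, MulEquiv.symm_apply_apply] at h1
    exact h1
  have h2 := h _ hg' n hn (by rw [← map_pow, hgn, map_one]) _ hx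
  apply e.symm.injective
  simpa using h2

end General

section Trace

/-- a frame of pairwise orthogonal vectors of norm 64 gives the fixed points of a permutation -/
theorem sum_frame (σ : M24) (f : GolayPt → leechLattice)
    (hf : ∀ i j, ldot (f i) (f j) = if i = j then 64 else 0) :
    ∑ i, ldot (permHom σ • f i) (f i) = 64 * (H87.fixS σ.1 : ℤ) := by
  let F : Matrix GolayPt GolayPt ℚ := Matrix.of fun i a => ((f i : GolayPt → ℤ) a : ℚ)
  have h1 : ((1 / 64 : ℚ) • F) * F.transpose = 1 := by
    ext i j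
    rw [Matrix.smul_mul, Matrix.smul_apply, Matrix.mul_apply]
    have e : ∑ a, F i a * F.transpose a j = ((ldot (f i) (f j) : ℤ) : ℚ) := by
      simp only [F, Matrix.of_apply, Matrix.transpose_apply, ldot, dotInt, Int.cast_sum, Int.cast_mul]
    rw [e, hf, Matrix.one_apply, smul_eq_mul]
    split <;> simp
  have h2 := mul_eq_one_comm.mp h1
  have hcol : ∀ a b : GolayPt,
      ∑ i, (f i : GolayPt → ℤ) a * (f i : GolayPt → ℤ) b = if a = b then 64 else 0 := by
    intro a b
    have e := congrFun (congrFun h2 a) b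
    rw [Matrix.mul_smul, Matrix.smul_apply, Matrix.mul_apply, Matrix.one_apply, smul_eq_mul] at e
    have e' : ((∑ i, (f i : GolayPt → ℤ) a * (f i : GolayPt → ℤ) b : ℤ) : ℚ)
        = ((if a = b then 64 else 0 : ℤ) : ℚ) := by
      push_cast
      simp only [F, Matrix.of_apply, Matrix.transpose_apply] at e
      split <;> rename_i hab <;> simp only [hab, if_true, if_false] at e ⊢ <;> linarith
    exact_mod_cast e'
  simp only [ldot, dotInt, permHom_apply]
  rw [sum_comm]
  simp only [hcol]
  rw [← sum_filter, sum_const, H87.fixS]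
  rw [show (univ.filter fun a : GolayPt => σ.1.symm a = a) = univ.filter fun a => σ.1 a = a from
    filter_congr fun a _ => by rw [Equiv.symm_apply_eq, eq_comm]]
  rw [nsmul_eq_mul, mul_comm]

theorem eight_orth (i j : GolayPt) : ldot (eight i) (eight j) = if i = j then 64 else 0 := by
  split_ifs with h
  · rw [h, eight_norm]
  · rw [ldot_eight]; simp [eight, h, Ne.symm h]

/-- conjugate permutations in the isometry group fix equally many points -/
theorem fixS_of_conj {σ τ : M24} {g : Co0} (h : g * permHom σ * g⁻¹ = permHom τ) :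
    H87.fixS τ.1 = H87.fixS σ.1 := by
  have h1 := sum_frame τ eight eight_orth
  have h2 := sum_frame σ (fun i => g⁻¹ • eight i)
    (fun i j => by rw [co0_dot]; exact eight_orth i j)
  have e : ∀ i, ldot (permHom τ • eight i) (eight i)
      = ldot (permHom σ • g⁻¹ • eight i) (g⁻¹ • eight i) := by
    intro i
    rw [← h, mul_smul, mul_smul]
    conv_lhs => rw [show eight i = g • g⁻¹ • eight i from (smul_inv_smul g _).symm]
    rw [co0_dot, inv_smul_smul]
  rw [sum_congr rfl fun i _ => e i] at h1
  have := h1.symm.trans h2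
  omega

end Trace

/-- `M22` into the joint stabiliser -/
noncomputable def iota : Spor.M22 →* pvU.group :=
  pvU.hom.comp
    { toFun := fun σ => ⟨⟨σ.1, σ.2.1.1⟩, σ.2.1.2, σ.2.2⟩
      map_one' := rfl
      map_mul' := fun _ _ => rfl }

theorem iota_injective : Function.Injective iota := fun σ τ h =>
  Subtype.ext (congrArg (fun x : M24 => x.1) (congrArg Subtype.val (pvU.hom_injective h)))

theorem iota_val (σ : Spor.M22) : (iota σ : Co0) = permHom ⟨σ.1, σ.2.1.1⟩ := rfl

theorem shape_of_conj {σ τ : Spor.M22} {g : pvU.group} (h : g * iota σ * g⁻¹ = iota τ) :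
    H87.shapeS τ.1 = H87.shapeS σ.1 := by
  have key : ∀ σ τ : Spor.M22, g * iota σ * g⁻¹ = iota τ → H87.fixS τ.1 = H87.fixS σ.1 :=
    fun σ τ h => fixS_of_conj (g := g.1) (σ := ⟨σ.1, σ.2.1.1⟩) (τ := ⟨τ.1, τ.2.1.1⟩)
      (by rw [← iota_val, ← iota_val, ← h]; rfl)
  have h2 : g * iota (σ * σ) * g⁻¹ = iota (τ * τ) := by rw [map_mul, map_mul, ← h]; group
  have h4 : g * iota (σ * σ * (σ * σ)) * g⁻¹ = iota (τ * τ * (τ * τ)) := by
    rw [map_mul iota (σ * σ), map_mul iota (τ * τ), ← h2]; group
  have e1 := key σ τ h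
  have e2 := key _ _ h2
  have e4 := key _ _ h4
  simp only [Subgroup.coe_mul] at e2 e4
  simp [H87.shapeS, e1, e2, e4]

theorem subgroup_ok : H87.subgroupOK H87.mem22 H87.dataM22 = true := by decide +kernel

theorem fixed_ok : H87.fixedOK H87.dataM22 = true := by decide +kernel

theorem closed_ok : H87.closedOK H87.mem22 H87.dataM22 = true := by decide +kernel

section Fixed

variable {M : Subgroup (Equiv.Perm GolayPt)} [Finite M] {K : Subgroup M}

/-- an automorphism of odd order keeping the colours is trivial -/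
theorem eq_one_of_colours {d : H87.SylowData} (hKdef : K = H87.genOf M d.bs)
    (hL : H87.Lists K (H87.buildL d.bs)) (hc : Nat.card K = 2 ^ d.bs.length)
    (h : H87.fixedOK d = true) (φ : MulAut K) {n : ℕ} (hn : Odd n) (hφn : φ ^ n = 1)
    (hcol : ∀ (r : H87.Round) (σ : K), H87.colS K r (σ : M).1 →
      H87.colS K r ((φ σ : K) : M).1) : φ = 1 := by
  haveI : Fact (Nat.Prime 2) := ⟨Nat.prime_two⟩
  have hc' : Nat.card K = (H87.buildL d.bs).length := by rw [hc, H87.buildL_length]
  simp only [H87.fixedOK, Bool.and_eq_true, List.all_eq_true] at h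
  obtain ⟨hsq, hrounds⟩ := h
  let Good : List ℕ → Prop := fun V =>
    ∀ p ∈ V, ∃ σ : K, σ ∈ H87.fixMod φ ∧ H90.Repr (σ : M).1 p
  have hfold : ∀ (l V : List ℕ), Good l → Good V → Good (l.foldl H87.extL V) := by
    intro l
    induction l with
    | nil => intro V _ hV; exact hV
    | cons b l ihl =>
      intro V hl hV
      rw [List.foldl_cons]
      refine ihl _ (fun c hc => hl c (List.mem_cons_of_mem _ hc)) (fun p hp => ?_)
      obtain ⟨β, hβ, hβr⟩ := hl b List.mem_cons_self
      rcases H87.mem_extL.1 hp with hp | ⟨a, ha, rfl⟩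
      · exact hV p hp
      · obtain ⟨α, hα, hαr⟩ := hV a ha
        exact ⟨α * β, mul_mem hα hβ, hαr.mul hβr⟩
  have hstart : Good (H87.buildL (d.sq.map H87.sqProd)) := by
    refine hfold _ _ ?_ fun p hp => ⟨1, one_mem _, List.mem_singleton.1 hp ▸ H90.repr_one⟩
    intro b hb
    obtain ⟨as, has, rfl⟩ := List.mem_map.1 hb
    have hprod : ∀ (l : List ℕ) (acc : ℕ), (∀ a ∈ l, (H87.buildL d.bs).elem a = true) →
        (∃ σ : K, σ ∈ H87.sqSubgroup K ∧ H90.Repr (σ : M).1 acc) →
        ∃ σ : K, σ ∈ H87.sqSubgroup K ∧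
          H90.Repr (σ : M).1 (l.foldl (fun acc a => H90.compN acc (H90.compN a a)) acc) := by
      intro l
      induction l with
      | nil => intro acc _ h; exact h
      | cons a l ihl =>
        intro acc hl hacc
        rw [List.foldl_cons]
        refine ihl _ (fun c hc => hl c (List.mem_cons_of_mem _ hc)) ?_
        obtain ⟨σ, hσ, hσr⟩ := hacc
        obtain ⟨α, hα, hαr⟩ := hL.1 a (List.elem_iff.1 (hl a List.mem_cons_self))
        refine ⟨σ * (⟨α, hα⟩ * ⟨α, hα⟩), mul_mem hσ ?_, hσr.mul (hαr.mul hαr)⟩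
        rw [← sq]
        exact H87.sq_mem_sqSubgroup _
    obtain ⟨σ, hσ, hσr⟩ := hprod as H90.idN (fun a ha => hsq as has a ha)
      ⟨1, one_mem _, H90.repr_one⟩
    exact ⟨σ, H87.sqSubgroup_le_fixMod φ hσ, hσr⟩
  cases hV' : H87.roundsOK (H87.buildL d.bs) d.rounds (H87.buildL (d.sq.map H87.sqProd)) with
  | none => rw [hV'] at hrounds; exact Bool.noConfusion hrounds
  | some V' =>
    rw [hV'] at hrounds
    simp only [List.all_eq_true] at hrounds
    have hfix := H87.roundsOK_spec hL hc' φ hn hφn hcol _ _ _ hV' hstart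
    refine H87.eq_one_of_fixMod_eq_top (IsPGroup.of_card hc) hn hφn (eq_top_iff.2 fun y _ => ?_)
    have hle : K ≤ (H87.fixMod φ).map K.subtype := by
      conv_lhs => rw [hKdef, H87.genOf]
      rw [Subgroup.closure_le]
      rintro σ ⟨b, hb, hσ⟩
      obtain ⟨τ, hτ, hτr⟩ := hfix b (List.elem_iff.1 (hrounds b hb))
      exact ⟨τ, hτ, H87.repr_unique hτr hσ⟩
    obtain ⟨τ, hτ, he⟩ := hle y.2
    rwa [show y = τ from Subtype.ext he.symm]

end Fixed

/-- the Sylow subgroup of `M22` -/
noncomputable abbrev kSyl : Subgroup Spor.M22 := H87.genOf Spor.M22 H87.dataM22.bs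

theorem lists_kSyl : H87.Lists kSyl (H87.buildL H87.dataM22.bs) ∧
    Nat.card kSyl = 2 ^ H87.dataM22.bs.length :=
  H87.subgroup_of_ok (fun _ h => H87.exists_of_mem22 h) subgroup_ok

/-- its image -/
noncomputable abbrev mSyl : Subgroup pvU.group := kSyl.map iota

theorem card_mSyl : Nat.card mSyl = 128 := by
  rw [← Nat.card_congr (kSyl.equivMapOfInjective iota iota_injective).toEquiv, lists_kSyl.2]
  rfl

theorem oddNormalizer_mSyl : H87.OddNormalizerTrivial mSyl := by
  intro g hg n hn hgn x hx
  let e := kSyl.equivMapOfInjective iota iota_injective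
  let ψ : MulAut mSyl := mSyl.normalizerMonoidHom ⟨g, hg⟩
  let φ : MulAut kSyl := MulAut.congr e.symm ψ
  have hspec : ∀ σ : kSyl, g * iota σ.1 * g⁻¹ = iota (φ σ).1 := by
    intro σ
    have h1 : e (φ σ) = ψ (e σ) := by simp [φ, MulAut.congr]
    have h2 := congrArg (fun y : mSyl => (y : pvU.group)) h1
    simp only [e, Subgroup.coe_equivMapOfInjective_apply] at h2
    rw [h2]; rfl
  have hφn : φ ^ n = 1 := by
    show MulAut.congr e.symm ψ ^ n = 1
    rw [← map_pow, ← map_pow mSyl.normalizerMonoidHom,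
      show (⟨g, hg⟩ : Subgroup.normalizer (mSyl : Set pvU.group)) ^ n = 1 from
        Subtype.ext (by rw [SubgroupClass.coe_pow]; exact hgn), map_one, map_one]
  obtain ⟨hL, hc⟩ := lists_kSyl
  have hφ : φ = 1 := by
    refine eq_one_of_colours rfl hL hc fixed_ok φ hn hφn ?_
    rintro r σ ⟨h1, h2⟩
    refine ⟨(shape_of_conj (hspec σ)).trans h1, h2.imp_right fun h3 => ?_⟩
    rw [← h3]
    refine (Nat.card_congr (Equiv.subtypeEquiv φ.toEquiv fun τ => ?_)).symm
    show H87.shapeS (τ : Spor.M22).1 = _ ∧ Commute (σ : Spor.M22).1 (τ : Spor.M22).1 ↔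
      H87.shapeS (φ τ : Spor.M22).1 = _ ∧ Commute (φ σ : Spor.M22).1 (φ τ : Spor.M22).1
    rw [shape_of_conj (hspec τ)]
    refine and_congr_right fun _ => ?_
    have hcc : ∀ a b : kSyl, Commute (a : Spor.M22).1 (b : Spor.M22).1 ↔ Commute a b := by
      intro a b
      simp only [commute_iff_eq, Subtype.ext_iff, Subgroup.coe_mul]
    rw [hcc, hcc, ← commute_map_iff φ.injective]
  obtain ⟨σ, hσ, rfl⟩ := hx
  rw [hspec ⟨σ, hσ⟩, hφ]; rfl

theorem noClosed_mSyl : H87.NoClosedSubgroup mSyl :=
  noClosed_map iota iota_injective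
    (H87.noClosedSubgroup_of_ok (fun _ h => H87.exists_of_mem22 h) rfl lists_kSyl.1 lists_kSyl.2
      closed_ok)

theorem mcl_two_fusion_simple {G : Type*} [Group G] [Finite G] (hG : Spor.IsoMcL G)
    (S : Sylow 2 G) : (groupFusionSystem (S : Subgroup G)).IsSimple 2 := by
  haveI : Finite Co0 := co0_finite
  obtain ⟨e0⟩ := hG
  let e : pvU.group ≃* G := (e0.trans (infStabPair pvU)).symm
  have hcard : Nat.card (mSyl.map e.toMonoidHom) = 128 := by
    rw [← Nat.card_congr (mSyl.equivMapOfInjective e.toMonoidHom e.injective).toEquiv, card_mSyl]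
  refine H87.isSimple_two_of_sylow (mSyl.map e.toMonoidHom)
    (IsPGroup.of_card (n := 7) (by rw [hcard]; norm_num)) ?_ ?_
    (oddNormalizer_map e oddNormalizer_mSyl) (noClosed_map e.toMonoidHom e.injective noClosed_mSyl) S
  · have h := Subgroup.card_mul_index (mSyl.map e.toMonoidHom)
    rw [hcard, ← Nat.card_congr e.toEquiv, card_mcl_model] at h
    have : (mSyl.map e.toMonoidHom).index = 7016625 := by omega
    exact this ▸ ⟨3508312, by norm_num⟩
  · intro h; rw [h, Subgroup.card_bot] at hcard; norm_num at hcard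

end H95.McLFusion
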