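import Cfsg.Agent.H95.Orbits
import Cfsg.Agent.H95.Co3Simple
import Cfsg.Agent.H95.FrameOrbits

/-!
The 275 points of the McLaughlin configuration in coordinates.
-/

set_option autoImplicit false

namespace H95

open Cfsg Finset

/-- `x` with `u - x` minimal and product `16` with `v` -/
def mclSet (u v : leechLattice) : Set leechLattice :=
  {x | ldot x x = 32 ∧ ldot u x = 24 ∧ ldot v x = 16}

/-- `(5, 1²³)` -/
def uBase : leechLattice := -Spor.leechV

theorem uBase_none : (uBase : GolayPt → ℤ) none = 5 := rfl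
theorem uBase_some (x : ZMod 23) : (uBase : GolayPt → ℤ) (some x) = 1 := rfl

theorem uBase_norm : ldot uBase uBase = 48 := by
  rw [norm_const uBase_none uBase_some]; norm_num

theorem uBase_dot (x : leechLattice) :
    ldot uBase x = 4 * (x : GolayPt → ℤ) none + ∑ i, (x : GolayPt → ℤ) i := by
  rw [ldot_comm, dot_const uBase_none uBase_some, sum_option]; ring

theorem uBase_vBase : ldot uBase vBase = 24 := by
  rw [ldot_vBase, uBase_none, uBase_some]; norm_num

/-- bit test of a mask at a point -/
def hasPt (m : ℕ) (p : GolayPt) : Bool := m.testBit (H90.idx p).val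

theorem mem_setOf'_iff {m : ℕ} {p : GolayPt} : p ∈ H90.setOf' m ↔ hasPt m p = true := H90.mem_setOf'

/-- the masks of octads -/
def octMasks : List ℕ := (H90.wtList 8).map H90.encode

theorem octMask_code {m : ℕ} (h : m ∈ octMasks) : H90.wordOf m ∈ golayCode := by
  obtain ⟨n, -, rfl⟩ := List.mem_map.mp h
  exact H90.wordOf_encode_mem n

theorem exists_mask {a : GolayPt → ZMod 2} (ha : a ∈ golayCode) (h8 : hammingNorm a = 8) :
    ∃ m ∈ octMasks, ∀ i, hasPt m i = true ↔ a i ≠ 0 := by
  have hs : support₂ a ∈ wordsOfWeight (golayCode : Set (GolayPt → ZMod 2)) 8 :=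
    ⟨⟨a, ha, rfl⟩, by rw [← hammingNorm_eq_support₂]; exact h8⟩
  obtain ⟨n, hn, hk, e⟩ := H90.mem_wordsOfWeight_iff.mp hs
  refine ⟨H90.encode n, List.mem_map.mpr ⟨n, H90.mem_wtList.mpr ⟨hn, hk⟩, rfl⟩, fun i => ?_⟩
  have : i ∈ support₂ a ↔ hasPt (H90.encode n) i = true := by
    rw [e]; exact mem_setOf'_iff
  simpa [support₂] using this.symm

/-- `4 e + 4 eⱼ` -/
def vecA (j : GolayPt) : GolayPt → ℤ := fun i => if i = none ∨ i = j then 4 else 0

/-- `3` at the extra point, `-1` on the rest of the octad, `1` elsewhere -/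
def vecB (m : ℕ) : GolayPt → ℤ := fun i => if i = none then 3 else if hasPt m i then -1 else 1

/-- twice an octad -/
def vecC (m : ℕ) : GolayPt → ℤ := fun i => if hasPt m i then 2 else 0

/-- the list of the points of the configuration -/
def listA : List (GolayPt → ℤ) :=
  ((List.range 22).map fun n => vecA (some ((n + 1 : ℕ) : ZMod 23)))

/-- octads through the extra point missing `0` -/
def masksB : List ℕ := octMasks.filter fun m => hasPt m none && !hasPt m (some 0)

/-- octads through the extra point and `0` -/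
def masksC : List ℕ := octMasks.filter fun m => hasPt m none && hasPt m (some 0)

/-- all 275 -/
def mclList : List (GolayPt → ℤ) := listA ++ (masksB.map vecB ++ masksC.map vecC)

/-- the arithmetic part of membership -/
def pointOK (x : GolayPt → ℤ) (m : ℤ) : Bool :=
  decide (sqNorm x = 32 ∧ 4 * x none + ∑ i, x i = 24 ∧ x none + x (some 0) = 4 ∧
    ((∑ i, x i) - 4 * m) % 8 = 0)

theorem pointOK_all : (listA.all fun x => pointOK x 0) = true ∧
    ((masksB.map vecB).all fun x => pointOK x 1) = true ∧
    ((masksC.map vecC).all fun x => pointOK x 0) = true := by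
  refine ⟨?_, ?_, ?_⟩ <;> decide +kernel

theorem mem_mclSet {x : leechLattice} {m : ℤ} (h : pointOK (x : GolayPt → ℤ) m = true) :
    x ∈ mclSet uBase vBase := by
  simp only [pointOK, decide_eq_true_eq] at h
  refine ⟨by rw [← sqNorm_eq_ldot]; exact h.1, by rw [uBase_dot]; exact h.2.1, ?_⟩
  rw [ldot_comm, ldot_vBase]; linarith [h.2.2.1]

theorem mclList_sub {x : GolayPt → ℤ} (hx : x ∈ mclList) :
    ∃ y ∈ mclSet uBase vBase, (y : GolayPt → ℤ) = x := by
  simp only [mclList, List.mem_append] at hx
  obtain ⟨hA, hB, hC⟩ := pointOK_all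
  rw [List.all_eq_true] at hA hB hC
  rcases hx with hx | hx | hx
  · have hok := hA x hx
    obtain ⟨n, hn, rfl⟩ := List.mem_map.mp hx
    have hL : vecA (some ((n + 1 : ℕ) : ZMod 23)) ∈ leechLattice := by
      simp only [pointOK, decide_eq_true_eq] at hok
      refine mem_of_form (a := 0) (z := fun i => vecA (some ((n + 1 : ℕ) : ZMod 23)) i / 4) (m := 0)
        (zero_mem _) (fun i => ?_) (Int.dvd_of_emod_eq_zero hok.2.2.2)
      simp only [vecA, Pi.zero_apply, ZMod.val_zero, Nat.cast_zero]
      split <;> norm_num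
    exact ⟨⟨_, hL⟩, mem_mclSet (x := ⟨_, hL⟩) hok, rfl⟩
  · have hok := hB x hx
    obtain ⟨k, hk, rfl⟩ := List.mem_map.mp hx
    have hk' := (List.mem_filter.mp hk)
    have hn : hasPt k none = true := by
      have := hk'.2; rw [Bool.and_eq_true] at this; exact this.1
    have hL : vecB k ∈ leechLattice := by
      simp only [pointOK, decide_eq_true_eq] at hok
      refine mem_of_form (a := H90.wordOf k)
        (z := fun i => if i = none then 0 else if hasPt k i then -1 else 0) (m := 1)
        (octMask_code hk'.1) (fun i => ?_) (Int.dvd_of_emod_eq_zero hok.2.2.2)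
      have hw : H90.wordOf k i = if hasPt k i then 1 else 0 := rfl
      simp only [vecB, hw]
      by_cases hi : i = none
      · subst hi; simp [hn]; decide
      · by_cases hb : hasPt k i <;> simp [hi, hb] <;> decide
    exact ⟨⟨_, hL⟩, mem_mclSet (x := ⟨_, hL⟩) hok, rfl⟩
  · have hok := hC x hx
    obtain ⟨k, hk, rfl⟩ := List.mem_map.mp hx
    have hk' := (List.mem_filter.mp hk)
    have hL : vecC k ∈ leechLattice := by
      simp only [pointOK, decide_eq_true_eq] at hok
      refine mem_of_form (a := H90.wordOf k) (z := fun _ => 0) (m := 0)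
        (octMask_code hk'.1) (fun i => ?_) (Int.dvd_of_emod_eq_zero hok.2.2.2)
      have hw : H90.wordOf k i = if hasPt k i then 1 else 0 := rfl
      simp only [vecC, hw]
      by_cases hb : hasPt k i <;> simp [hb] <;> decide
    exact ⟨⟨_, hL⟩, mem_mclSet (x := ⟨_, hL⟩) hok, rfl⟩

theorem mclSet_shape {x : leechLattice} (hx : x ∈ mclSet uBase vBase) :
    (∃ j, j ≠ none ∧ j ≠ some 0 ∧ (x : GolayPt → ℤ) = vecA j) ∨
      (∃ m ∈ masksB, (x : GolayPt → ℤ) = vecB m) ∨ ∃ m ∈ masksC, (x : GolayPt → ℤ) = vecC m := by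
  classical
  obtain ⟨hn, hu, hv⟩ := hx
  rw [uBase_dot] at hu
  rw [ldot_comm, ldot_vBase] at hv
  have hn' : sqNorm (x : GolayPt → ℤ) = 32 := by rw [sqNorm_eq_ldot]; exact hn
  rcases min_cases hn with ⟨a, b, hab, s, t, hs, ht, rfl⟩ | ⟨-, k, hk⟩ | ⟨-, hodd⟩
  · left
    have e : ∀ i, (quad a b hab s t hs ht : GolayPt → ℤ) i
        = (if i = a then 4 * s else 0) + if i = b then 4 * t else 0 := fun i => by
      rw [show (quad a b hab s t hs ht : GolayPt → ℤ)
        = Pi.single a (4 * s) + Pi.single b (4 * t) from rfl, Pi.add_apply, Pi.single_apply,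
        Pi.single_apply]
    simp only [e, sum_add_distrib, sum_ite_eq', mem_univ, if_true] at hu hv
    have hfin : ∀ j, s = 1 → t = 1 → ((a = none ∧ b = j) ∨ (b = none ∧ a = j)) →
        (quad a b hab s t hs ht : GolayPt → ℤ) = vecA j := by
      rintro j rfl rfl hj
      funext i
      rw [e]
      simp only [vecA]
      rcases hj with ⟨rfl, rfl⟩ | ⟨rfl, rfl⟩
      · by_cases h1 : i = none
        · subst h1; simp [hab]
        · by_cases h2 : i = b <;> simp [h1, h2, hab.symm]
      · by_cases h1 : i = none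
        · subst h1; simp [hab.symm]
        · by_cases h2 : i = a <;> simp [h1, h2, hab]
    by_cases ha : a = none
    · subst ha
      have hb0 : b ≠ none := Ne.symm hab
      simp only [if_true, if_neg (Ne.symm hb0)] at hu
      have hst : s = 1 ∧ t = 1 := by omega
      refine ⟨b, hb0, ?_, hfin b hst.1 hst.2 (Or.inl ⟨rfl, rfl⟩)⟩
      rintro rfl
      simp [hst.1, hst.2] at hv
    · by_cases hb : b = none
      · subst hb
        simp only [if_true, if_neg (Ne.symm ha)] at hu
        have hst : s = 1 ∧ t = 1 := by omega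
        refine ⟨a, ha, ?_, hfin a hst.1 hst.2 (Or.inr ⟨rfl, rfl⟩)⟩
        rintro rfl
        simp [hst.1, hst.2] at hv
      · simp only [if_neg (Ne.symm ha), if_neg (Ne.symm hb)] at hu
        omega
  · right; right
    obtain ⟨a, ha, ha8, hs⟩ := octad_shape x.2 hn' hk
    have hle : ∀ i, (x : GolayPt → ℤ) i ≤ 2 * ((a i).val : ℤ) := by
      intro i
      rcases hs i with ⟨e1, e2⟩ | ⟨e1, e2⟩
      · rw [e1, e2]; simp
      · rcases zmod2_cases (a i) with h | h
        · exact absurd h e1
        · rw [h, show (((1 : ZMod 2).val : ℕ) : ℤ) = 1 from rfl]; omega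
    have hbd : ∀ i, (x : GolayPt → ℤ) i ≤ 2 := fun i => by
      rcases hs i with ⟨e1, e2⟩ | ⟨e1, e2⟩ <;> omega
    have h0 : (x : GolayPt → ℤ) none = 2 ∧ (x : GolayPt → ℤ) (some 0) = 2 := by
      have := hbd none; have := hbd (some 0); omega
    have hS : ∑ i, (x : GolayPt → ℤ) i = ∑ i, 2 * ((a i).val : ℤ) := by
      rw [← mul_sum, sum_val, ha8]; omega
    have heq := (sum_eq_sum_iff_of_le fun i _ => hle i).mp hS
    obtain ⟨m, hm, hmi⟩ := exists_mask ha ha8
    have hpt : ∀ i, (x : GolayPt → ℤ) i = 2 → hasPt m i = true := fun i hi => (hmi i).mpr fun h => by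
      have := hle i; rw [h] at this; simp [hi] at this
    refine ⟨m, List.mem_filter.mpr ⟨hm, by rw [hpt _ h0.1, hpt _ h0.2]; rfl⟩, funext fun i => ?_⟩
    rw [heq i (mem_univ i)]
    simp only [vecC]
    rcases zmod2_cases (a i) with h | h
    · have : hasPt m i ≠ true := fun hh => (hmi i).mp hh h
      simp [h, this]
    · have : hasPt m i = true := (hmi i).mpr (by rw [h]; decide)
      rw [h, if_pos this]; rfl
  · right; left
    obtain ⟨l, hl, hrest⟩ := odd_shape x.2 hn' hodd
    have hl' : l = none ∧ (x : GolayPt → ℤ) none = 3 ∧ (x : GolayPt → ℤ) (some 0) = 1 ∨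
        l = some 0 ∧ (x : GolayPt → ℤ) none = 1 ∧ (x : GolayPt → ℤ) (some 0) = 3 := by
      by_cases h1 : l = none
      · subst h1; left; have := hrest (some 0) (by simp); refine ⟨rfl, ?_⟩; omega
      · have h1' := hrest none (Ne.symm h1)
        by_cases h2 : l = some 0
        · subst h2; right; refine ⟨rfl, ?_⟩; omega
        · have := hrest (some 0) (Ne.symm h2); omega
    obtain ⟨mm, hmm, a, ha, z, hz, -⟩ := exists_form x.2
    have hm1 : mm = 1 := by have := hz none; omega
    subst hm1
    have hai : ∀ i, a i ≠ 0 ↔ (x : GolayPt → ℤ) i % 4 = 3 := by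
      intro i
      have := hz i
      rcases zmod2_cases (a i) with h | h <;> rw [h] at this ⊢ <;>
        simp [show ((1 : ZMod 2).val) = 1 from rfl] at this ⊢ <;> omega
    have hval : ∀ i, i ≠ l → (x : GolayPt → ℤ) i = 1 - 2 * ((a i).val : ℤ) := by
      intro i hi
      have h' := hrest i hi
      have := hai i
      rcases zmod2_cases (a i) with h | h <;> rw [h] at this ⊢ <;>
        simp [show ((1 : ZMod 2).val) = 1 from rfl] at this ⊢ <;> omega
    have hal : a l ≠ 0 := (hai l).mpr (by rcases hl' with ⟨rfl, h, -⟩ | ⟨rfl, -, h⟩ <;> rw [h] <;> rfl)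
    have hx3 : (x : GolayPt → ℤ) l = 3 := by
      rcases hl' with ⟨rfl, h, -⟩ | ⟨rfl, -, h⟩ <;> exact h
    have hS : ∑ i, (x : GolayPt → ℤ) i = 28 - 2 * (hammingNorm a : ℤ) := by
      have e : ∀ i, (x : GolayPt → ℤ) i = (1 - 2 * ((a i).val : ℤ)) + if i = l then 4 else 0 := by
        intro i
        by_cases hi : i = l
        · subst hi
          rw [hx3]
          rcases zmod2_cases (a i) with h | h
          · exact absurd h hal
          · simp [h, show ((1 : ZMod 2).val) = 1 from rfl]
        · rw [if_neg hi, add_zero]; exact hval i hi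
      rw [sum_congr rfl (fun i _ => e i), sum_add_distrib, sum_ite_eq', if_pos (mem_univ l),
        sum_sub_distrib, sum_const, card_univ, show Fintype.card GolayPt = 24 from rfl, ← mul_sum,
        sum_val]
      norm_num; ring
    rw [hS] at hu
    rcases hl' with ⟨rfl, e1, e2⟩ | ⟨rfl, e1, e2⟩
    · have ha8 : hammingNorm a = 8 := by omega
      obtain ⟨m, hm, hmi⟩ := exists_mask ha ha8
      have h0 : hasPt m (some 0) = false := by
        by_contra h
        have := (hai _).mp ((hmi _).mp (by simpa using h))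
        omega
      have hn0 : hasPt m none = true := (hmi _).mpr hal
      refine ⟨m, List.mem_filter.mpr ⟨hm, by rw [hn0, h0]; rfl⟩, funext fun i => ?_⟩
      simp only [vecB]
      by_cases hi : i = none
      · subst hi; simp [e1]
      · rw [if_neg hi, hval i hi]
        rcases zmod2_cases (a i) with h | h
        · have : hasPt m i ≠ true := fun hh => (hmi i).mp hh h
          simp [h, this]
        · have : hasPt m i = true := (hmi i).mpr (by rw [h]; decide)
          rw [h, if_pos this]; rfl
    · exfalso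
      have h8 := golayOK.like.min8 a ha fun h => hal (by rw [h]; rfl)
      omega

theorem mclSet_mem_list {x : leechLattice} (hx : x ∈ mclSet uBase vBase) :
    (x : GolayPt → ℤ) ∈ mclList := by
  rw [mclList, List.mem_append, List.mem_append]
  rcases mclSet_shape hx with ⟨j, hj1, hj2, e⟩ | ⟨m, hm, e⟩ | ⟨m, hm, e⟩ <;> rw [e]
  · left
    rcases j with _ | y
    · exact absurd rfl hj1
    have hy : y ≠ 0 := fun h => hj2 (by rw [h])
    have hv : 1 ≤ y.val := Nat.one_le_iff_ne_zero.mpr fun h => hy ((ZMod.val_eq_zero y).mp h)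
    refine List.mem_map.mpr ⟨y.val - 1, List.mem_range.mpr (by have := y.val_lt; omega), ?_⟩
    rw [Nat.sub_add_cancel hv, ZMod.natCast_zmod_val]
  · exact Or.inr (Or.inl (List.mem_map.mpr ⟨m, hm, rfl⟩))
  · exact Or.inr (Or.inr (List.mem_map.mpr ⟨m, hm, rfl⟩))

/-- a number attached to a point list entry -/
def vecCode (x : GolayPt → ℤ) : ℕ :=
  (List.range 24).foldl (fun acc i => acc * 16 + (x (H90.pt (Fin.ofNat 24 i)) + 4).toNat) 0

theorem mclList_codes : (mclList.map vecCode).Nodup := by decide +kernel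

theorem mclList_nodup : mclList.Nodup := List.Nodup.of_map _ mclList_codes

/-- a filtered count in the configuration -/
theorem ncard_mcl_filter (p : (GolayPt → ℤ) → Bool) :
    {x : leechLattice | x ∈ mclSet uBase vBase ∧ p (x : GolayPt → ℤ) = true}.ncard
      = (mclList.filter p).length := by
  classical
  rw [← List.toFinset_card_of_nodup (mclList_nodup.filter p),
    ← Set.ncard_image_of_injective _ (Subtype.val_injective (p := (· ∈ leechLattice))),
    ← Set.ncard_coe_finset]
  congr 1
  ext x
  simp only [Set.mem_image, Set.mem_ofPred_eq, List.coe_toFinset, List.mem_filter]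
  constructor
  · rintro ⟨y, ⟨hy, hp⟩, rfl⟩; exact ⟨mclSet_mem_list hy, hp⟩
  · rintro ⟨hx, hp⟩
    obtain ⟨y, hy, rfl⟩ := mclList_sub hx
    exact ⟨y, ⟨hy, hp⟩, rfl⟩

end H95
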