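import Cfsg.Agent.H95.OutCrit

/-!
A criterion for at most one class of outer automorphisms.
-/

set_option autoImplicit false

namespace H95

variable {G : Type*} [Group G]

/-- an adjusted automorphism: fixed on `y`, in one of the admissible states on `x` and `f` -/
theorem exists_adjusted {p q : ℕ} [Fact p.Prime] [Fact q.Prime] [Finite G] (x y f : G) (r : ℕ)
    (hsq : ¬ p ^ 2 ∣ Nat.card G) (hx : orderOf x = p) (hy : orderOf y = q)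
    (hyx : y * x * y⁻¹ = x ^ r)
    (hr : ∀ j < q, (r : ZMod p) ^ j = (r : ZMod p) → j = 1)
    (hcls : ∀ k : ZMod p, k ≠ 0 → ∃ c : ℕ, (r : ZMod p) ^ c * k = 1 ∨ (r : ZMod p) ^ c * k = -1)
    (hfy : f * y = y * f)
    (hN : ∀ g : G, g * x * g⁻¹ ∈ Subgroup.zpowers x → ∃ i j : ℕ, g = x ^ i * y ^ j)
    (hC : ∀ g : G, g * y = y * g → ∃ a b : ℕ, a < q ∧ b < q ∧ g = f ^ a * y ^ b)
    (φ : MulAut G) :
    ∃ (ψ : MulAut G) (k a b : ℕ), ψ⁻¹ * φ ∈ Cfsg.Inn G ∧ (k = 1 ∨ k = p - 1) ∧ a < q ∧ b < q ∧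
      ψ x = x ^ k ∧ ψ y = y ∧ ψ f = f ^ a * y ^ b := by
  have hp := (inferInstance : Fact p.Prime)
  have hq := (inferInstance : Fact q.Prime)
  have hr1 : (r : ZMod p) ≠ 1 := fun h => by
    have := hr 0 hq.out.pos (by rw [pow_zero, h])
    omega
  obtain ⟨g, hg⟩ := exists_conj_zpowers hsq (by rw [MulEquiv.orderOf_eq, hx] : orderOf (φ x) = p) hx
  obtain ⟨k, hk⟩ := mem_powers_iff_mem_zpowers.mpr hg
  set φ₁ : MulAut G := MulAut.conj g * φ with hφ₁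
  have h1x : φ₁ x = x ^ k := hk.symm
  have hk0 : (k : ZMod p) ≠ 0 := fun h0 => by
    have h' : φ₁ x = 1 := by
      rw [h1x, ← pow_zero x]; exact pow_eq_of_zmod hx (by rw [h0, Nat.cast_zero])
    have hx1 : x = 1 := φ₁.injective (h'.trans (map_one φ₁).symm)
    rw [hx1, orderOf_one] at hx
    exact hp.out.one_lt.ne hx
  have h1y : φ₁ y * x ^ k * (φ₁ y)⁻¹ = x ^ (k * r) := by
    rw [← h1x, ← map_inv, ← map_mul, ← map_mul, hyx, map_pow, h1x, ← pow_mul]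
  have hmem : φ₁ y * x * (φ₁ y)⁻¹ ∈ Subgroup.zpowers x := by
    have hxk : x = (x ^ k) ^ ((k : ZMod p)⁻¹).val := by
      conv_lhs => rw [← pow_one x]
      rw [← pow_mul]
      refine pow_eq_of_zmod hx ?_
      rw [Nat.cast_one, Nat.cast_mul, ZMod.natCast_zmod_val, mul_inv_cancel₀ hk0]
    have e1 : φ₁ y * x * (φ₁ y)⁻¹ = (x ^ (k * r)) ^ ((k : ZMod p)⁻¹).val := by
      rw [← h1y, conj_pow, ← hxk]
    rw [e1]
    exact pow_mem (Subgroup.npow_mem_zpowers x _) _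
  obtain ⟨i, j, hij⟩ := hN _ hmem
  have hj : φ₁ y = x ^ i * y := by
    have hyj : y ^ j = y ^ (j % q) := by rw [← hy, pow_mod_orderOf]
    rw [hij, hyj, show j % q = 1 from ?_, pow_one]
    refine hr _ (Nat.mod_lt _ hq.out.pos) ?_
    have e1 : x ^ (r ^ (j % q) * k) = x ^ (k * r) := by
      rw [← h1y, hij, hyj, ← conj_pow_iter hyx, mul_inv_rev]
      have hc : x ^ i * (y ^ (j % q) * x ^ k * (y ^ (j % q))⁻¹) * (x ^ i)⁻¹
          = y ^ (j % q) * x ^ k * (y ^ (j % q))⁻¹ := by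
        rw [conj_pow_iter hyx, ← pow_add, mul_inv_eq_iff_eq_mul, ← pow_add, add_comm]
      conv_lhs => rw [← hc]
      group
    have e2 := zmod_of_pow_eq hx e1
    rw [Nat.cast_mul, Nat.cast_mul, Nat.cast_pow, mul_comm (k : ZMod p) (r : ZMod p)] at e2
    exact mul_right_cancel₀ hk0 e2
  obtain ⟨a, ha⟩ := conj_adjust hx hyx hr1 i
  set φ₂ : MulAut G := MulAut.conj (x ^ a) * φ₁ with hφ₂
  have h2x : φ₂ x = x ^ k := by
    show x ^ a * φ₁ x * (x ^ a)⁻¹ = x ^ k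
    rw [h1x, ← pow_add, mul_inv_eq_iff_eq_mul, ← pow_add, add_comm]
  have h2y : φ₂ y = y := by
    show x ^ a * φ₁ y * (x ^ a)⁻¹ = y
    rw [hj]; exact ha
  obtain ⟨A, B, hA, hB, hAB⟩ := hC (φ₂ f) (by rw [← h2y, ← map_mul, ← map_mul, hfy])
  obtain ⟨c, hc⟩ := hcls _ hk0
  obtain ⟨k', hk'⟩ : ∃ k', (k' = 1 ∨ k' = p - 1) ∧ ((r ^ c * k : ℕ) : ZMod p) = (k' : ZMod p) := by
    rcases hc with h | h
    · exact ⟨1, Or.inl rfl, by rw [Nat.cast_mul, Nat.cast_pow, h, Nat.cast_one]⟩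
    · refine ⟨p - 1, Or.inr rfl, ?_⟩
      rw [Nat.cast_mul, Nat.cast_pow, h, Nat.cast_sub hp.out.one_le, ZMod.natCast_self,
        Nat.cast_one, zero_sub]
  refine ⟨MulAut.conj (y ^ c) * φ₂, k', A, B, ?_, hk'.1, hA, hB, ?_, ?_, ?_⟩
  · have e : (MulAut.conj (y ^ c) * φ₂)⁻¹ * φ = φ⁻¹ * ((MulAut.conj g)⁻¹ * (MulAut.conj (x ^ a))⁻¹ *
        (MulAut.conj (y ^ c))⁻¹) * φ := by
      rw [hφ₂, hφ₁]; group
    rw [e]
    have hm : (MulAut.conj g)⁻¹ * (MulAut.conj (x ^ a))⁻¹ * (MulAut.conj (y ^ c))⁻¹ ∈ Cfsg.Inn G :=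
      mul_mem (mul_mem (inv_mem ⟨g, rfl⟩) (inv_mem ⟨_, rfl⟩)) (inv_mem ⟨_, rfl⟩)
    simpa using (Cfsg.innNormal G).conj_mem _ hm φ⁻¹
  · show y ^ c * φ₂ x * (y ^ c)⁻¹ = _
    rw [h2x, conj_pow_iter hyx]
    exact pow_eq_of_zmod hx hk'.2
  · show y ^ c * φ₂ y * (y ^ c)⁻¹ = y
    rw [h2y, mul_inv_eq_iff_eq_mul]
    exact (Commute.pow_self y c).eq
  · show y ^ c * φ₂ f * (y ^ c)⁻¹ = f ^ A * y ^ B
    rw [hAB, mul_inv_eq_iff_eq_mul]
    exact (((show Commute f y from hfy).pow_pow A c).mul_left (Commute.pow_pow_self y B c)).symm.eq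

/-- at most two classes, and a class outside the inner ones: exactly two -/
theorem out_card_two {p q : ℕ} [Fact p.Prime] [Fact q.Prime] [Finite G] (x y f : G) (r : ℕ)
    (sp : ℕ × ℕ × ℕ)
    (hsq : ¬ p ^ 2 ∣ Nat.card G) (hx : orderOf x = p) (hy : orderOf y = q)
    (hyx : y * x * y⁻¹ = x ^ r)
    (hr : ∀ j < q, (r : ZMod p) ^ j = (r : ZMod p) → j = 1)
    (hcls : ∀ k : ZMod p, k ≠ 0 → ∃ c : ℕ, (r : ZMod p) ^ c * k = 1 ∨ (r : ZMod p) ^ c * k = -1)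
    (hfy : f * y = y * f)
    (hN : ∀ g : G, g * x * g⁻¹ ∈ Subgroup.zpowers x → ∃ i j : ℕ, g = x ^ i * y ^ j)
    (hC : ∀ g : G, g * y = y * g → ∃ a b : ℕ, a < q ∧ b < q ∧ g = f ^ a * y ^ b)
    (hgen : Subgroup.closure ({x, y, f} : Set G) = ⊤)
    (htest : ∀ (ψ : MulAut G) (k a b : ℕ), (k = 1 ∨ k = p - 1) → a < q → b < q →
      ψ x = x ^ k → ψ y = y → ψ f = f ^ a * y ^ b → (k, a, b) = (1, 1, 0) ∨ (k, a, b) = sp)
    (hout : ∃ φ : MulAut G, φ ∉ Cfsg.Inn G) :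
    Nat.card (Cfsg.Out G) = 2 := by
  have hext : ∀ ψ ψ' : MulAut G, ψ x = ψ' x → ψ y = ψ' y → ψ f = ψ' f → ψ = ψ' := by
    intro ψ ψ' e1 e2 e3
    refine MulEquiv.ext fun z => ?_
    have hz : z ∈ Subgroup.closure ({x, y, f} : Set G) := hgen ▸ Subgroup.mem_top z
    refine MonoidHom.eqOn_closure (f := ψ.toMonoidHom) (g := ψ'.toMonoidHom) ?_ hz
    intro w hw
    rcases hw with rfl | rfl | rfl
    · exact e1
    · exact e2
    · exact e3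
  have key : ∀ φ : MulAut G, φ ∉ Cfsg.Inn G → ∃ ψ : MulAut G,
      ψ⁻¹ * φ ∈ Cfsg.Inn G ∧ ψ x = x ^ sp.1 ∧ ψ y = y ∧ ψ f = f ^ sp.2.1 * y ^ sp.2.2 := by
    intro φ hφ
    obtain ⟨ψ, k, a, b, hm, hk, ha, hb, e1, e2, e3⟩ :=
      exists_adjusted x y f r hsq hx hy hyx hr hcls hfy hN hC φ
    rcases htest ψ k a b hk ha hb e1 e2 e3 with h | h
    · exfalso
      obtain ⟨rfl, rfl, rfl⟩ : k = 1 ∧ a = 1 ∧ b = 0 := by simpa [Prod.ext_iff] using h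
      have h1 : ψ = 1 := hext ψ 1 (by rw [e1, pow_one]; rfl) e2
        (by rw [e3, pow_one, pow_zero, mul_one]; rfl)
      rw [h1, inv_one, one_mul] at hm
      exact hφ hm
    · refine ⟨ψ, hm, ?_, e2, ?_⟩
      · rw [e1, ← h]
      · rw [e3, ← h]
  obtain ⟨φ, hφ⟩ := hout
  obtain ⟨ψ, hψ, d1, d2, d3⟩ := key φ hφ
  rw [Nat.card_eq_two_iff' (1 : Cfsg.Out G)]
  refine ⟨(φ : Cfsg.Out G), fun h => hφ ((QuotientGroup.eq_one_iff φ).mp h), fun z hz => ?_⟩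
  obtain ⟨φ', rfl⟩ := QuotientGroup.mk_surjective z
  obtain ⟨ψ', hψ', c1, c2, c3⟩ := key φ' fun h => hz ((QuotientGroup.eq_one_iff φ').mpr h)
  have e : ψ' = ψ := hext ψ' ψ (c1.trans d1.symm) (c2.trans d2.symm) (c3.trans d3.symm)
  rw [e] at hψ'
  refine QuotientGroup.eq.mpr ?_
  have h2 := mul_mem (inv_mem hψ') hψ
  simpa [mul_assoc] using h2

end H95
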