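import Cfsg.Agent.H95.MatElt
import Cfsg.Agent.H95.OutCrit
import Cfsg.Agent.H95.M22Simple
import Cfsg.Agent.H95.Co2Simple
import Cfsg.Agent.H90.NormCycle

/-!
Automorphisms of the stabiliser of a vector that is constant off the extra point, from one
further element given by a matrix.
-/

set_option autoImplicit false

namespace H95

open Cfsg Finset

/-! ### The vectors fixed by doubling -/

/-- the coordinate list with four values -/
def mkL (a b c d : ℤ) : List ℤ := List.ofFn fun i : Fin 24 =>
  if i.val = 23 then a else if i.val = 0 then b else if i.val ^ 11 % 23 = 1 then c else d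

/-- the list of `2 · word` -/
def rowL (r : ℕ) : List ℤ := List.ofFn fun i : Fin 24 => if r.testBit i.val then 2 else 0

/-- the list of `(-3, 1^23)` -/
def oddList : List ℤ := List.ofFn fun i : Fin 24 => if i.val = 23 then -3 else 1

/-- a necessary condition on lattice vectors -/
def integralL (l : List ℤ) : Bool :=
  H90.rows.all (fun r => decide (dotL (rowL r) l % 8 = 0)) && decide (dotL oddList l % 8 = 0) &&
    (List.finRange 24).all (fun i => decide ((l.getD i.val 0 - l.getD 23 0) % 2 = 0))

theorem rowVec_mem : H90.rows.all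
    (fun r => H96.Check.checkB fun i => 2 * ((H90.wordOf r i).val : ℤ)) = true := by decide +kernel

theorem vecL_row_all : ∀ r : Fin 12,
    vecL (fun i => 2 * ((H90.wordOf (H90.rows.getD r.val 0) i).val : ℤ))
      = rowL (H90.rows.getD r.val 0) := by decide +kernel

theorem vecL_odd : vecL oddVec = oddList := by decide +kernel

theorem vecL_dot (x y : GolayPt → ℤ) : dotL (vecL x) (vecL y) = dotInt x y := by
  rw [show vecL y = List.ofFn fun i : Fin 24 => y (H90.pt i) from rfl, dotL_ofFn, dotInt,
    ← Equiv.sum_comp H90.ptEquiv (fun q => x q * y q)]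
  refine sum_congr rfl fun i _ => ?_
  rw [vecL_getD _ i.isLt]
  rfl

theorem integralL_vec (u : leechLattice) : integralL (vecL (u : GolayPt → ℤ)) = true := by
  have h8 : ∀ x : GolayPt → ℤ, x ∈ leechLattice →
      dotL (vecL x) (vecL (u : GolayPt → ℤ)) % 8 = 0 := fun x hx => by
    rw [vecL_dot]
    exact Int.emod_eq_zero_of_dvd (leechLike.dvd8 ⟨x, hx⟩ u)
  simp only [integralL, Bool.and_eq_true, List.all_eq_true, decide_eq_true_eq]
  refine ⟨⟨fun r hr => ?_, ?_⟩, fun i _ => ?_⟩
  · obtain ⟨k, hk, rfl⟩ := List.getElem_of_mem hr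
    have hk12 : k < 12 := hk
    have e := vecL_row_all ⟨k, hk12⟩
    rw [List.getD_eq_getElem _ _ hk] at e
    rw [← e]
    exact h8 _ (H96.Check.checkB_spec
      (List.all_eq_true.mp rowVec_mem _ (List.getElem_mem hk)))
  · rw [← vecL_odd]; exact h8 _ oddVec_mem
  · obtain ⟨m, hp, -, -⟩ := mem_leech.mp u.2
    rw [vecL_getD _ i.isLt, vecL_getD _ (by norm_num : 23 < 24)]
    have h1 := hp (H90.pt ⟨i.val, i.isLt⟩)
    have h2 := hp (H90.pt ⟨23, by norm_num⟩)
    omega

/-- the search for vectors fixed by doubling -/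
def solCheck (a0 b0 : ℤ) (u1 : List ℤ) : Bool :=
  (List.range 17).all fun a => (List.range 17).all fun b =>
    (List.range 5).all fun c => (List.range 5).all fun d =>
      let A : ℤ := (a : ℤ) - 8
      let B : ℤ := (b : ℤ) - 8
      let C : ℤ := (c : ℤ) - 2
      let D : ℤ := (d : ℤ) - 2
      if A * A + B * B + 11 * (C * C + D * D) = 64 ∧ a0 * A + b0 * (B + 11 * C + 11 * D) = 8 * a0 then
        (!integralL (mkL A B C D)) || decide (mkL A B C D = eightL 23) || decide (mkL A B C D = u1)
      else true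

theorem range_all {f : ℕ → Bool} {n : ℕ} (h : (List.range n).all f = true) {z : ℤ} {r : ℕ}
    (h1 : 0 ≤ z + r) (h2 : z + r < n) : f (z + r).toNat = true :=
  List.all_eq_true.mp h _ (List.mem_range.mpr (by omega))

/-- vectors fixed by doubling -/
theorem dbl_solutions {a0 b0 : ℤ} {v : leechLattice} {u1 : List ℤ}
    (h0 : (v : GolayPt → ℤ) none = a0) (h1 : ∀ x, (v : GolayPt → ℤ) (some x) = b0)
    (hc : solCheck a0 b0 u1 = true) {u : leechLattice} (hu : permHom dblPerm • u = u)
    (hn : ldot u u = 64) (hd : ldot u v = 8 * a0) :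
    u = eight none ∨ vecL (u : GolayPt → ℤ) = u1 := by
  set A := (u : GolayPt → ℤ) none with hA
  set B := (u : GolayPt → ℤ) (some 0) with hB
  set C := (u : GolayPt → ℤ) (some 1) with hC
  set D := (u : GolayPt → ℤ) (some (-1)) with hD
  have hn' : A ^ 2 + (B ^ 2 + (11 * C ^ 2 + 11 * D ^ 2)) = 64 := by
    rw [← sqNorm_eq_ldot] at hn
    unfold sqNorm at hn
    rw [sum_option, sum_dbl hu (fun t _ => t ^ 2), ← hA] at hn
    simp only [← hB, ← hC, ← hD, sum_const, card_univ, Fintype.card_fin, nsmul_eq_mul] at hn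
    push_cast at hn
    linarith
  have hd' : a0 * A + b0 * (B + 11 * C + 11 * D) = 8 * a0 := by
    rw [dot_const h0 h1, sum_dbl hu (fun t _ => t), ← hA] at hd
    simp only [← hB, ← hC, ← hD, sum_const, card_univ, Fintype.card_fin, nsmul_eq_mul] at hd
    push_cast at hd
    linarith
  have bA : -8 ≤ A ∧ A ≤ 8 := ⟨by nlinarith [sq_nonneg B, sq_nonneg C, sq_nonneg D],
    by nlinarith [sq_nonneg B, sq_nonneg C, sq_nonneg D]⟩
  have bB : -8 ≤ B ∧ B ≤ 8 := ⟨by nlinarith [sq_nonneg A, sq_nonneg C, sq_nonneg D],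
    by nlinarith [sq_nonneg A, sq_nonneg C, sq_nonneg D]⟩
  have bC : -2 ≤ C ∧ C ≤ 2 := ⟨by nlinarith [sq_nonneg A, sq_nonneg B, sq_nonneg D],
    by nlinarith [sq_nonneg A, sq_nonneg B, sq_nonneg D]⟩
  have bD : -2 ≤ D ∧ D ≤ 2 := ⟨by nlinarith [sq_nonneg A, sq_nonneg B, sq_nonneg C],
    by nlinarith [sq_nonneg A, sq_nonneg B, sq_nonneg C]⟩
  have hvec : vecL (u : GolayPt → ℤ) = mkL A B C D := by
    have hstep : ∀ y : ZMod 23, (u : GolayPt → ℤ) (some (2 * y)) = (u : GolayPt → ℤ) (some y) := by
      intro y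
      have e := congrArg (fun w : leechLattice => (w : GolayPt → ℤ) (some (2 * y))) hu
      simp only [permHom_apply] at e
      rw [← e, show dblPerm.1.symm (some (2 * y)) = some y by rw [Equiv.symm_apply_eq, dblPerm_some]]
    have hp : ∀ k : ℕ, ∀ y : ZMod 23,
        (u : GolayPt → ℤ) (some (2 ^ k * y)) = (u : GolayPt → ℤ) (some y) := by
      intro k
      induction k with
      | zero => intro y; simp
      | succ k ih => intro y; rw [pow_succ', mul_assoc, hstep, ih]
    have hcase : ∀ i : Fin 24, i.val ≠ 23 → i.val ≠ 0 → ∃ k : Fin 11,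
        if i.val ^ 11 % 23 = 1 then H90.pt i = some (2 ^ k.val * 1)
        else H90.pt i = some (2 ^ k.val * (-1)) := by decide +kernel
    unfold vecL mkL
    congr 1
    funext i
    by_cases h23 : i.val = 23
    · rw [if_pos h23, pt_cases, if_pos h23]
    · rw [if_neg h23]
      by_cases hz : i.val = 0
      · rw [if_pos hz, pt_cases, if_neg h23, hz, Nat.cast_zero]
      · rw [if_neg hz]
        obtain ⟨k, hk⟩ := hcase i h23 hz
        by_cases hq : i.val ^ 11 % 23 = 1
        · rw [if_pos hq] at hk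
          rw [if_pos hq, hk, hp]
        · rw [if_neg hq] at hk
          rw [if_neg hq, hk, hp]
  have h := range_all (range_all (range_all (range_all hc (z := A) (r := 8) (by omega) (by omega))
    (z := B) (r := 8) (by omega) (by omega)) (z := C) (r := 2) (by omega) (by omega))
    (z := D) (r := 2) (by omega) (by omega)
  have eA : (((A + 8).toNat : ℕ) : ℤ) - 8 = A := by omega
  have eB : (((B + 8).toNat : ℕ) : ℤ) - 8 = B := by omega
  have eC : (((C + 2).toNat : ℕ) : ℤ) - 2 = C := by omega
  have eD : (((D + 2).toNat : ℕ) : ℤ) - 2 = D := by omega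
  simp only [Nat.cast_ofNat, eA, eB, eC, eD] at h
  rw [if_pos ⟨by linarith, hd'⟩, Bool.or_eq_true, Bool.or_eq_true, Bool.not_eq_true'] at h
  rcases h with (h | h) | h
  · have := integralL_vec u
    rw [hvec, h] at this
    exact absurd this (by simp)
  · left
    refine eq_of_vecL ?_
    rw [hvec, of_decide_eq_true h]
    exact (vecL_eight 23).symm
  · right; rw [hvec, of_decide_eq_true h]

/-! ### Subgroups of `M23` -/

/-- doubling, in the point stabiliser -/
def dblS : MulAction.stabilizer M24 (none : GolayPt) := ⟨dblPerm, dblPerm_none⟩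

/-- inclusion of the two point stabiliser -/
def incl22 : m22Grp →* MulAction.stabilizer M24 (none : GolayPt) := Subgroup.inclusion inf_le_left

theorem incl22_dbl : incl22 dblStab = dblS := rfl

theorem order_dblS : orderOf dblS = 11 := by
  rw [← Subgroup.orderOf_coe]; exact order_dblPerm

theorem dblS_fixed : ∀ p : GolayPt, dblPerm.1 p = p → p = none ∨ p = some 0 := by decide +kernel

/-- an element normalising doubling fixes zero -/
theorem mem22_of_norm {σ : MulAction.stabilizer M24 (none : GolayPt)}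
    (h : σ⁻¹ * dblS * σ ∈ Subgroup.zpowers dblS) :
    ∃ τ : m22Grp, incl22 τ = σ := by
  obtain ⟨m, hm⟩ := mem_powers_iff_mem_zpowers.mpr h
  have e : dblS * σ = σ * dblS ^ m := by
    rw [show dblS ^ m = σ⁻¹ * dblS * σ from hm]; group
  have e1 := congrArg (fun τ : MulAction.stabilizer M24 (none : GolayPt) => τ.1.1 (some 0)) e
  have h0 : (dblPerm ^ m).1 (some 0) = some 0 := by rw [dblPerm_pow_some, mul_zero]
  have e2 : dblPerm.1 (σ.1.1 (some 0)) = σ.1.1 (some 0) := by
    have e3 : dblPerm.1 (σ.1.1 (some 0)) = σ.1.1 ((dblPerm ^ m).1 (some 0)) := e1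
    rwa [h0] at e3
  rcases dblS_fixed _ e2 with h' | h'
  · exact absurd (σ.1.1.injective (h'.trans (σ.2 : σ.1.1 none = none).symm)) (by simp)
  · exact ⟨⟨σ.1, σ.2, h'⟩, rfl⟩

theorem norm22_conj {τ : m22Grp} {m : ℕ} (h : τ * dblStab * τ⁻¹ = dblStab ^ m) :
    τ ∈ Subgroup.normalizer ((Subgroup.zpowers dblStab : Subgroup m22Grp) : Set m22Grp) :=
  (H90.normalizer_zpowers_iff dblStab τ).mpr ⟨m, h⟩

theorem order_dblStab : orderOf dblStab = 11 := by
  rw [← Subgroup.orderOf_coe]; exact order_dblPerm

/-- the exponents by which doubling is conjugated -/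
theorem norm22_exponent {τ : m22Grp} {m : ℕ} (h : τ * dblStab * τ⁻¹ = dblStab ^ m) :
    (m : ZMod 11) ^ 55 = 1 := by
  have h55 : τ ^ 55 = 1 := by
    have h' := pow_card_eq_one' (G := Subgroup.normalizer
      ((Subgroup.zpowers dblStab : Subgroup m22Grp) : Set m22Grp)) (x := ⟨τ, norm22_conj h⟩)
    rw [card_norm_dbl] at h'
    exact congrArg Subtype.val h'
  have h1 := conj_pow_iter h 55 1
  rw [h55, one_mul, inv_one, mul_one, mul_one, pow_one] at h1
  have h2 := zmod_of_pow_eq order_dblStab (a := 1) (b := m ^ 55) (by rw [pow_one]; exact h1)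
  rw [Nat.cast_one, Nat.cast_pow] at h2
  exact h2.symm

/-- position of `i + 2 ^ j x` -/
def affPos (i j n : ℕ) : ℕ := if n = 23 then 23 else (i + 2 ^ j * n) % 23

theorem norm23_affine : H90.norm23List.all (fun p =>
    (List.range 23).any fun i => (List.range 11).any fun j =>
      (List.range 24).all fun n => H90.img p n == affPos i j n) = true := by decide +kernel

theorem aff_apply (i j : ℕ) (n : Fin 24) :
    (H90.idx ((translStab ^ i * dblS ^ j).1.1 (H90.pt n))).val = affPos i j n.val := by
  have e : ∀ p, (translStab ^ i * dblS ^ j).1.1 p = (translOne ^ i).1 ((dblPerm ^ j).1 p) := fun p => by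
    show ((((translStab ^ i * dblS ^ j : MulAction.stabilizer M24 (none : GolayPt)) : M24)) : Equiv.Perm GolayPt) p = _
    rw [Subgroup.coe_mul, SubmonoidClass.coe_pow, SubmonoidClass.coe_pow]
    rfl
  rw [e, pt_cases, affPos]
  by_cases h : n.val = 23
  · rw [if_pos h, if_pos h, dblPerm_pow_none, translOne_pow_none]; rfl
  · rw [if_neg h, if_neg h, dblPerm_pow_some, translOne_pow_some,
      show (2 : ZMod 23) ^ j * (n.val : ZMod 23) + (i : ZMod 23) = ((i + 2 ^ j * n.val : ℕ) : ZMod 23) by
        push_cast; ring]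
    exact ZMod.val_natCast 23 _

theorem affine_of_repr {σ : Equiv.Perm GolayPt} {p : ℕ} (hp : p ∈ H90.norm23List)
    (hr : H90.Repr σ p) : ∃ i j : ℕ, σ = (translStab ^ i * dblS ^ j).1.1 := by
  have h := List.all_eq_true.mp norm23_affine p hp
  simp only [List.any_eq_true, List.all_eq_true, List.mem_range, beq_iff_eq] at h
  obtain ⟨i, -, j, -, hij⟩ := h
  refine ⟨i, j, Equiv.ext fun q => H90.idx_injective (Fin.ext ?_)⟩
  have h1 := hr (H90.idx q)
  have h2 := aff_apply i j (H90.idx q)
  rw [H90.pt_idx] at h1 h2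
  rw [h1, h2, hij _ (H90.idx q).isLt]

theorem index_23_11 : (List.range 8065).all
    (fun d => !(d % 23 == 1 && d % 11 == 1 && 8064 % d == 0) || d == 1) = true := by decide +kernel

/-- translation, doubling and an element of order five normalising doubling generate `M23` -/
theorem gen23 {H : Subgroup (MulAction.stabilizer M24 (none : GolayPt))}
    (hT : translStab ∈ H) (hD : dblS ∈ H) {τ : m22Grp} (hτ : incl22 τ ∈ H) {m : ℕ}
    (hm : τ * dblStab * τ⁻¹ = dblStab ^ m) (h5 : orderOf τ = 5) : H = ⊤ := by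
  haveI : Fact (Nat.Prime 23) := ⟨by norm_num⟩
  haveI : Fact (Nat.Prime 11) := ⟨by norm_num⟩
  haveI : Finite (MulAction.stabilizer M24 (none : GolayPt)) := Finite.of_injective _ Subtype.val_injective
  have hcard := H90.natCard_stab_point (none : GolayPt)
  set Nm := Subgroup.normalizer ((Subgroup.zpowers dblStab : Subgroup m22Grp) : Set m22Grp) with hNm
  have hNH : ∀ g ∈ Nm, incl22 g ∈ H := by
    set K := Subgroup.closure ({dblStab, τ} : Set m22Grp) with hK
    have hKN : K ≤ Nm := by
      rw [hK, Subgroup.closure_le]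
      rintro g (rfl | rfl)
      · exact Subgroup.le_normalizer (Subgroup.mem_zpowers _)
      · exact norm22_conj hm
    have hKH : K ≤ H.comap incl22 := by
      rw [hK, Subgroup.closure_le]
      rintro g (rfl | rfl)
      · exact hD
      · exact hτ
    have e : K = Nm := by
      refine Subgroup.eq_of_le_of_card_ge hKN ?_
      rw [card_norm_dbl]
      refine Nat.le_of_dvd Nat.card_pos ?_
      have h11 : 11 ∣ Nat.card K :=
        order_dblStab ▸ Subgroup.orderOf_dvd_natCard _ (Subgroup.subset_closure (by simp))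
      have h5' : 5 ∣ Nat.card K :=
        h5 ▸ Subgroup.orderOf_dvd_natCard _ (Subgroup.subset_closure (by simp))
      exact Nat.Coprime.mul_dvd_of_dvd_of_dvd (by norm_num : Nat.Coprime 11 5) h11 h5'
    exact fun g hg => hKH (e ▸ hg)
  have hi23 : H.index % 23 = 1 := by
    refine index_modEq_of_norm (by rw [hcard]; norm_num) order_translStab H fun g hg => ?_
    obtain ⟨k, hk⟩ := mem_powers_iff_mem_zpowers.mpr hg
    obtain ⟨p, hp, hr⟩ := H90.norm23_spec (σ := g.1.1) (k := k) ⟨g.1.2, g.2⟩
      (congrArg (fun a : MulAction.stabilizer M24 (none : GolayPt) => a.1.1) hk).symm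
    obtain ⟨i, j, hij⟩ := affine_of_repr hp hr
    rw [show g = translStab ^ i * dblS ^ j from Subtype.ext (Subtype.ext hij)]
    exact mul_mem (pow_mem hT i) (pow_mem hD j)
  have hi11 : H.index % 11 = 1 := by
    refine index_modEq_of_norm (by rw [hcard]; norm_num) order_dblS H fun g hg => ?_
    have hg' : g⁻¹ * dblS * g ∈ Subgroup.zpowers dblS := by
      have hN : g⁻¹ ∈ Subgroup.normalizer
          ((Subgroup.zpowers dblS : Subgroup _) : Set (MulAction.stabilizer M24 (none : GolayPt))) := by
        refine inv_mem ((H90.normalizer_zpowers_iff dblS g).mpr ?_)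
        obtain ⟨k, hk⟩ := mem_powers_iff_mem_zpowers.mpr hg
        exact ⟨k, hk.symm⟩
      have := (Subgroup.mem_normalizer_iff.mp hN dblS).mp (Subgroup.mem_zpowers _)
      simpa using this
    obtain ⟨g', rfl⟩ := mem22_of_norm hg'
    obtain ⟨k, hk⟩ := mem_powers_iff_mem_zpowers.mpr hg
    refine hNH g' (norm22_conj (m := k) ?_)
    refine Subgroup.inclusion_injective (inf_le_left :
      m22Grp ≤ MulAction.stabilizer M24 (none : GolayPt)) ?_
    exact hk.symm
  have hdiv : H.index ∣ 8064 := by
    have h253 : 1265 ∣ Nat.card H := by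
      have a : 23 ∣ Nat.card H := order_translStab.symm.dvd.trans (Subgroup.orderOf_dvd_natCard H hT)
      have b : 11 ∣ Nat.card H := order_dblS.symm.dvd.trans (Subgroup.orderOf_dvd_natCard H hD)
      have c : 5 ∣ Nat.card H := by
        have h' := Subgroup.orderOf_dvd_natCard H hτ
        rwa [orderOf_injective incl22 (Subgroup.inclusion_injective _), h5] at h'
      omega
    have h := H.card_mul_index
    rw [hcard] at h
    obtain ⟨t, ht⟩ := h253
    rw [ht] at h
    exact ⟨t, by nlinarith⟩
  have := List.all_eq_true.mp index_23_11 H.index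
    (List.mem_range.mpr (Nat.lt_succ_of_le (Nat.le_of_dvd (by norm_num) hdiv)))
  simp only [hi23, hi11, Nat.mod_eq_zero_of_dvd hdiv, beq_self_eq_true, Bool.and_self, Bool.not_true,
    Bool.false_or, beq_iff_eq] at this
  exact Subgroup.index_eq_one.mp this

end H95
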