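import Cfsg.Agent.H95.OutModel

/-!
All automorphisms of the stabiliser are inner, given the tests on the matrix.
-/

set_option autoImplicit false

namespace H95

open Cfsg Finset

/-- `(v ↦ T^k (e v))` on lists -/
def stepL (E : List (List ℤ)) (k : ℕ) (l : List ℤ) : List ℤ := shiftL k (applyL E l)

/-- the vector moved by the fifth power -/
def topL (E : List (List ℤ)) : List ℤ := (applyL E)^[5] (eightL 23)

/-- the seeds of the orbit bound -/
def seedL (E : List (List ℤ)) (t : ℕ) : List ℤ :=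
  applyL E (shiftL t (applyL E (shiftL 1 (topL E))))

/-- the tests on the element -/
def eltCheck (E : List (List ℤ)) (a b : ℤ) (s : ℕ) : Bool :=
  decide (applyL E (mkL a b b b) = mkL a b b b) &&
  (List.finRange 24).all (fun i => applyL E (scaleL 1 (eightL i)) == scaleL s (applyL E (eightL i))) &&
  (List.finRange 24).all (fun i => (applyL E)^[10] (eightL i) == eightL i) &&
  ((applyL E)^[5] (eightL 23) != eightL 23) &&
  ((applyL E)^[2] (eightL 23) == eightL 23) &&
  ((applyL E)^[2] (eightL 1) != eightL 1) &&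
  (List.finRange 24).all (fun i => (stepL E 1)^[7] (eightL i) == eightL i) &&
  (List.range 23).all (fun k => k == 0 || k == 1 || (stepL E k)^[7] (eightL 0) != eightL 0)

/-- the seeds have free and different orbits -/
def seedCheck (E : List (List ℤ)) (n : ℕ) : Bool :=
  (List.range n).all fun t => (List.range n).all fun t' =>
    (List.range 23).all fun i => (List.range 11).all fun j =>
      shiftL i (scaleL j (seedL E t)) != seedL E t' || (t == t' && i == 0 && j == 0)

/-- the admissible indices -/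
def indexCheck (R n : ℕ) : Bool :=
  (List.range (R / (253 * n) + 1)).all fun d =>
    !(d % 23 == 1 && d % 11 == 1 && R % d == 0) || d == 1

/-- the data -/
structure OutModel where
  M : MatData
  v : leechLattice
  a : ℤ
  b : ℤ
  s : ℕ
  n : ℕ
  R : ℕ
  h0 : (v : GolayPt → ℤ) none = a
  h1 : ∀ x, (v : GolayPt → ℤ) (some x) = b
  ha : a ≠ 0
  hb : b ≠ 0
  hn : 0 < n
  hs : (s : ZMod 11) ≠ 1 ∧ (s : ZMod 11) ^ 6 ≠ 1 ∧ (s : ZMod 11) ^ 10 = 1
  card : Nat.card (MulAction.stabilizer Co0 v) = R * 10200960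
  sq23 : ¬ 23 ^ 2 ∣ R * 10200960
  sq11 : ¬ 11 ^ 2 ∣ R * 10200960
  elt : eltCheck M.E a b s = true
  sol : solCheck a b (topL M.E) = true
  seeds : seedCheck M.E n = true
  index : indexCheck R n = true

namespace OutModel

variable (P : OutModel)

/-- the group -/
abbrev G : Subgroup Co0 := MulAction.stabilizer Co0 P.v

/-- the point stabiliser inside -/
noncomputable def hom : MulAction.stabilizer M24 (none : GolayPt) →* P.G := constHom P.v P.b P.h1

theorem hom_injective : Function.Injective P.hom := fun _ _ h =>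
  Subtype.ext (permHom_injective (congrArg Subtype.val h))

theorem hom_val (σ : MulAction.stabilizer M24 (none : GolayPt)) : (P.hom σ).1 = permHom σ.1 := rfl

theorem checks :
    applyL P.M.E (mkL P.a P.b P.b P.b) = mkL P.a P.b P.b P.b ∧
    (∀ i, applyL P.M.E (scaleL 1 (eightL i)) = scaleL P.s (applyL P.M.E (eightL i))) ∧
    (∀ i, (applyL P.M.E)^[10] (eightL i) = eightL i) ∧
    (applyL P.M.E)^[5] (eightL 23) ≠ eightL 23 ∧
    (applyL P.M.E)^[2] (eightL 23) = eightL 23 ∧
    (applyL P.M.E)^[2] (eightL 1) ≠ eightL 1 ∧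
    (∀ i, (stepL P.M.E 1)^[7] (eightL i) = eightL i) ∧
    (∀ k < 23, k ≠ 0 → k ≠ 1 → (stepL P.M.E k)^[7] (eightL 0) ≠ eightL 0) := by
  have h := P.elt
  simp only [eltCheck, Bool.and_eq_true, decide_eq_true_eq, List.all_eq_true, List.mem_finRange,
    forall_const, beq_iff_eq, bne_iff_ne, Bool.or_eq_true, List.mem_range] at h
  obtain ⟨⟨⟨⟨⟨⟨⟨a1, a2⟩, a3⟩, a4⟩, a5⟩, a6⟩, a7⟩, a8⟩ := h
  exact ⟨a1, a2, a3, a4, a5, a6, a7, fun k hk h0 h1 => by
    rcases a8 k hk with (h | h) | h
    · exact absurd h h0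
    · exact absurd h h1
    · exact h⟩

theorem vecL_v : vecL (P.v : GolayPt → ℤ) = mkL P.a P.b P.b P.b := by
  unfold vecL mkL
  congr 1
  funext i
  rw [pt_cases]
  split
  · exact P.h0
  · rw [P.h1]; split <;> (try split) <;> rfl

theorem elt_fix : P.M.elt • P.v = P.v :=
  eq_of_vecL (by rw [P.M.vecL_elt, P.vecL_v, P.checks.1])

/-- translation -/
noncomputable def x : P.G := P.hom translStab

/-- doubling -/
noncomputable def y : P.G := P.hom dblS

/-- the further element -/
noncomputable def e : P.G := ⟨P.M.elt, P.elt_fix⟩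

theorem order_x : orderOf P.x = 23 := by
  rw [x, orderOf_injective _ P.hom_injective]; exact order_translStab

theorem order_y : orderOf P.y = 11 := by
  rw [y, orderOf_injective _ P.hom_injective]; exact order_dblS

instance finite_G : Finite P.G :=
  haveI : Finite Co0 := co0_finite
  inferInstance

theorem card_G : Nat.card P.G = P.R * 10200960 := P.card

theorem yxy : P.y * P.x * P.y⁻¹ = P.x ^ 2 := by
  rw [mul_inv_eq_iff_eq_mul, x, y, ← map_mul, ← map_pow, ← map_mul]
  congr 1
  refine Subtype.ext (Subtype.ext (Equiv.ext fun p => ?_))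
  show dblPerm.1 (translOne.1 p) = (translOne ^ 2).1 (dblPerm.1 p)
  rcases p with _ | t
  · rw [show translOne.1 none = none from rfl, dblPerm_none, translOne_pow_none]
  · rw [show translOne.1 (some t) = some (t + 1) from rfl, dblPerm_some, dblPerm_some,
      translOne_pow_some]
    congr 1
    push_cast
    ring

theorem vecL_y_pow (k : ℕ) (u : leechLattice) :
    vecL (((P.y ^ k).1 • u : leechLattice) : GolayPt → ℤ) = scaleL k (vecL (u : GolayPt → ℤ)) := by
  rw [y, ← map_pow, hom_val, SubmonoidClass.coe_pow]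
  exact vecL_double k u

theorem vecL_x_pow (k : ℕ) (u : leechLattice) :
    vecL (((P.x ^ k).1 • u : leechLattice) : GolayPt → ℤ) = shiftL k (vecL (u : GolayPt → ℤ)) := by
  rw [x, ← map_pow, hom_val, SubmonoidClass.coe_pow]
  exact vecL_translate k u

theorem vecL_e_pow (k : ℕ) (u : leechLattice) :
    vecL (((P.e ^ k).1 • u : leechLattice) : GolayPt → ℤ) = (applyL P.M.E)^[k] (vecL (u : GolayPt → ℤ)) := by
  rw [SubgroupClass.coe_pow]
  exact P.M.vecL_pow k u

theorem vecL_e (u : leechLattice) :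
    vecL ((P.e.1 • u : leechLattice) : GolayPt → ℤ) = applyL P.M.E (vecL (u : GolayPt → ℤ)) :=
  P.M.vecL_elt u

theorem vecL_top : vecL ((eight none : leechLattice) : GolayPt → ℤ) = eightL 23 := vecL_eight 23

theorem ext_eights {g h : P.G}
    (H : ∀ i : Fin 24, vecL ((g.1 • eight (H90.pt i) : leechLattice) : GolayPt → ℤ)
      = vecL ((h.1 • eight (H90.pt i) : leechLattice) : GolayPt → ℤ)) : g = h := by
  refine Subtype.ext ?_
  rw [← inv_mul_eq_one]
  refine co0_eq_one_of_eights fun p => ?_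
  have := eq_of_vecL (H (H90.idx p))
  rw [H90.pt_idx] at this
  rw [mul_smul, ← this, inv_smul_smul]

theorem e_ten : P.e ^ 10 = 1 :=
  P.ext_eights fun i => by
    rw [P.vecL_e_pow, vecL_eight, P.checks.2.2.1]
    simp [vecL_eight]

theorem eye : P.e * P.y * P.e⁻¹ = P.y ^ P.s := by
  rw [mul_inv_eq_iff_eq_mul]
  refine P.ext_eights fun i => ?_
  have h := P.checks.2.1 i
  rw [Subgroup.coe_mul, mul_smul, Subgroup.coe_mul, mul_smul, P.vecL_e, P.vecL_y_pow, P.vecL_e,
    show P.y.1 = (P.y ^ 1).1 by rw [pow_one], P.vecL_y_pow, vecL_eight, h]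

theorem e_pow_conj (k : ℕ) : P.e ^ k * P.y * (P.e ^ k)⁻¹ = P.y ^ (P.s ^ k) := by
  have := conj_pow_iter P.eye k 1
  simpa using this

theorem e5_moves : (P.e ^ 5).1 • eight none ≠ eight none := fun h => by
  have := congrArg (fun u : leechLattice => vecL (u : GolayPt → ℤ)) h
  simp only [P.vecL_e_pow, vecL_top] at this
  exact P.checks.2.2.2.1 this

theorem e2_fix : (P.e ^ 2).1 • eight none = eight none :=
  eq_of_vecL (by rw [P.vecL_e_pow, vecL_top, P.checks.2.2.2.2.1])

theorem e2_ne : P.e ^ 2 ≠ 1 := fun h => by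
  have h1 := P.vecL_e_pow 2 (eight (H90.pt 1))
  rw [h, Subgroup.coe_one, one_smul, vecL_eight] at h1
  exact P.checks.2.2.2.2.2.1 h1.symm

theorem order_e2 : orderOf (P.e ^ 2) = 5 := by
  haveI : Fact (Nat.Prime 5) := ⟨by norm_num⟩
  exact orderOf_eq_prime (by rw [← pow_mul]; exact P.e_ten) P.e2_ne

/-- elements fixing `8e` come from `M23` -/
theorem of_fix {g : P.G} (h : g.1 • eight none = eight none) : ∃ σ, P.hom σ = g := by
  obtain ⟨σ, hσ, hg⟩ := mono_of_const h P.h1 P.hb g.2
  exact ⟨⟨σ, hσ⟩, Subtype.ext hg.symm⟩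

theorem hom_fix (σ : MulAction.stabilizer M24 (none : GolayPt)) :
    (P.hom σ).1 • eight none = eight none := by
  rw [hom_val, permHom_eight, show σ.1.1 none = none from σ.2]

theorem dot_back {g : P.G} : ldot (g.1 • eight none) P.v = 8 * P.a := by
  calc ldot (g.1 • eight none) P.v = ldot (g.1 • eight none) (g.1 • P.v) := by rw [g.2]
    _ = 8 * P.a := by rw [co0_dot, ldot_comm, ldot_eight, P.h0, mul_comm]

/-- normalising translation -/
theorem norm_x {g : P.G} (hg : g * P.x * g⁻¹ ∈ Subgroup.zpowers P.x) :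
    ∃ i j : ℕ, g = P.x ^ i * P.y ^ j := by
  obtain ⟨k, hk⟩ := mem_powers_iff_mem_zpowers.mpr hg
  have hfix : P.x.1 • eight none = eight none := P.hom_fix _
  have hgx : (g * P.x * g⁻¹).1 • eight none = eight none := by
    rw [← hk]
    show (P.x ^ k).1 • eight none = eight none
    rw [x, ← map_pow]; exact P.hom_fix _
  have hu : permHom translOne • ((g.1)⁻¹ • eight none) = (g.1)⁻¹ • eight none := by
    simp only [Subgroup.coe_mul, InvMemClass.coe_inv, mul_smul] at hgx
    exact eq_inv_smul_iff.mpr hgx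
  have he : (g.1)⁻¹ • eight none = eight none := by
    refine eq_eight_of_fix hu P.h0 P.h1 ?_ ?_ P.ha
    · rw [co0_dot, eight_norm]
    · have := P.dot_back (g := g⁻¹)
      simpa using this
  have hge : g.1 • eight none = eight none := by
    conv_lhs => rw [← he]
    exact smul_inv_smul _ _
  obtain ⟨σ, rfl⟩ := P.of_fix hge
  have hσ : σ * translStab * σ⁻¹ = translStab ^ k := by
    refine P.hom_injective ?_
    rw [map_mul, map_mul, map_inv, map_pow]
    exact hk.symm
  obtain ⟨p, hp, hr⟩ := H90.norm23_spec (σ := σ.1.1) (k := k) ⟨σ.1.2, σ.2⟩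
    (congrArg (fun a : MulAction.stabilizer M24 (none : GolayPt) => a.1.1) hσ)
  obtain ⟨i, j, hij⟩ := affine_of_repr hp hr
  exact ⟨i, j, by rw [x, y, ← map_pow, ← map_pow, ← map_mul, Subtype.ext (Subtype.ext hij)]⟩

/-- normalising doubling -/
theorem norm_y {g : P.G} (hg : g⁻¹ * P.y * g ∈ Subgroup.zpowers P.y) :
    ∃ τ : m22Grp, g = P.hom (incl22 τ) ∨ g = P.e ^ 5 * P.hom (incl22 τ) := by
  haveI : Fact (Nat.Prime 11) := ⟨by norm_num⟩
  -- the image of `8e` is fixed
  obtain ⟨k, hk⟩ := mem_powers_iff_mem_zpowers.mpr hg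
  have hu : permHom dblPerm • (g.1 • eight none) = g.1 • eight none := by
    have h : P.y * g = g * P.y ^ k := by
      rw [show P.y ^ k = g⁻¹ * P.y * g from hk]; group
    have h' := congrArg (fun z : P.G => z.1 • eight none) h
    simp only [Subgroup.coe_mul, mul_smul] at h'
    rw [show (P.y ^ k).1 • eight none = eight none by rw [y, ← map_pow]; exact P.hom_fix _] at h'
    exact h'
  -- the case of a point stabiliser element
  have key : ∀ z : P.G, z.1 • eight none = eight none → z⁻¹ * P.y * z ∈ Subgroup.zpowers P.y →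
      ∃ τ : m22Grp, z = P.hom (incl22 τ) := by
    intro z hz hzy
    obtain ⟨σ, rfl⟩ := P.of_fix hz
    have hσ : σ⁻¹ * dblS * σ ∈ Subgroup.zpowers dblS := by
      obtain ⟨m, hm⟩ := mem_powers_iff_mem_zpowers.mpr hzy
      refine ⟨(m : ℤ), ?_⟩
      show dblS ^ (m : ℤ) = _
      rw [zpow_natCast]
      refine P.hom_injective ?_
      rw [map_mul, map_mul, map_inv, map_pow]
      exact hm
    obtain ⟨τ, rfl⟩ := mem22_of_norm hσ
    exact ⟨τ, rfl⟩
  rcases dbl_solutions P.h0 P.h1 P.sol hu (by rw [co0_dot, eight_norm]) P.dot_back with h | h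
  · obtain ⟨τ, hτ⟩ := key g h hg
    exact ⟨τ, Or.inl hτ⟩
  · have h5 : g.1 • eight none = (P.e ^ 5).1 • eight none :=
      eq_of_vecL (by rw [h, P.vecL_e_pow, vecL_top]; rfl)
    have hfix : ((P.e ^ 5)⁻¹ * g).1 • eight none = eight none := by
      rw [Subgroup.coe_mul, mul_smul, h5, InvMemClass.coe_inv, inv_smul_smul]
    have hinv : (P.e ^ 5)⁻¹ = P.e ^ 5 := by
      rw [inv_eq_iff_mul_eq_one, ← pow_add]; exact P.e_ten
    have hmem : ((P.e ^ 5)⁻¹ * g)⁻¹ * P.y * ((P.e ^ 5)⁻¹ * g) ∈ Subgroup.zpowers P.y := by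
      have he : P.e ^ 5 * P.y * (P.e ^ 5)⁻¹ = P.y ^ (P.s ^ 5) := P.e_pow_conj 5
      have : ((P.e ^ 5)⁻¹ * g)⁻¹ * P.y * ((P.e ^ 5)⁻¹ * g)
          = g⁻¹ * (P.e ^ 5 * P.y * (P.e ^ 5)⁻¹) * g := by group
      rw [this, he]
      have hc : g⁻¹ * P.y ^ (P.s ^ 5) * g = (g⁻¹ * P.y * g) ^ (P.s ^ 5) := by
        simpa using (conj_pow (a := g⁻¹) (b := P.y) (i := P.s ^ 5)).symm
      rw [hc]
      exact pow_mem hg _
    obtain ⟨τ, hτ⟩ := key _ hfix hmem
    exact ⟨τ, Or.inr (by rw [← hτ, mul_inv_cancel_left])⟩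

/-- the elements conjugating doubling as the further element does -/
theorem coset_y {g : P.G} (hg : g * P.y * g⁻¹ = P.y ^ P.s) (ho : orderOf g = orderOf P.e) :
    ∃ j : ℕ, g = P.e * P.y ^ j := by
  haveI : Fact (Nat.Prime 11) := ⟨by norm_num⟩
  set z := P.e⁻¹ * g with hz
  have hzy : z * P.y * z⁻¹ = P.y := by
    rw [hz, show P.e⁻¹ * g * P.y * (P.e⁻¹ * g)⁻¹ = P.e⁻¹ * (g * P.y * g⁻¹) * P.e by group, hg,
      ← P.eye]
    group
  have hzy' : z⁻¹ * P.y * z = P.y := by
    conv_lhs => rw [← hzy]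
    group
  have hcomm : ∀ τ : m22Grp, P.hom (incl22 τ) * P.y = P.y * P.hom (incl22 τ) →
      ∃ j : ℕ, P.hom (incl22 τ) = P.y ^ j := by
    intro τ h
    have hτ : τ * dblStab = dblStab * τ := by
      refine Subgroup.inclusion_injective (inf_le_left :
        m22Grp ≤ MulAction.stabilizer M24 (none : GolayPt)) (P.hom_injective ?_)
      show P.hom (incl22 _) = P.hom (incl22 _)
      rw [map_mul, map_mul, map_mul, map_mul, incl22_dbl]
      exact h
    obtain ⟨j, hj⟩ := mem_powers_iff_mem_zpowers.mpr (centralizer_dbl hτ)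
    exact ⟨j, by rw [← show dblStab ^ j = τ from hj, map_pow, map_pow]; rfl⟩
  obtain ⟨τ, h | h⟩ := P.norm_y (g := z) (by rw [hzy']; exact Subgroup.mem_zpowers _)
  · obtain ⟨j, hj⟩ := hcomm τ (by rw [← h]; exact mul_inv_eq_iff_eq_mul.mp hzy)
    exact ⟨j, by rw [← hj, ← h, hz, mul_inv_cancel_left]⟩
  · exfalso
    have hinv : (P.e ^ 5)⁻¹ = P.e ^ 5 := by
      rw [inv_eq_iff_mul_eq_one, ← pow_add]; exact P.e_ten
    have hw : P.hom (incl22 τ) * P.y * (P.hom (incl22 τ))⁻¹ = P.y ^ (P.s ^ 5) := by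
      rw [← P.e_pow_conj 5,
        show P.hom (incl22 τ) = (P.e ^ 5)⁻¹ * z by rw [h, inv_mul_cancel_left],
        show (P.e ^ 5)⁻¹ * z * P.y * ((P.e ^ 5)⁻¹ * z)⁻¹ = (P.e ^ 5)⁻¹ * (z * P.y * z⁻¹) * P.e ^ 5 by
          group, hzy]
      conv_lhs => rw [hinv]
      conv_rhs => rw [hinv]
    have hτ : τ * dblStab * τ⁻¹ = dblStab ^ (P.s ^ 5) := by
      refine Subgroup.inclusion_injective (inf_le_left :
        m22Grp ≤ MulAction.stabilizer M24 (none : GolayPt)) (P.hom_injective ?_)
      show P.hom (incl22 _) = P.hom (incl22 _)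
      rw [map_mul, map_mul, map_inv, map_mul, map_mul, map_inv, map_pow, map_pow, incl22_dbl]
      exact hw
    have h55 := norm22_exponent hτ
    rw [Nat.cast_pow] at h55
    have ht : (P.s : ZMod 11) ^ 5 = 1 := by
      have e : ((P.s : ZMod 11) ^ 5) ^ 55 = ((P.s : ZMod 11) ^ 10) ^ 27 * (P.s : ZMod 11) ^ 5 := by
        rw [← pow_mul, ← pow_mul, ← pow_add]
      rwa [e, P.hs.2.2, one_pow, one_mul] at h55
    have hy5 : P.y ^ (P.s ^ 5) = P.y := by
      conv_rhs => rw [← pow_one P.y]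
      exact pow_eq_of_zmod P.order_y (by rw [Nat.cast_pow, ht, Nat.cast_one])
    rw [hy5] at hw
    obtain ⟨j, hj⟩ := hcomm τ (mul_inv_eq_iff_eq_mul.mp hw)
    have hg6 : g = P.e ^ 6 * P.y ^ j := by
      rw [← hj, pow_succ' P.e 5, mul_assoc, ← h, hz, mul_inv_cancel_left]
    have hs6 : ((P.s ^ 6 : ℕ) : ZMod 11) ≠ 1 := by rw [Nat.cast_pow]; exact P.hs.2.1
    obtain ⟨c, hc⟩ := conj_shift P.order_y (P.e_pow_conj 6) hs6 j
    have hg5 : g ^ 5 = 1 := by
      rw [hg6, ← hc, conj_pow, ← pow_mul, show 6 * 5 = 10 * 3 by norm_num, pow_mul, P.e_ten,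
        one_pow, mul_one, mul_inv_cancel]
    have : P.e ^ 5 = 1 := orderOf_dvd_iff_pow_eq_one.mp (ho ▸ orderOf_dvd_of_pow_eq_one hg5)
    exact P.e5_moves (by rw [this, Subgroup.coe_one, one_smul])

theorem gen : Subgroup.closure ({P.x, P.y, P.e} : Set P.G) = ⊤ := by
  haveI : Fact (Nat.Prime 23) := ⟨by norm_num⟩
  haveI : Fact (Nat.Prime 11) := ⟨by norm_num⟩
  haveI : Finite Co0 := co0_finite
  set K := Subgroup.closure ({P.x, P.y, P.e} : Set P.G) with hK
  have hx : P.x ∈ K := Subgroup.subset_closure (by simp)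
  have hy : P.y ∈ K := Subgroup.subset_closure (by simp)
  have he : P.e ∈ K := Subgroup.subset_closure (by simp)
  obtain ⟨σ, hσ⟩ := P.of_fix P.e2_fix
  have hconj : σ * dblS * σ⁻¹ = dblS ^ (P.s ^ 2) := by
    refine P.hom_injective ?_
    rw [map_mul, map_mul, map_inv, map_pow, hσ]
    exact P.e_pow_conj 2
  have hS : ∀ τ, P.hom τ ∈ K := by
    have hσn : σ⁻¹ * dblS * σ ∈ Subgroup.zpowers dblS := by
      have hN := inv_mem ((H90.normalizer_zpowers_iff dblS σ).mpr ⟨_, hconj⟩)
      have := (Subgroup.mem_normalizer_iff.mp hN dblS).mp (Subgroup.mem_zpowers _)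
      simpa using this
    obtain ⟨τ0, rfl⟩ := mem22_of_norm hσn
    have hm : τ0 * dblStab * τ0⁻¹ = dblStab ^ (P.s ^ 2) :=
      Subgroup.inclusion_injective (inf_le_left :
        m22Grp ≤ MulAction.stabilizer M24 (none : GolayPt)) hconj
    have h5 : orderOf τ0 = 5 := by
      rw [← orderOf_injective incl22 (Subgroup.inclusion_injective _),
        ← orderOf_injective P.hom P.hom_injective, hσ]
      exact P.order_e2
    have htop : K.comap P.hom = ⊤ :=
      gen23 (H := K.comap P.hom) hx hy (show P.hom (incl22 τ0) ∈ K by rw [hσ]; exact pow_mem he 2)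
        hm h5
    intro τ
    have hτ : τ ∈ K.comap P.hom := htop ▸ Subgroup.mem_top τ
    exact hτ
  have hi23 : K.index % 23 = 1 := by
    refine index_modEq_of_norm (by rw [P.card_G]; exact P.sq23) P.order_x K fun g hg => ?_
    obtain ⟨i, j, rfl⟩ := P.norm_x hg
    exact mul_mem (pow_mem hx i) (pow_mem hy j)
  have hi11 : K.index % 11 = 1 := by
    refine index_modEq_of_norm (by rw [P.card_G]; exact P.sq11) P.order_y K fun g hg => ?_
    have hg' : g⁻¹ * P.y * g ∈ Subgroup.zpowers P.y := by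
      obtain ⟨k, hk⟩ := mem_powers_iff_mem_zpowers.mpr hg
      have hN := inv_mem ((H90.normalizer_zpowers_iff P.y g).mpr ⟨k, hk.symm⟩)
      have := (Subgroup.mem_normalizer_iff.mp hN P.y).mp (Subgroup.mem_zpowers _)
      simpa using this
    obtain ⟨τ, rfl | rfl⟩ := P.norm_y hg'
    · exact hS _
    · exact mul_mem (pow_mem he 5) (hS _)
  -- the orbit of `8e`
  let f : Fin P.n × Fin 23 × Fin 11 → leechLattice := fun p =>
    (P.x ^ p.2.1.val * P.y ^ p.2.2.val).1 •
      (P.e * P.x ^ p.1.val * P.e * P.x * P.e ^ 5).1 • eight none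
  have hseed : ∀ t : ℕ, vecL (((P.e * P.x ^ t * P.e * P.x * P.e ^ 5).1 • eight none : leechLattice) :
      GolayPt → ℤ) = seedL P.M.E t := by
    intro t
    simp only [Subgroup.coe_mul, mul_smul]
    rw [P.vecL_e, P.vecL_x_pow, P.vecL_e, show P.x.1 = (P.x ^ 1).1 by rw [pow_one], P.vecL_x_pow,
      P.vecL_e_pow, vecL_top]
    rfl
  have hf : Function.Injective f := by
    rintro ⟨t, i, j⟩ ⟨t', i', j'⟩ h
    set h' := (P.x ^ i'.val * P.y ^ j'.val)⁻¹ * (P.x ^ i.val * P.y ^ j.val) with hh'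
    have hn : h' * P.x * h'⁻¹ ∈ Subgroup.zpowers P.x := by
      have hyN : P.y ∈ Subgroup.normalizer ((Subgroup.zpowers P.x : Subgroup P.G) : Set P.G) :=
        (H90.normalizer_zpowers_iff P.x P.y).mpr ⟨2, P.yxy⟩
      have hxN : P.x ∈ Subgroup.normalizer ((Subgroup.zpowers P.x : Subgroup P.G) : Set P.G) :=
        Subgroup.le_normalizer (Subgroup.mem_zpowers _)
      have hm : h' ∈ Subgroup.normalizer ((Subgroup.zpowers P.x : Subgroup P.G) : Set P.G) :=
        mul_mem (inv_mem (mul_mem (pow_mem hxN _) (pow_mem hyN _)))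
          (mul_mem (pow_mem hxN _) (pow_mem hyN _))
      exact (Subgroup.mem_normalizer_iff.mp hm P.x).mp (Subgroup.mem_zpowers _)
    obtain ⟨A, B, hAB⟩ := P.norm_x hn
    have hAB' : h' = P.x ^ (A % 23) * P.y ^ (B % 11) := by
      rw [hAB, ← P.order_x, ← P.order_y, pow_mod_orderOf, pow_mod_orderOf]
    have e1 : (P.x ^ (A % 23) * P.y ^ (B % 11)).1 •
        (P.e * P.x ^ t.val * P.e * P.x * P.e ^ 5).1 • eight none
        = (P.e * P.x ^ t'.val * P.e * P.x * P.e ^ 5).1 • eight none := by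
      rw [← hAB', hh', Subgroup.coe_mul, InvMemClass.coe_inv, mul_smul, inv_smul_eq_iff]
      exact h
    have e2 := congrArg (fun u : leechLattice => vecL (u : GolayPt → ℤ)) e1
    simp only [Subgroup.coe_mul (P.G), mul_smul (P.x ^ (A % 23)).1] at e2
    rw [P.vecL_x_pow, P.vecL_y_pow] at e2
    have hsc := P.seeds
    simp only [seedCheck, List.all_eq_true, List.mem_range, Bool.or_eq_true, bne_iff_ne,
      Bool.and_eq_true, beq_iff_eq] at hsc
    have h3 := hsc t.val t.isLt t'.val t'.isLt (A % 23) (Nat.mod_lt _ (by norm_num)) (B % 11)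
      (Nat.mod_lt _ (by norm_num))
    rw [← hseed t.val, ← hseed t'.val] at h3
    simp only [Subgroup.coe_mul, mul_smul] at h3 e2
    rcases h3 with h3 | ⟨⟨ht, hA⟩, hB⟩
    · exact absurd e2 h3
    · rw [hA, hB, pow_zero, pow_zero, mul_one, hh', inv_mul_eq_one] at hAB'
      have hxy : P.x ^ i'.val * P.y ^ j'.val = P.x ^ i.val * P.y ^ j.val := hAB'
      rw [x, y, ← map_pow, ← map_pow, ← map_pow, ← map_pow, ← map_mul, ← map_mul] at hxy
      have hσe := congrArg (fun σ : MulAction.stabilizer M24 (none : GolayPt) => σ.1.1)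
        (P.hom_injective hxy)
      have h4 := aff_apply i'.val j'.val 0
      have h5 := aff_apply i'.val j'.val 1
      rw [hσe, aff_apply] at h4 h5
      simp only [affPos, Fin.val_zero, Fin.val_one, mul_zero, mul_one, add_zero,
        Nat.mod_eq_of_lt i.isLt, Nat.mod_eq_of_lt i'.isLt] at h4 h5
      norm_num at h4 h5
      rw [h4] at h5
      have hj : j = j' := by
        have key : ∀ i : Fin 23, ∀ a b : Fin 11,
            (i.val + 2 ^ a.val) % 23 = (i.val + 2 ^ b.val) % 23 → a = b := by decide +kernel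
        exact key i' j j' h5
      have hi : i = i' := Fin.ext h4
      have htt : t = t' := Fin.ext ht
      rw [htt, hi, hj]
  have horb : ∀ p, f p ∈ MulAction.orbit K (eight none : leechLattice) := fun p => by
    refine ⟨⟨P.x ^ p.2.1.val * P.y ^ p.2.2.val * (P.e * P.x ^ p.1.val * P.e * P.x * P.e ^ 5),
      mul_mem (mul_mem (pow_mem hx _) (pow_mem hy _))
        (mul_mem (mul_mem (mul_mem (mul_mem he (pow_mem hx _)) he) hx) (pow_mem he 5))⟩, ?_⟩
    show (P.x ^ p.2.1.val * P.y ^ p.2.2.val * (P.e * P.x ^ p.1.val * P.e * P.x * P.e ^ 5)).1 •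
      eight none = f p
    rw [Subgroup.coe_mul, mul_smul]
  haveI : Finite (MulAction.orbit K (eight none : leechLattice)) := Set.Finite.to_subtype
    (Set.finite_range _)
  have hge : 253 * P.n ≤ Nat.card (MulAction.orbit K (eight none : leechLattice)) := by
    have := Nat.card_le_card_of_injective
      (fun p => (⟨f p, horb p⟩ : MulAction.orbit K (eight none : leechLattice)))
      (fun p q h => hf (congrArg Subtype.val h))
    simp only [Nat.card_prod, Nat.card_fin] at this
    refine le_trans (le_of_eq ?_) this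
    ring
  have hcard : Nat.card K = Nat.card (MulAction.orbit K (eight none : leechLattice)) * 10200960 := by
    rw [← Nat.card_congr (MulAction.orbitProdStabilizerEquivGroup K (eight none : leechLattice)),
      Nat.card_prod]
    congr 1
    refine Eq.trans (Nat.card_congr ?_).symm (H90.natCard_stab_point (none : GolayPt))
    refine Equiv.ofBijective (fun σ => ⟨⟨P.hom σ, hS σ⟩, P.hom_fix σ⟩) ⟨?_, ?_⟩
    · intro a b h
      exact P.hom_injective (congrArg (fun z => z.1.1) h)
    · rintro ⟨⟨g, hg⟩, hgf⟩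
      obtain ⟨σ, rfl⟩ := P.of_fix (g := g) hgf
      exact ⟨σ, rfl⟩
  have hR : K.index * Nat.card (MulAction.orbit K (eight none : leechLattice)) = P.R := by
    have h := K.card_mul_index
    rw [P.card_G, hcard] at h
    nlinarith
  have hle : K.index ≤ P.R / (253 * P.n) := by
    rw [Nat.le_div_iff_mul_le (by have := P.hn; positivity), ← hR]
    exact Nat.mul_le_mul_left _ hge
  have := List.all_eq_true.mp P.index K.index (List.mem_range.mpr (Nat.lt_succ_of_le hle))
  simp only [hi23, hi11, Nat.mod_eq_zero_of_dvd ⟨_, hR.symm⟩, beq_self_eq_true, Bool.and_self,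
    Bool.not_true, Bool.false_or, beq_iff_eq] at this
  exact Subgroup.index_eq_one.mp this

theorem test (f : MulAut P.G) (k : ℕ) (hx : f P.x = P.x ^ k) (he : f P.e = P.e) :
    P.x ^ k = P.x := by
  have h7 : (P.x * P.e) ^ 7 = 1 := by
    refine P.ext_eights fun i => ?_
    have : ∀ m, vecL ((((P.x * P.e) ^ m).1 • eight (H90.pt i) : leechLattice) : GolayPt → ℤ)
        = (stepL P.M.E 1)^[m] (eightL i) := by
      intro m
      induction m with
      | zero => simp [vecL_eight]
      | succ m ih =>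
        rw [pow_succ', Subgroup.coe_mul, mul_smul, Subgroup.coe_mul, mul_smul,
          show P.x.1 = (P.x ^ 1).1 by rw [pow_one], P.vecL_x_pow, P.vecL_e,
          Function.iterate_succ_apply', ih]
        rfl
    rw [this, P.checks.2.2.2.2.2.2.1]
    simp [vecL_eight]
  have h7' : (P.x ^ (k % 23) * P.e) ^ 7 = 1 := by
    have := congrArg f h7
    rw [map_pow, map_mul, map_one, hx, he] at this
    rwa [← P.order_x, pow_mod_orderOf]
  rw [show P.x ^ k = P.x ^ (k % 23) by rw [← P.order_x, pow_mod_orderOf]]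
  by_cases h0 : k % 23 = 0
  · exfalso
    have h1 : P.x ^ k = 1 := by
      rw [← pow_mod_orderOf, P.order_x, h0, pow_zero]
    rw [h1] at hx
    have hx1 : P.x = 1 := f.injective (hx.trans (map_one f).symm)
    have := P.order_x
    rw [hx1, orderOf_one] at this
    norm_num at this
  by_cases h1 : k % 23 = 1
  · rw [h1, pow_one]
  exfalso
  refine P.checks.2.2.2.2.2.2.2 (k % 23) (Nat.mod_lt _ (by norm_num)) h0 h1 ?_
  have : ∀ m, vecL ((((P.x ^ (k % 23) * P.e) ^ m).1 • eight (H90.pt 0) : leechLattice) : GolayPt → ℤ)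
      = (stepL P.M.E (k % 23))^[m] (eightL 0) := by
    intro m
    induction m with
    | zero => simp [vecL_eight]
    | succ m ih =>
      rw [pow_succ', Subgroup.coe_mul, mul_smul, Subgroup.coe_mul, mul_smul,
        P.vecL_x_pow, P.vecL_e, Function.iterate_succ_apply', ih]
      rfl
  rw [← this 7, h7']
  simp [vecL_eight]

theorem two_order : ∀ j < 11, ((2 : ℕ) : ZMod 23) ^ j = ((2 : ℕ) : ZMod 23) → j = 1 := by decide +kernel

/-- every automorphism is inner -/
theorem out_card : Nat.card (Cfsg.Out P.G) = 1 := by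
  haveI : Finite Co0 := co0_finite
  haveI : Fact (Nat.Prime 23) := ⟨by norm_num⟩
  haveI : Fact (Nat.Prime 11) := ⟨by norm_num⟩
  refine out_trivial (p := 23) (q := 11) P.x P.y P.e 2 P.s (by rw [P.card_G]; exact P.sq23)
    P.order_x P.order_y P.yxy P.eye ?_ P.hs.1 (fun g hg => P.norm_x hg)
    (fun g hg ho => P.coset_y hg ho) P.gen (fun f k hx _ he => P.test f k hx he)
  exact two_order

end OutModel

/-- isomorphic groups have outer automorphism groups of one order -/
theorem card_out_congr {G H : Type*} [Group G] [Group H] (e : G ≃* H) :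
    Nat.card (Cfsg.Out G) = Nat.card (Cfsg.Out H) := by
  refine Nat.card_congr (QuotientGroup.congr _ _ (MulAut.congr e) ?_).toEquiv
  ext a
  constructor
  · rintro ⟨_, ⟨g, rfl⟩, rfl⟩
    exact ⟨e g, MulEquiv.ext fun z => by simp⟩
  · rintro ⟨g, rfl⟩
    exact ⟨MulAut.conj (e.symm g), ⟨_, rfl⟩, MulEquiv.ext fun z => by simp⟩

/-- the group in `Perm leechLattice` and the stabiliser -/
noncomputable def infStabEquiv (u : leechLattice) :
    ↥(Co0 ⊓ MulAction.stabilizer (Equiv.Perm leechLattice) u) ≃* MulAction.stabilizer Co0 u where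
  toFun g := ⟨⟨g.1, g.2.1⟩, g.2.2⟩
  invFun g := ⟨g.1.1, g.1.2, g.2⟩
  left_inv _ := rfl
  right_inv _ := rfl
  map_mul' _ _ := rfl

end H95
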