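import Cfsg.Agent.H95.OutModel
import Cfsg.Agent.H95.CentTwist

/-!
Vectors of norm 64 fixed by the element of order five, with given products.
-/

set_option autoImplicit false

namespace H95

open Cfsg Finset

/-- the list with eight values -/
def mkT (a b p q c₁ c₂ c₃ c₄ : ℤ) : List ℤ := List.ofFn fun i : Fin 24 =>
  if i.val = 23 then a else if i.val = 0 then b else if i.val = 3 then p else if i.val = 15 then q
  else match (cycPos i.val).1 with
    | 1 => c₁
    | 2 => c₂
    | 3 => c₃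
    | _ => c₄

/-- one candidate is excluded or known -/
def twLeaf (sols : List (List ℤ)) (l : List ℤ) : Bool := !integralL l || sols.contains l

/-- the search -/
def twSearch (e : ℤ) (sols : List (List ℤ)) : Bool :=
  (List.range 17).all fun a =>
    let A : ℤ := (a : ℤ) - 8
    let B : ℤ := e * (8 - A)
    decide (64 < A * A + B * B) || (List.range 17).all fun p =>
      let P : ℤ := (p : ℤ) - 8
      decide (64 < A * A + B * B + P * P ∨ (A - P) % 2 ≠ 0) || (List.range 7).all fun c₁ =>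
        let C₁ : ℤ := (c₁ : ℤ) - 3
        decide (64 < A * A + B * B + P * P + 5 * (C₁ * C₁) ∨ (A - C₁) % 2 ≠ 0) ||
        (List.range 7).all fun c₂ =>
          let C₂ : ℤ := (c₂ : ℤ) - 3
          decide (64 < A * A + B * B + P * P + 5 * (C₁ * C₁ + C₂ * C₂) ∨ (A - C₂) % 2 ≠ 0) ||
          (List.range 7).all fun c₃ =>
            let C₃ : ℤ := (c₃ : ℤ) - 3
            decide (64 < A * A + B * B + P * P + 5 * (C₁ * C₁ + C₂ * C₂ + C₃ * C₃) ∨ (A - C₃) % 2 ≠ 0) ||
            (List.range 7).all fun c₄ =>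
              let C₄ : ℤ := (c₄ : ℤ) - 3
              let Q : ℤ := 40 - 5 * A - B - P - 5 * (C₁ + C₂ + C₃ + C₄)
              if A * A + B * B + P * P + Q * Q + 5 * (C₁ * C₁ + C₂ * C₂ + C₃ * C₃ + C₄ * C₄) = 64
              then twLeaf sols (mkT A B P Q C₁ C₂ C₃ C₄) else true

theorem twist_cycles : ∀ n : Fin 24,
    n.val = 23 ∨ n.val = 0 ∨ n.val = 3 ∨ n.val = 15 ∨
    ((cycPos n.val).1 = 1 ∧ itF 1 (cycPos n.val).2 = n.val) ∨
    ((cycPos n.val).1 = 2 ∧ itF 5 (cycPos n.val).2 = n.val) ∨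
    ((cycPos n.val).1 = 3 ∧ itF 8 (cycPos n.val).2 = n.val) ∨
    ((cycPos n.val).1 = 4 ∧ itF 11 (cycPos n.val).2 = n.val) := by decide +kernel

/-- sums over eight classes -/
def classSum (F : ℤ → ℤ) (a b p q c₁ c₂ c₃ c₄ : ℤ) : ℤ :=
  F a + F b + F p + F q + 5 * (F c₁ + F c₂ + F c₃ + F c₄)

theorem sum_mkT (F : ℤ → ℤ) (a b p q c₁ c₂ c₃ c₄ : ℤ) :
    ∑ i : Fin 24, F ((mkT a b p q c₁ c₂ c₃ c₄).getD i.val 0) = classSum F a b p q c₁ c₂ c₃ c₄ := by
  have hfin : ∀ i : Fin 24, (mkT a b p q c₁ c₂ c₃ c₄).getD i.val 0 =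
      if i.val = 23 then a else if i.val = 0 then b else if i.val = 3 then p else if i.val = 15 then q
      else match (cycPos i.val).1 with
        | 1 => c₁
        | 2 => c₂
        | 3 => c₃
        | _ => c₄ := by
    intro i
    rw [mkT, List.getD_eq_getElem _ _ (by simp), List.getElem_ofFn]
  simp only [hfin, Fin.sum_univ_succ, Fin.sum_univ_zero]
  simp [cycPos, classSum]
  ring

/-- the fixed vectors -/
theorem twist_solutions {e : ℤ} {sols : List (List ℤ)} {P : PairVec} (he : P.e = e)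
    (hc : twSearch e sols = true) {u : leechLattice} (hu : permHom twStab.1 • u = u)
    (hn : ldot u u = 64) (hV : ldot u Spor.leechV = -40) (hw : ldot u P.w = 32) :
    vecL (u : GolayPt → ℤ) ∈ sols := by
  set l := vecL (u : GolayPt → ℤ) with hl
  set A := l.getD 23 0 with hA
  set B := l.getD 0 0 with hB
  set Pp := l.getD 3 0 with hP
  set Q := l.getD 15 0 with hQ
  set C₁ := l.getD 1 0 with hC1
  set C₂ := l.getD 5 0 with hC2
  set C₃ := l.getD 8 0 with hC3
  set C₄ := l.getD 11 0 with hC4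
  have hinv : ∀ k p, (u : GolayPt → ℤ) ((twStab ^ k).1.1 p) = (u : GolayPt → ℤ) p := by
    intro k
    induction k with
    | zero => intro p; rfl
    | succ k ih =>
      intro p
      rw [pow_succ]
      show (u : GolayPt → ℤ) ((twStab ^ k).1.1 (twStab.1.1 p)) = _
      rw [ih]
      have h := congrArg (fun v : leechLattice => (v : GolayPt → ℤ) (twStab.1.1 p)) hu
      simp only [permHom_apply, Equiv.symm_apply_apply] at h
      exact h.symm
  have hget : ∀ z k, (hz : z < 24) → ∀ n : Fin 24, itF z k = n.val → l.getD n.val 0 = l.getD z 0 := by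
    intro z k hz n hn'
    rw [hl, vecL_getD _ n.isLt, vecL_getD _ hz, ← hinv k (H90.pt ⟨z, hz⟩)]
    refine congrArg _ (H90.idx_injective (Fin.ext ?_))
    rw [twist_pow_idx, H90.idx_pt, H90.idx_pt, hn']
  have hvec : l = mkT A B Pp Q C₁ C₂ C₃ C₄ := by
    conv_lhs => rw [hl, vecL]
    unfold mkT
    congr 1
    funext n
    have hn' : (u : GolayPt → ℤ) (H90.pt n) = l.getD n.val 0 := by
      rw [hl, vecL_getD _ n.isLt]
    rw [hn']
    rcases twist_cycles n with h | h | h | h | ⟨a, b⟩ | ⟨a, b⟩ | ⟨a, b⟩ | ⟨a, b⟩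
    · rw [h]; rfl
    · rw [h]; rfl
    · rw [h]; rfl
    · rw [h]; rfl
    all_goals
      have hne' : n.val ≠ 23 ∧ n.val ≠ 0 ∧ n.val ≠ 3 ∧ n.val ≠ 15 := by
        refine ⟨?_, ?_, ?_, ?_⟩ <;> intro h <;> rw [h] at a <;> exact absurd a (by decide +kernel)
      simp only [if_neg hne'.1, if_neg hne'.2.1, if_neg hne'.2.2.1, if_neg hne'.2.2.2, a]
    · exact hget 1 _ (by norm_num) n b
    · exact hget 5 _ (by norm_num) n b
    · exact hget 8 _ (by norm_num) n b
    · exact hget 11 _ (by norm_num) n b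
  have hsum : ∀ F : ℤ → ℤ, ∑ p, F ((u : GolayPt → ℤ) p) = classSum F A B Pp Q C₁ C₂ C₃ C₄ := by
    intro F
    rw [← sum_mkT, ← hvec, ← Equiv.sum_comp H90.ptEquiv (fun p => F ((u : GolayPt → ℤ) p))]
    refine sum_congr rfl fun i _ => ?_
    rw [hl, vecL_getD _ i.isLt]
    rfl
  have hAe : (u : GolayPt → ℤ) none = A := by
    rw [hA, hl, vecL_getD _ (by norm_num : 23 < 24)]
    exact congrArg _ (H90.pt23).symm
  have hBe : (u : GolayPt → ℤ) (some 0) = B := by
    rw [hB, hl, vecL_getD _ (by norm_num : 0 < 24)]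
    rfl
  have hn' : A * A + B * B + Pp * Pp + Q * Q + 5 * (C₁ * C₁ + C₂ * C₂ + C₃ * C₃ + C₄ * C₄) = 64 := by
    rw [← sqNorm_eq_ldot] at hn
    unfold sqNorm at hn
    rw [hsum (fun t => t ^ 2)] at hn
    simp only [classSum] at hn
    linarith
  have hV' : Q = 40 - 5 * A - B - Pp - 5 * (C₁ + C₂ + C₃ + C₄) := by
    have h : ldot u Spor.leechV = -4 * (u : GolayPt → ℤ) none - ∑ p, (u : GolayPt → ℤ) p := by
      rw [dot_const leechV_none leechV_some, sum_option]
      ring
    rw [h, hsum (fun t => t), hAe] at hV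
    simp only [classSum] at hV
    linarith
  have hw' : B = e * (8 - A) := by
    rw [P.dot, hAe, hBe, he] at hw
    rcases P.he with h | h <;> rw [← he, h] <;> rw [← he, h] at hw <;> linarith
  obtain ⟨m, hpar, -, -⟩ := mem_leech.mp u.2
  have hev : ∀ z, z < 24 → (A - l.getD z 0) % 2 = 0 := by
    intro z hz
    rw [hA, hl, vecL_getD _ (by norm_num : 23 < 24), vecL_getD _ hz]
    have h1 := hpar (H90.pt ⟨z, hz⟩)
    have h2 := hpar (H90.pt ⟨23, by norm_num⟩)
    omega
  have bnd : ∀ t : ℤ, t ^ 2 ≤ 64 → -8 ≤ t ∧ t ≤ 8 := fun t ht => ⟨by nlinarith, by nlinarith⟩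
  have bnd' : ∀ t : ℤ, 5 * t ^ 2 ≤ 64 → -3 ≤ t ∧ t ≤ 3 := fun t ht => ⟨by nlinarith, by nlinarith⟩
  have sA := mul_self_nonneg A
  have sB := mul_self_nonneg B
  have sP := mul_self_nonneg Pp
  have sQ := mul_self_nonneg Q
  have s1 := mul_self_nonneg C₁
  have s2 := mul_self_nonneg C₂
  have s3 := mul_self_nonneg C₃
  have s4 := mul_self_nonneg C₄
  have bA := bnd A (by rw [sq]; linarith)
  have bP := bnd Pp (by rw [sq]; linarith)
  have b1 := bnd' C₁ (by rw [sq]; linarith)
  have b2 := bnd' C₂ (by rw [sq]; linarith)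
  have b3 := bnd' C₃ (by rw [sq]; linarith)
  have b4 := bnd' C₄ (by rw [sq]; linarith)
  have eA : (((A + 8).toNat : ℕ) : ℤ) - 8 = A := by omega
  have eP : (((Pp + 8).toNat : ℕ) : ℤ) - 8 = Pp := by omega
  have e1 : (((C₁ + 3).toNat : ℕ) : ℤ) - 3 = C₁ := by omega
  have e2 : (((C₂ + 3).toNat : ℕ) : ℤ) - 3 = C₂ := by omega
  have e3 : (((C₃ + 3).toNat : ℕ) : ℤ) - 3 = C₃ := by omega
  have e4 : (((C₄ + 3).toNat : ℕ) : ℤ) - 3 = C₄ := by omega
  simp only [twSearch] at hc
  have h1 := range_all hc (z := A) (r := 8) (by omega) (by omega)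
  simp only [Nat.cast_ofNat, eA, ← hw', Bool.or_eq_true, decide_eq_true_eq] at h1
  have h2 := range_all (h1.resolve_left (by linarith)) (z := Pp) (r := 8) (by omega) (by omega)
  simp only [Nat.cast_ofNat, eP, Bool.or_eq_true, decide_eq_true_eq] at h2
  have h3 := range_all (h2.resolve_left (not_or.mpr ⟨by linarith, not_not.mpr (hev 3 (by norm_num))⟩))
    (z := C₁) (r := 3) (by omega) (by omega)
  simp only [Nat.cast_ofNat, e1, Bool.or_eq_true, decide_eq_true_eq] at h3
  have h4 := range_all (h3.resolve_left (not_or.mpr ⟨by linarith, not_not.mpr (hev 1 (by norm_num))⟩))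
    (z := C₂) (r := 3) (by omega) (by omega)
  simp only [Nat.cast_ofNat, e2, Bool.or_eq_true, decide_eq_true_eq] at h4
  have h5 := range_all (h4.resolve_left (not_or.mpr ⟨by linarith, not_not.mpr (hev 5 (by norm_num))⟩))
    (z := C₃) (r := 3) (by omega) (by omega)
  simp only [Nat.cast_ofNat, e3, Bool.or_eq_true, decide_eq_true_eq] at h5
  have h6 := range_all (h5.resolve_left (not_or.mpr ⟨by linarith, not_not.mpr (hev 8 (by norm_num))⟩))
    (z := C₄) (r := 3) (by omega) (by omega)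
  simp only [Nat.cast_ofNat, e4, ← hV', if_pos hn', twLeaf, ← hvec, Bool.or_eq_true,
    Bool.not_eq_true', List.contains_iff_mem] at h6
  rcases h6 with h6 | h6
  · have := integralL_vec u
    rw [← hl, h6] at this
    exact absurd this (by simp)
  · exact h6

end H95
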