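import Cfsg.Agent.H95.OutCritTwo
import Cfsg.Agent.H95.OutStab
import Cfsg.Agent.H95.TwistFixed

/-!
Automorphisms of the joint stabiliser of the two model vectors, from one further element given
by a matrix.
-/

set_option autoImplicit false

namespace H95

open Cfsg Finset

/-- multiply by the element of order five on lists -/
def twL (l : List ℤ) : List ℤ :=
  List.ofFn fun i : Fin 24 => l.getD (itF i.val 4) 0

theorem vecL_twist (u : leechLattice) :
    vecL ((permHom twStab.1 • u : leechLattice) : GolayPt → ℤ) = twL (vecL (u : GolayPt → ℤ)) := by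
  have h4 : ∀ i : Fin 24, itF i.val 4 < 24 := by decide +kernel
  have h5 : ∀ i : Fin 24, itF (itF i.val 4) 1 = i.val := by decide +kernel
  refine vecL_perm (src := fun i => if h : i < 24 then itF i 4 else 0)
    (fun i hi => by rw [dif_pos hi]; exact h4 ⟨i, hi⟩) (fun i => ?_) u |>.trans ?_
  · refine H90.idx_injective (Fin.ext ?_)
    have h := twist_pow_idx 1 (H90.pt ⟨if h : i.val < 24 then itF i.val 4 else 0,
      by rw [dif_pos i.isLt]; exact h4 i⟩)
    rw [pow_one, H90.idx_pt] at h
    rw [h, H90.idx_pt]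
    simp only [dif_pos i.isLt]
    exact h5 i
  · unfold twL
    congr 1
    funext i
    simp only [dif_pos i.isLt]

/-- the element of order five on positions -/
def twNext (i : Fin 24) : Fin 24 := ⟨itF i.val 1 % 24, Nat.mod_lt _ (by norm_num)⟩

/-- a letter on lists: `0` translation-free doubling, `1` the element of order five, `2` the matrix -/
def letterL (E : List (List ℤ)) : ℕ → List ℤ → List ℤ
  | 0, l => scaleL 1 l
  | 1, l => twL l
  | _, l => applyL E l

/-- evaluate a number before use -/
def forceN {α : Type} : ℕ → (ℕ → α) → α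
  | 0, k => k 0
  | m + 1, k => k (m + 1)

theorem forceN_eq {α : Type} (n : ℕ) (k : ℕ → α) : forceN n k = k n := by cases n <;> rfl

/-- evaluate an integer before use -/
def forceZ {α : Type} : ℤ → (ℤ → α) → α
  | Int.ofNat n, k => forceN n fun m => k (Int.ofNat m)
  | Int.negSucc n, k => forceN n fun m => k (Int.negSucc m)

theorem forceZ_eq {α : Type} (z : ℤ) (k : ℤ → α) : forceZ z k = k z := by
  cases z <;> simp only [forceZ, forceN_eq]

/-- evaluate a list before use -/
def forceL {α : Type} : List ℤ → (List ℤ → α) → α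
  | [], k => k []
  | z :: l, k => forceZ z fun z' => forceL l fun l' => k (z' :: l')

theorem forceL_eq {α : Type} : ∀ (l : List ℤ) (k : List ℤ → α), forceL l k = k l
  | [], k => rfl
  | z :: l, k => by rw [forceL, forceZ_eq, forceL_eq l]

/-- a word on lists -/
def wordL (E : List (List ℤ)) : List ℕ → List ℤ → List ℤ
  | [], l => l
  | a :: w, l => forceL (wordL E w l) fun r => forceL (letterL E a r) id

theorem wordL_nil (E : List (List ℤ)) (l : List ℤ) : wordL E [] l = l := rfl

theorem wordL_cons (E : List (List ℤ)) (a : ℕ) (w : List ℕ) (l : List ℤ) :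
    wordL E (a :: w) l = letterL E a (wordL E w l) := by
  rw [wordL, forceL_eq, forceL_eq]; rfl

/-- the word `x^k σ^j f^a σ^b` -/
def relWord (k j a b : ℕ) : List ℕ :=
  List.replicate k 0 ++ List.replicate j 1 ++ List.replicate a 2 ++ List.replicate b 1

/-- the tests on the element -/
def pairEltCheck (E : List (List ℤ)) (e : ℤ) : Bool :=
  decide (applyL E (mkL (-5) (-1) (-1) (-1)) = mkL (-5) (-1) (-1) (-1)) &&
  decide (applyL E (mkL 4 (4 * e) 0 0) = mkL 4 (4 * e) 0 0) &&
  (List.finRange 24).all (fun i => applyL E (twL (eightL i)) == twL (applyL E (eightL i))) &&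
  (List.finRange 24).all (fun i => (applyL E)^[5] (eightL i) == eightL i) &&
  (applyL E (eightL 23) != eightL 23)

/-- the relations hold for the element and fail for all but one other candidate -/
def relCheck (E : List (List ℤ)) (rels : List (ℕ × ℕ)) (sp : ℕ × ℕ × ℕ) : Bool :=
  rels.all (fun r => (List.finRange 24).all fun i =>
    (wordL E (relWord 1 r.1 1 0))^[r.2] (eightL i) == eightL i) &&
  [1, 10].all fun k => (List.range 5).all fun a => (List.range 5).all fun b =>
    decide ((k, a, b) = (1, 1, 0) ∨ (k, a, b) = sp) || rels.any fun r =>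
      (wordL E (relWord k r.1 a b))^[r.2] (eightL 3) != eightL 3

/-- the two words in the point stabiliser -/
def wordsCheck (E : List (List ℤ)) (wt w7 : List ℕ) (pt p7 : Fin 24 → Fin 24) : Bool :=
  (List.finRange 24).all (fun i => wordL E wt (eightL i) == eightL (pt i)) &&
  (List.finRange 24).all (fun i => wordL E w7 (eightL i) == eightL (p7 i)) &&
  decide (pt 23 = 23 ∧ p7 23 = 23 ∧ p7 1 ≠ 1) &&
  (List.finRange 24).all (fun i => decide (p7^[7] i = i)) &&
  (List.finRange 24).all (fun i => twL (eightL i) == eightL (twNext i)) &&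
  (List.finRange 24).all (fun i => decide (pt (twNext i) = twNext (twNext (pt i))))

theorem eightL_injective : ∀ i j : Fin 24, eightL i = eightL j → i = j := by decide +kernel

/-- the admissible indices -/
def pairIndexCheck (R n : ℕ) : Bool :=
  (List.range (R / n + 1)).all fun d => !(d % 11 == 1 && R % d == 0) || d == 1

theorem index_55 : (List.range 289).all
    (fun d => !(d % 11 == 1 && d % 5 == 1 && 288 % d == 0) || d == 1) = true := by decide +kernel

theorem three_inj : ∀ a b : Fin 5, ((3 ^ a.val : ℕ) : ZMod 11) = ((3 ^ b.val : ℕ) : ZMod 11) → a = b := by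
  decide +kernel

theorem two_sixteen : ((2 : ℕ) : ZMod 5) ^ 4 = 1 := by decide +kernel

theorem two_inj : ∀ j : Fin 4, (1 : ZMod 5) = ((2 : ℕ) : ZMod 5) ^ j.val → j.val = 0 := by decide +kernel

/-- the data -/
structure OutPair where
  P : PairVec
  M : MatData
  R : ℕ
  rels : List (ℕ × ℕ)
  sp : ℕ × ℕ × ℕ
  wt : List ℕ
  w7 : List ℕ
  pt : Fin 24 → Fin 24
  p7 : Fin 24 → Fin 24
  orb : List (List ℕ)
  card : Nat.card P.group = R * 443520
  sq11 : ¬ 11 ^ 2 ∣ R * 443520
  elt : pairEltCheck M.E P.e = true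
  sol : twSearch P.e ((List.range 5).map fun a => (applyL M.E)^[a] (eightL 23)) = true
  rel : relCheck M.E rels sp = true
  words : wordsCheck M.E wt w7 pt p7 = true
  orbit : decide ((orb.map fun w => wordL M.E w (eightL 23)).Nodup) = true
  npos : 0 < orb.length
  index : pairIndexCheck R orb.length = true

namespace OutPair

variable (O : OutPair)

/-- the group -/
abbrev G : Subgroup Co0 := O.P.group

/-- the inclusion -/
noncomputable def hom : m22Grp →* O.G := O.P.hom

theorem hom_injective : Function.Injective O.hom := O.P.hom_injective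

theorem hom_val (τ : m22Grp) : (O.hom τ).1 = permHom τ.1 := rfl

instance finite_G : Finite O.G :=
  haveI : Finite Co0 := co0_finite
  inferInstance

theorem card_G : Nat.card O.G = O.R * 443520 := O.card

theorem checks :
    applyL O.M.E (mkL (-5) (-1) (-1) (-1)) = mkL (-5) (-1) (-1) (-1) ∧
    applyL O.M.E (mkL 4 (4 * O.P.e) 0 0) = mkL 4 (4 * O.P.e) 0 0 ∧
    (∀ i, applyL O.M.E (twL (eightL i)) = twL (applyL O.M.E (eightL i))) ∧
    (∀ i, (applyL O.M.E)^[5] (eightL i) = eightL i) ∧
    applyL O.M.E (eightL 23) ≠ eightL 23 := by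
  have h := O.elt
  simp only [pairEltCheck, Bool.and_eq_true, decide_eq_true_eq, List.all_eq_true, List.mem_finRange,
    forall_const, beq_iff_eq, bne_iff_ne] at h
  obtain ⟨⟨⟨⟨a1, a2⟩, a3⟩, a4⟩, a5⟩ := h
  exact ⟨a1, a2, a3, a4, a5⟩

theorem vecL_leechV : vecL (Spor.leechV : GolayPt → ℤ) = mkL (-5) (-1) (-1) (-1) := by
  unfold vecL mkL
  congr 1
  funext i
  rw [pt_cases]
  split
  · exact leechV_none
  · rw [leechV_some]; split <;> (try split) <;> rfl

theorem vecL_w : vecL (O.P.w : GolayPt → ℤ) = mkL 4 (4 * O.P.e) 0 0 := by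
  unfold vecL mkL
  congr 1
  funext i
  rw [pt_cases]
  split
  · exact O.P.h0
  · split
    · rename_i h; rw [h, Nat.cast_zero, O.P.h1]
    · rename_i h23 h0
      have hne : ((i.val : ℕ) : ZMod 23) ≠ 0 := by
        intro hz
        rw [ZMod.natCast_eq_zero_iff] at hz
        have := i.isLt
        omega
      rw [O.P.h2 _ hne]; split <;> rfl

/-- doubling -/
noncomputable def x : O.G := O.hom dblStab

/-- the element of order five -/
noncomputable def s : O.G := O.hom twStab

/-- the further element -/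
noncomputable def f : O.G :=
  ⟨O.M.elt, eq_of_vecL (by rw [O.M.vecL_elt, vecL_leechV, O.checks.1]),
    eq_of_vecL (by rw [O.M.vecL_elt, O.vecL_w, O.checks.2.1])⟩

theorem order_x : orderOf O.x = 11 := by
  rw [x, orderOf_injective _ O.hom_injective]; exact order_dblStab

theorem order_s : orderOf O.s = 5 := by
  rw [s, orderOf_injective _ O.hom_injective]; exact order_twStab

theorem sxs : O.s * O.x * O.s⁻¹ = O.x ^ 3 := by
  rw [x, s, ← map_inv, ← map_mul, ← map_mul, twist_dbl, map_pow]

/-- the letters -/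
noncomputable def letter : ℕ → O.G
  | 0 => O.x
  | 1 => O.s
  | _ => O.f

/-- the value of a word -/
noncomputable def evalW (w : List ℕ) : O.G := (w.map O.letter).prod

theorem vecL_eval (w : List ℕ) (u : leechLattice) :
    vecL (((O.evalW w).1 • u : leechLattice) : GolayPt → ℤ) = wordL O.M.E w (vecL (u : GolayPt → ℤ)) := by
  induction w with
  | nil => simp [evalW, wordL_nil]
  | cons a w ih =>
    rw [evalW, List.map_cons, List.prod_cons, Subgroup.coe_mul, mul_smul, wordL_cons, ← ih, evalW]
    rcases a with _ | _ | a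
    · show vecL ((permHom dblPerm • _ : leechLattice) : GolayPt → ℤ) = _
      rw [show permHom dblPerm = permHom (dblPerm ^ 1) by rw [pow_one], vecL_double]
      rfl
    · show vecL ((permHom twStab.1 • _ : leechLattice) : GolayPt → ℤ) = _
      rw [vecL_twist]
      rfl
    · exact O.M.vecL_elt _

theorem vecL_eval_pow (w : List ℕ) (n : ℕ) (u : leechLattice) :
    vecL ((((O.evalW w) ^ n).1 • u : leechLattice) : GolayPt → ℤ)
      = (wordL O.M.E w)^[n] (vecL (u : GolayPt → ℤ)) := by
  induction n with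
  | zero => simp
  | succ n ih =>
    rw [pow_succ', Subgroup.coe_mul, mul_smul, O.vecL_eval, ih, Function.iterate_succ_apply']

theorem evalW_mem {K : Subgroup O.G} (hx : O.x ∈ K) (hs : O.s ∈ K) (hf : O.f ∈ K) (w : List ℕ) :
    O.evalW w ∈ K := by
  refine list_prod_mem fun g hg => ?_
  obtain ⟨a, -, rfl⟩ := List.mem_map.mp hg
  rcases a with _ | _ | a
  · exact hx
  · exact hs
  · exact hf

theorem ext_eights {g h : O.G}
    (H : ∀ i : Fin 24, vecL ((g.1 • eight (H90.pt i) : leechLattice) : GolayPt → ℤ)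
      = vecL ((h.1 • eight (H90.pt i) : leechLattice) : GolayPt → ℤ)) : g = h := by
  refine Subtype.ext ?_
  rw [← inv_mul_eq_one]
  refine co0_eq_one_of_eights fun p => ?_
  have := eq_of_vecL (H (H90.idx p))
  rw [H90.pt_idx] at this
  rw [mul_smul, ← this, inv_smul_smul]

theorem vecL_f (u : leechLattice) :
    vecL ((O.f.1 • u : leechLattice) : GolayPt → ℤ) = applyL O.M.E (vecL (u : GolayPt → ℤ)) :=
  O.M.vecL_elt u

theorem vecL_f_pow (k : ℕ) (u : leechLattice) :
    vecL (((O.f ^ k).1 • u : leechLattice) : GolayPt → ℤ) = (applyL O.M.E)^[k] (vecL (u : GolayPt → ℤ)) := by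
  rw [SubgroupClass.coe_pow]
  exact O.M.vecL_pow k u

theorem f_five : O.f ^ 5 = 1 :=
  O.ext_eights fun i => by
    rw [O.vecL_f_pow, vecL_eight, O.checks.2.2.2.1]
    simp [vecL_eight]

theorem fs : O.f * O.s = O.s * O.f := by
  refine O.ext_eights fun i => ?_
  rw [Subgroup.coe_mul, mul_smul, Subgroup.coe_mul, mul_smul, O.vecL_f, s, hom_val, vecL_twist,
    vecL_twist, O.vecL_f, vecL_eight, O.checks.2.2.1]

theorem hom_fix (τ : m22Grp) : (O.hom τ).1 • eight none = eight none := by
  rw [hom_val, permHom_eight, show τ.1.1 none = none from τ.2.1]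

theorem dots (g : O.G) : ldot (g.1 • eight none) Spor.leechV = -40 ∧
    ldot (g.1 • eight none) O.P.w = 32 := by
  constructor
  · calc ldot (g.1 • eight none) Spor.leechV = ldot (g.1 • eight none) (g.1 • Spor.leechV) := by
          rw [g.2.1]
      _ = -40 := by rw [co0_dot, ldot_comm, ldot_eight, leechV_none]; norm_num
  · calc ldot (g.1 • eight none) O.P.w = ldot (g.1 • eight none) (g.1 • O.P.w) := by rw [g.2.2]
      _ = 32 := by rw [co0_dot, ldot_comm, ldot_eight, O.P.h0]; norm_num

theorem of_fix {g : O.G} (hge : g.1 • eight none = eight none) : ∃ τ, O.hom τ = g := by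
  obtain ⟨σ, hσ, hgσ⟩ := mono_of_const hge leechV_some (by norm_num) g.2.1
  have h' : σ.1 (some 0) = some 0 := by
    have e := congrArg (fun v : leechLattice => (v : GolayPt → ℤ) (σ.1 (some 0))) g.2.2
    simp only [hgσ, permHom_apply, Equiv.symm_apply_apply, O.P.h1] at e
    rcases hy : σ.1 (some 0) with _ | y
    · exact absurd (σ.1.injective (hy.trans hσ.symm)) (by simp)
    · by_cases hy0 : y = 0
      · rw [hy0]
      · rw [hy, O.P.h2 y hy0] at e
        rcases O.P.he with h | h <;> rw [h] at e <;> norm_num at e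
  exact ⟨⟨σ, hσ, h'⟩, Subtype.ext hgσ.symm⟩

theorem norm22 {τ : m22Grp} {m : ℕ} (h : τ * dblStab * τ⁻¹ = dblStab ^ m) :
    ∃ i j : ℕ, τ = dblStab ^ i * twStab ^ j := by
  haveI : Fact (Nat.Prime 11) := ⟨by norm_num⟩
  set Nm := Subgroup.normalizer ((Subgroup.zpowers dblStab : Subgroup m22Grp) : Set m22Grp)
  have hd : dblStab ∈ Nm := Subgroup.le_normalizer (Subgroup.mem_zpowers _)
  have ht : twStab ∈ Nm := norm22_conj twist_dbl
  let F : Fin 11 × Fin 5 → Nm := fun p =>
    ⟨dblStab ^ p.1.val * twStab ^ p.2.val, mul_mem (pow_mem hd _) (pow_mem ht _)⟩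
  haveI : Finite Nm := inferInstance
  have hF : Function.Bijective F := by
    refine (Nat.bijective_iff_injective_and_card F).mpr ⟨?_, ?_⟩
    · rintro ⟨i, j⟩ ⟨i', j'⟩ h
      have h' : dblStab ^ i.val * twStab ^ j.val = dblStab ^ i'.val * twStab ^ j'.val :=
        congrArg Subtype.val h
      have hconj := congrArg (fun z => z * dblStab * z⁻¹) h'
      simp only [mul_inv_rev] at hconj
      have e : ∀ a b : ℕ, dblStab ^ a * twStab ^ b * dblStab * ((twStab ^ b)⁻¹ * (dblStab ^ a)⁻¹)
          = dblStab ^ (3 ^ b) := by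
        intro a b
        have h1 := conj_pow_iter twist_dbl b 1
        rw [pow_one, mul_one] at h1
        rw [show dblStab ^ a * twStab ^ b * dblStab * ((twStab ^ b)⁻¹ * (dblStab ^ a)⁻¹)
          = dblStab ^ a * (twStab ^ b * dblStab * (twStab ^ b)⁻¹) * (dblStab ^ a)⁻¹ by group, h1,
          mul_inv_eq_iff_eq_mul, ← pow_add, ← pow_add, add_comm]
      rw [e, e] at hconj
      have hz := zmod_of_pow_eq order_dblStab hconj
      have hj : j = j' := by
        exact three_inj j j' hz
      subst hj
      have hi : dblStab ^ i.val = dblStab ^ i'.val := mul_right_cancel h'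
      rw [pow_inj_mod, order_dblStab, Nat.mod_eq_of_lt i.isLt, Nat.mod_eq_of_lt i'.isLt] at hi
      exact Prod.ext (Fin.ext hi) rfl
    · rw [Nat.card_prod, Nat.card_fin, Nat.card_fin, card_norm_dbl]
  obtain ⟨p, hp⟩ := hF.2 ⟨τ, norm22_conj h⟩
  exact ⟨p.1.val, p.2.val, (congrArg Subtype.val hp).symm⟩

theorem norm_x {g : O.G} (hg : g * O.x * g⁻¹ ∈ Subgroup.zpowers O.x) :
    ∃ i j : ℕ, g = O.x ^ i * O.s ^ j := by
  obtain ⟨k, hk⟩ := mem_powers_iff_mem_zpowers.mpr hg
  have hgx : (g * O.x * g⁻¹).1 • eight none = eight none := by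
    rw [← hk]
    show (O.x ^ k).1 • eight none = eight none
    rw [x, ← map_pow]; exact O.hom_fix _
  have hu : permHom dblPerm • ((g.1)⁻¹ • eight none) = (g.1)⁻¹ • eight none := by
    simp only [Subgroup.coe_mul, InvMemClass.coe_inv, mul_smul] at hgx
    exact eq_inv_smul_iff.mpr hgx
  have he : (g.1)⁻¹ • eight none = eight none := by
    refine O.P.eq_eight hu ?_ ?_ ?_
    · rw [co0_dot, eight_norm]
    · simpa using (O.dots g⁻¹).1
    · simpa using (O.dots g⁻¹).2
  have hge : g.1 • eight none = eight none := by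
    conv_lhs => rw [← he]
    exact smul_inv_smul _ _
  obtain ⟨τ, rfl⟩ := O.of_fix hge
  have hτ : τ * dblStab * τ⁻¹ = dblStab ^ k := by
    refine O.hom_injective ?_
    rw [map_mul, map_mul, map_inv, map_pow]
    exact hk.symm
  obtain ⟨i, j, rfl⟩ := norm22 hτ
  exact ⟨i, j, by rw [x, s, ← map_pow, ← map_pow, ← map_mul]⟩

theorem cent_s {g : O.G} (hg : g * O.s = O.s * g) :
    ∃ a b : ℕ, a < 5 ∧ b < 5 ∧ g = O.f ^ a * O.s ^ b := by
  have hu : permHom twStab.1 • (g.1 • eight none) = g.1 • eight none := by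
    have h' := congrArg (fun z : O.G => z.1 • eight none) hg
    simp only [Subgroup.coe_mul, mul_smul] at h'
    rw [show O.s.1 • eight none = eight none from O.hom_fix _] at h'
    exact h'.symm
  have hmem := twist_solutions rfl O.sol hu (by rw [co0_dot, eight_norm]) (O.dots g).1 (O.dots g).2
  obtain ⟨a, ha, e⟩ := List.mem_map.mp hmem
  rw [List.mem_range] at ha
  have hfa : (O.f ^ a).1 • eight none = g.1 • eight none :=
    eq_of_vecL (by rw [O.vecL_f_pow, show vecL ((eight none : leechLattice) : GolayPt → ℤ) = eightL 23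
      from vecL_eight 23]; exact e)
  have hfix : ((O.f ^ a)⁻¹ * g).1 • eight none = eight none := by
    rw [Subgroup.coe_mul, mul_smul, ← hfa, InvMemClass.coe_inv, inv_smul_smul]
  obtain ⟨τ, hτ⟩ := O.of_fix hfix
  have hc : τ * twStab = twStab * τ := by
    refine O.hom_injective ?_
    rw [map_mul, map_mul, hτ]
    exact ((show Commute O.f O.s from O.fs).pow_left a).inv_left.mul_left hg
  obtain ⟨b, hb⟩ := mem_powers_iff_mem_zpowers.mpr (centralizer_twist hc)
  refine ⟨a, b % 5, ha, Nat.mod_lt _ (by norm_num), ?_⟩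
  rw [← O.order_s, pow_mod_orderOf, s, ← map_pow, show twStab ^ b = τ from hb, hτ, mul_inv_cancel_left]

theorem gen : Subgroup.closure ({O.x, O.s, O.f} : Set O.G) = ⊤ := by
  haveI : Fact (Nat.Prime 11) := ⟨by norm_num⟩
  haveI : Fact (Nat.Prime 5) := ⟨by norm_num⟩
  haveI : Finite Co0 := co0_finite
  set K := Subgroup.closure ({O.x, O.s, O.f} : Set O.G) with hK
  have hx : O.x ∈ K := Subgroup.subset_closure (by simp)
  have hs : O.s ∈ K := Subgroup.subset_closure (by simp)
  have hf : O.f ∈ K := Subgroup.subset_closure (by simp)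
  have hw := O.words
  simp only [wordsCheck, Bool.and_eq_true, List.all_eq_true, List.mem_finRange, forall_const,
    beq_iff_eq, bne_iff_ne] at hw
  simp only [decide_eq_true_eq] at hw
  obtain ⟨⟨⟨⟨⟨hpt, hp7⟩, c1, c2, c3⟩, c4⟩, c5⟩, c6⟩ := hw
  have t1 : wordL O.M.E O.wt (eightL 23) = eightL 23 := by rw [hpt, c1]
  have t2 : ∀ i, wordL O.M.E O.wt (twL (eightL i)) = twL (twL (wordL O.M.E O.wt (eightL i))) := fun i => by
    rw [c5, hpt, hpt, c5, c5, c6]
  have v1 : wordL O.M.E O.w7 (eightL 23) = eightL 23 := by rw [hp7, c2]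
  have v2 : ∀ i, (wordL O.M.E O.w7)^[7] (eightL i) = eightL i := fun i => by
    have key : ∀ n : ℕ, (wordL O.M.E O.w7)^[n] (eightL i) = eightL (O.p7^[n] i) := by
      intro n
      induction n with
      | zero => rfl
      | succ n ih => rw [Function.iterate_succ_apply', Function.iterate_succ_apply', ih, hp7]
    rw [key, c4]
  have v3 : wordL O.M.E O.w7 (eightL 1) ≠ eightL 1 := fun h => c3 (by
    rw [hp7] at h; exact eightL_injective _ _ h)
  have h23 : vecL ((eight none : leechLattice) : GolayPt → ℤ) = eightL 23 := vecL_eight 23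
  obtain ⟨τ, hτ⟩ := O.of_fix (g := O.evalW O.wt) (eq_of_vecL (by rw [O.vecL_eval, h23, t1]))
  obtain ⟨θ, hθ⟩ := O.of_fix (g := O.evalW O.w7) (eq_of_vecL (by rw [O.vecL_eval, h23, v1]))
  have htconj : τ * twStab * τ⁻¹ = twStab ^ 2 := by
    rw [mul_inv_eq_iff_eq_mul]
    refine O.hom_injective (O.ext_eights fun i => ?_)
    rw [map_mul, map_mul, hτ, pow_two, map_mul, Subgroup.coe_mul, mul_smul, Subgroup.coe_mul,
      Subgroup.coe_mul, mul_smul, mul_smul, O.vecL_eval, hom_val, vecL_twist, vecL_twist, vecL_twist,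
      O.vecL_eval, vecL_eight, t2]
  have hθ7 : orderOf θ = 7 := by
    haveI : Fact (Nat.Prime 7) := ⟨by norm_num⟩
    rw [← orderOf_injective O.hom O.hom_injective, hθ]
    refine orderOf_eq_prime (O.ext_eights fun i => ?_) fun h => v3 ?_
    · rw [O.vecL_eval_pow, vecL_eight, v2]; simp [vecL_eight]
    · have h1 := O.vecL_eval O.w7 (eight (H90.pt 1))
      rw [h, Subgroup.coe_one, one_smul, vecL_eight] at h1
      exact h1.symm
  have hτ4 : 4 ∣ orderOf τ := by
    have h1 : ∀ m : ℕ, τ ^ m = 1 → 4 ∣ m := by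
      intro m hm
      have h2 := conj_pow_iter htconj m 1
      rw [hm, pow_one, one_mul, inv_one, mul_one, mul_one] at h2
      have h3 := zmod_of_pow_eq order_twStab (a := 1) (b := 2 ^ m) (by rw [pow_one]; exact h2)
      rw [Nat.cast_one, Nat.cast_pow, ← Nat.div_add_mod m 4, pow_add, pow_mul] at h3
      rw [two_sixteen, one_pow, one_mul] at h3
      have := two_inj ⟨m % 4, Nat.mod_lt _ (by norm_num)⟩ h3
      exact Nat.dvd_of_mod_eq_zero this
    exact h1 _ (pow_orderOf_eq_one τ)
  set H := K.comap O.hom with hH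
  have hHx : dblStab ∈ H := hx
  have hHs : twStab ∈ H := hs
  have hHτ : τ ∈ H := show O.hom τ ∈ K by rw [hτ]; exact O.evalW_mem hx hs hf _
  have hHθ : θ ∈ H := show O.hom θ ∈ K by rw [hθ]; exact O.evalW_mem hx hs hf _
  have hcard : Nat.card m22Grp = 443520 := H90.natCard_stab_pair (by simp)
  have hS : H = ⊤ := by
    have hi11 : H.index % 11 = 1 := by
      refine index_modEq_of_norm (by rw [hcard]; norm_num) order_dblStab H fun g hg => ?_
      obtain ⟨k, hk⟩ := mem_powers_iff_mem_zpowers.mpr hg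
      obtain ⟨i, j, rfl⟩ := norm22 hk.symm
      exact mul_mem (pow_mem hHx i) (pow_mem hHs j)
    have hi5 : H.index % 5 = 1 := by
      refine index_modEq_of_norm (by rw [hcard]; norm_num) order_twStab H fun g hg => ?_
      obtain ⟨m, b, rfl⟩ := normalizer_twist htconj hg
      exact mul_mem (pow_mem hHτ m) (pow_mem hHs b)
    have hdiv : H.index ∣ 288 := by
      have h1540 : 1540 ∣ Nat.card H := by
        have a : 11 ∣ Nat.card H := order_dblStab.symm.dvd.trans (Subgroup.orderOf_dvd_natCard H hHx)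
        have b : 5 ∣ Nat.card H := order_twStab.symm.dvd.trans (Subgroup.orderOf_dvd_natCard H hHs)
        have c : 7 ∣ Nat.card H := hθ7.symm.dvd.trans (Subgroup.orderOf_dvd_natCard H hHθ)
        have d : 4 ∣ Nat.card H := hτ4.trans (Subgroup.orderOf_dvd_natCard H hHτ)
        omega
      have h := H.card_mul_index
      rw [hcard] at h
      obtain ⟨t, ht⟩ := h1540
      rw [ht] at h
      exact ⟨t, by nlinarith⟩
    have := List.all_eq_true.mp index_55 H.index
      (List.mem_range.mpr (Nat.lt_succ_of_le (Nat.le_of_dvd (by norm_num) hdiv)))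
    simp only [hi5, hi11, Nat.mod_eq_zero_of_dvd hdiv, beq_self_eq_true, Bool.and_self, Bool.not_true,
      Bool.false_or, beq_iff_eq] at this
    exact Subgroup.index_eq_one.mp this
  have hSK : ∀ σ, O.hom σ ∈ K := fun σ => by
    have : σ ∈ H := hS ▸ Subgroup.mem_top σ
    exact this
  have hi11 : K.index % 11 = 1 := by
    refine index_modEq_of_norm (by rw [O.card_G]; exact O.sq11) O.order_x K fun g hg => ?_
    obtain ⟨i, j, rfl⟩ := O.norm_x hg
    exact mul_mem (pow_mem hx i) (pow_mem hs j)
  haveI : Finite (MulAction.orbit K (eight none : leechLattice)) := Set.Finite.to_subtype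
    (Set.finite_range _)
  have hge : O.orb.length ≤ Nat.card (MulAction.orbit K (eight none : leechLattice)) := by
    let F : Fin O.orb.length → MulAction.orbit K (eight none : leechLattice) := fun i =>
      ⟨(⟨O.evalW (O.orb.get i), O.evalW_mem hx hs hf _⟩ : K) • eight none, MulAction.mem_orbit _ _⟩
    have hF : Function.Injective F := by
      intro i j h
      have h1 := congrArg (fun u : leechLattice => vecL (u : GolayPt → ℤ)) (congrArg Subtype.val h)
      simp only [F] at h1
      change vecL (((O.evalW (O.orb.get i)).1 • eight none : leechLattice) : GolayPt → ℤ)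
        = vecL (((O.evalW (O.orb.get j)).1 • eight none : leechLattice) : GolayPt → ℤ) at h1
      rw [O.vecL_eval, O.vecL_eval, h23] at h1
      have hnd := of_decide_eq_true O.orbit
      rw [List.nodup_iff_injective_get] at hnd
      have := @hnd ⟨i.val, by rw [List.length_map]; exact i.isLt⟩ ⟨j.val, by rw [List.length_map]; exact j.isLt⟩
        (by simp only [List.get_eq_getElem, List.getElem_map]; simpa using h1)
      exact Fin.ext (congrArg Fin.val this :)
    simpa using Nat.card_le_card_of_injective F hF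
  have hKcard : Nat.card K = Nat.card (MulAction.orbit K (eight none : leechLattice)) * 443520 := by
    rw [← Nat.card_congr (MulAction.orbitProdStabilizerEquivGroup K (eight none : leechLattice)),
      Nat.card_prod]
    congr 1
    refine Eq.trans (Nat.card_congr ?_).symm hcard
    refine Equiv.ofBijective (fun σ => ⟨⟨O.hom σ, hSK σ⟩, O.hom_fix σ⟩) ⟨?_, ?_⟩
    · intro a b h
      exact O.hom_injective (congrArg (fun z => z.1.1) h)
    · rintro ⟨⟨g, hg⟩, hgf⟩
      obtain ⟨σ, rfl⟩ := O.of_fix (g := g) hgf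
      exact ⟨σ, rfl⟩
  have hR : K.index * Nat.card (MulAction.orbit K (eight none : leechLattice)) = O.R := by
    have h := K.card_mul_index
    rw [O.card_G, hKcard] at h
    nlinarith
  have hle : K.index ≤ O.R / O.orb.length := by
    rw [Nat.le_div_iff_mul_le O.npos, ← hR]
    exact Nat.mul_le_mul_left _ hge
  have := List.all_eq_true.mp O.index K.index (List.mem_range.mpr (Nat.lt_succ_of_le hle))
  simp only [hi11, Nat.mod_eq_zero_of_dvd ⟨_, hR.symm⟩, beq_self_eq_true, Bool.and_self,
    Bool.not_true, Bool.false_or, beq_iff_eq] at this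
  exact Subgroup.index_eq_one.mp this

theorem eval_rel (k j a b : ℕ) :
    O.evalW (relWord k j a b) = O.x ^ k * O.s ^ j * (O.f ^ a * O.s ^ b) := by
  have h0 : O.letter 0 = O.x := rfl
  have h1 : O.letter 1 = O.s := rfl
  have h2 : O.letter 2 = O.f := rfl
  simp only [evalW, relWord, List.map_append, List.map_replicate, List.prod_append,
    List.prod_replicate, h0, h1, h2, mul_assoc]

theorem test (ψ : MulAut O.G) (k a b : ℕ) (hk : k = 1 ∨ k = 11 - 1) (ha : a < 5) (hb : b < 5)
    (hx : ψ O.x = O.x ^ k) (hs : ψ O.s = O.s) (hf : ψ O.f = O.f ^ a * O.s ^ b) :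
    (k, a, b) = (1, 1, 0) ∨ (k, a, b) = O.sp := by
  have h := O.rel
  simp only [relCheck, Bool.and_eq_true, List.all_eq_true, List.mem_finRange, forall_const,
    beq_iff_eq, List.mem_range, Bool.or_eq_true, decide_eq_true_eq, List.any_eq_true, bne_iff_ne] at h
  obtain ⟨h1, h2⟩ := h
  have hk' : k ∈ [1, 10] := by rcases hk with h | h <;> simp [h]
  rcases h2 k hk' a ha b hb with h' | ⟨r, hr, hne⟩
  · exact h'
  exfalso
  refine hne ?_
  have e1 : O.evalW (relWord 1 r.1 1 0) ^ r.2 = 1 :=
    O.ext_eights fun i => by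
      rw [O.vecL_eval_pow, vecL_eight, h1 r hr i]
      simp [vecL_eight]
  have e2 : O.evalW (relWord k r.1 a b) ^ r.2 = 1 := by
    have := congrArg ψ e1
    rw [map_one, map_pow, O.eval_rel, map_mul, map_mul, map_mul, map_pow, map_pow, map_pow, map_pow,
      hx, hs, hf, pow_one, pow_one, pow_zero, mul_one] at this
    rw [O.eval_rel]
    exact this
  have e3 := O.vecL_eval_pow (relWord k r.1 a b) r.2 (eight (H90.pt 3))
  rw [e2, Subgroup.coe_one, one_smul, vecL_eight] at e3
  exact e3.symm

theorem three_order : ∀ j < 5, ((3 : ℕ) : ZMod 11) ^ j = ((3 : ℕ) : ZMod 11) → j = 1 := by decide +kernel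

theorem three_class : ∀ k : ZMod 11, k ≠ 0 →
    ∃ c : ℕ, ((3 : ℕ) : ZMod 11) ^ c * k = 1 ∨ ((3 : ℕ) : ZMod 11) ^ c * k = -1 := by
  have h : ∀ k : ZMod 11, k ≠ 0 →
      ∃ c : Fin 5, ((3 : ℕ) : ZMod 11) ^ c.val * k = 1 ∨ ((3 : ℕ) : ZMod 11) ^ c.val * k = -1 := by
    decide +kernel
  exact fun k hk => let ⟨c, hc⟩ := h k hk; ⟨c.val, hc⟩

/-- exactly two classes, given one outside -/
theorem out_card (hout : ∃ φ : MulAut O.G, φ ∉ Cfsg.Inn O.G) : Nat.card (Cfsg.Out O.G) = 2 := by
  haveI : Fact (Nat.Prime 11) := ⟨by norm_num⟩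
  haveI : Fact (Nat.Prime 5) := ⟨by norm_num⟩
  exact out_card_two (p := 11) (q := 5) O.x O.s O.f 3 O.sp (by rw [O.card_G]; exact O.sq11)
    O.order_x O.order_s O.sxs three_order three_class O.fs (fun g hg => O.norm_x hg)
    (fun g hg => O.cent_s hg) O.gen O.test hout

end OutPair

end H95
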