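import Cfsg.Agent.H95.OutPair
import Cfsg.Agent.H95.McLSimple
import Cfsg.Agent.H95.HSSimple
import Cfsg.Agent.H96.Census48

/-!
The matrices for the two joint stabilisers.
-/

set_option autoImplicit false
set_option maxRecDepth 20000
set_option Elab.async false

namespace H95

open Cfsg Finset

theorem card_hs_group : Nat.card pvU'.group = 44352000 := by
  refine card_hs_model (Eq.trans (congrArg Set.ncard ?_)
    (H96.Census48.ncard_dot_neg16 Spor.leechV (by rw [sqNorm_eq_ldot]; exact leechV_norm)))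
  ext x
  show _ ↔ Cfsg.sqNorm (x : GolayPt → ℤ) = 32 ∧ _
  rw [sqNorm_eq_ldot]
  rfl

/-- eight times the matrix -/
def mclRows : List (List ℤ) :=
  [[5, -1, -1, -3, -1, -1, -1, -1, -1, -1, -1, 1, -1, -1, 1, 1, -1, 1, -1, 1, -1, -1, 1, 3],
   [-1, 1, 1, -1, 1, 1, 1, -3, -3, 1, 1, -1, -3, 1, -1, -1, 1, 3, 1, 3, 1, 1, -1, 1],
   [-1, 1, 1, -1, 1, 1, 1, 1, 1, -3, 1, -1, 1, -3, -1, -1, 1, 3, 1, -1, -3, 1, 3, 1],
   [1, -1, -1, 1, -1, 3, -1, 3, -1, -1, 3, 1, -1, -1, 1, 1, -1, 1, -1, 1, 3, 3, 1, -1],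
   [-1, 1, 1, -1, 1, 1, 1, 1, 1, 1, 1, -1, 1, -3, 3, -1, -3, -1, 1, 3, 1, -3, -1, 1],
   [-1, 1, -3, -1, 1, 1, 1, 1, 1, 1, -3, -1, 1, 1, -1, -1, 1, -1, -3, 3, 1, 1, 3, 1],
   [-1, 1, 1, -1, 1, 1, 1, 1, 1, -3, -3, 3, -3, 1, 3, -1, 1, -1, 1, -1, 1, 1, -1, 1],
   [-1, -3, 1, -1, -3, 1, 1, 1, 1, 1, 1, 3, 1, 1, -1, -1, 1, -1, 1, 3, -3, 1, -1, 1],
   [-1, 1, 1, -1, 1, -3, -3, 1, 1, -3, 1, -1, 1, 1, -1, 3, 1, -1, 1, 3, 1, 1, -1, 1],
   [-1, 1, 1, -1, -3, 1, 1, 1, 1, 1, -3, -1, 1, 1, -1, 3, -3, 3, 1, -1, 1, 1, -1, 1],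
   [-1, 1, 1, -1, 1, 1, -3, 1, 1, 1, 1, 3, 1, 1, -1, -1, 1, 3, -3, -1, 1, -3, -1, 1],
   [1, -1, 3, 1, -1, -1, 3, -1, -1, -1, -1, 1, 3, -1, 1, 1, 3, 1, -1, 1, 3, -1, 1, -1],
   [-1, 1, -3, -1, 1, 1, 1, -3, 1, 1, 1, 3, 1, -3, -1, 3, 1, -1, 1, -1, 1, 1, -1, 1],
   [-1, 1, 1, -1, 1, 1, 1, 1, -3, 1, 1, -1, 1, 1, 3, 3, 1, -1, -3, -1, -3, 1, -1, 1],
   [1, -1, -1, 1, 3, 3, -1, -1, -1, -1, -1, 1, 3, 3, 1, 1, -1, 1, 3, 1, -1, -1, 1, -1],
   [-3, -1, -1, 5, -1, -1, -1, -1, -1, -1, -1, 1, -1, -1, 1, 1, -1, 1, -1, 1, -1, -1, 1, 3],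
   [-1, -3, 1, -1, 1, 1, 1, 1, 1, 1, 1, -1, -3, 1, -1, 3, 1, -1, 1, -1, 1, -3, 3, 1],
   [1, -1, 3, 1, 3, -1, -1, -1, 3, 3, -1, 1, -1, -1, 1, 1, -1, 1, -1, 1, -1, 3, 1, -1],
   [-1, 1, 1, -1, 1, -3, 1, 1, -3, 1, 1, 3, 1, 1, -1, -1, -3, -1, 1, -1, 1, 1, 3, 1],
   [1, 3, -1, 1, -1, -1, 3, -1, 3, -1, 3, 1, -1, 3, 1, 1, -1, 1, -1, 1, -1, -1, 1, -1],
   [-1, -3, -3, -1, 1, -3, 1, 1, 1, 1, 1, -1, 1, 1, 3, -1, 1, 3, 1, -1, 1, 1, -1, 1],
   [-1, 1, 1, -1, -3, 1, -3, -3, 1, 1, 1, -1, 1, 1, 3, -1, 1, -1, 1, -1, 1, 1, 3, 1],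
   [1, 3, -1, 1, -1, -1, -1, 3, -1, 3, -1, 1, -1, -1, 1, 1, 3, 1, 3, 1, -1, -1, 1, -1],
   [3, 1, 1, 3, 1, 1, 1, 1, 1, 1, 1, -1, 1, 1, -1, -1, 1, -1, 1, -1, 1, 1, -1, 5]]

theorem mclRows_gens : matOK mclRows = true := by decide +kernel

theorem mclRows_orth : ∀ a b : GolayPt,
    ∑ p, entryL mclRows p a * entryL mclRows p b = if a = b then 64 else 0 := by
  decide +kernel

/-- the matrix element -/
def mclMat : MatData := ⟨mclRows, mclRows_gens, mclRows_orth⟩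

/-- normalises the element of order five -/
def mclWt : List ℕ :=
  [0, 0, 1, 2, 2, 2, 2, 0, 0, 0, 0, 0, 0, 0, 0, 0, 0, 2, 2, 2, 2, 2, 2, 2, 2, 2, 2, 2, 2, 1, 1, 0, 2, 0, 0, 2, 2, 0, 0, 1, 1, 2, 2, 2, 2, 2, 2, 2, 2, 0, 0, 0, 0, 0, 0, 0, 0, 0, 0, 2, 2, 2, 2, 2, 2, 2, 2, 1, 1, 1, 1, 1, 1, 1, 1, 0, 2, 2, 0, 2, 2, 2, 2, 1, 0]

/-- of order seven -/
def mclW7 : List ℕ :=
  [2, 2, 2, 2, 0, 0, 0, 0, 0, 0, 0, 0, 0, 0, 2, 2, 2, 2, 2, 2, 2, 2, 2, 2, 2, 2, 1, 1, 0, 2, 0, 0, 2, 2]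

/-- the permutation of the first word -/
def mclPt : Fin 24 → Fin 24 := fun i => ([0, 2, 6, 15, 4, 8, 18, 9, 21, 20, 16, 19, 7, 5, 22, 3, 10, 17, 1, 14, 12, 13, 11, 23] : List (Fin 24)).getD i.val 0

/-- the permutation of the second word -/
def mclP7 : Fin 24 → Fin 24 := fun i => ([0, 4, 3, 14, 19, 22, 18, 5, 21, 16, 10, 2, 8, 1, 7, 17, 20, 6, 9, 12, 15, 13, 11, 23] : List (Fin 24)).getD i.val 0

/-- orbit words -/
def mclOrb : List (List ℕ) :=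
  [[], [2], [2, 2], [0, 2], [2, 2, 2], [0, 2, 2], [2, 0, 2], [0, 0, 2], [1, 0, 2], [2, 2, 2, 2], [0, 2, 2, 2], [2, 0, 2, 2], [0, 0, 2, 2], [1, 0, 2, 2], [2, 2, 0, 2], [0, 2, 0, 2], [1, 2, 0, 2], [2, 0, 0, 2], [1, 0, 0, 2], [0, 1, 0, 2], [1, 1, 0, 2], [0, 2, 2, 2, 2], [2, 0, 2, 2, 2], [0, 0, 2, 2, 2], [1, 0, 2, 2, 2], [2, 2, 0, 2, 2], [0, 2, 0, 2, 2], [1, 2, 0, 2, 2], [2, 0, 0, 2, 2], [1, 0, 0, 2, 2], [0, 1, 0, 2, 2], [1, 1, 0, 2, 2], [2, 2, 2, 0, 2], [0, 2, 2, 0, 2], [1, 2, 2, 0, 2], [2, 0, 2, 0, 2], [0, 0, 2, 0, 2], [1, 0, 2, 0, 2], [0, 1, 2, 0, 2], [1, 1, 2, 0, 2], [2, 2, 0, 0, 2], [0, 2, 0, 0, 2], [1, 2, 0, 0, 2], [0, 1, 0, 0, 2], [2, 0, 1, 0, 2], [0, 0, 1, 0, 2]]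

theorem mcl_e : (pvU).e = 1 := rfl
theorem mcl_elt : pairEltCheck mclRows (pvU).e = true := by rw [mcl_e]; decide +kernel
theorem mcl_sol : twSearch (pvU).e ((List.range 5).map fun a => (applyL mclRows)^[a] (eightL 23)) = true := by
  rw [mcl_e]; decide +kernel
theorem mcl_rel_pos0 : ((List.finRange 24).all fun i => (wordL mclRows (relWord 1 0 1 0))^[15] (eightL i) == eightL i) = true := by decide +kernel
theorem mcl_rel_pos1 : ((List.finRange 24).all fun i => (wordL mclRows (relWord 1 1 1 0))^[14] (eightL i) == eightL i) = true := by decide +kernel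
theorem mcl_rel_neg1_0 : ((List.range 5).all fun b => decide ((1, 0, b) = (1, 1, 0) ∨ (1, 0, b) = (1, 4, 4)) || [(0, 15), (1, 14)].any fun r => (wordL mclRows (relWord 1 r.1 0 b))^[r.2] (eightL 3) != eightL 3) = true := by decide +kernel
theorem mcl_rel_neg1_1 : ((List.range 5).all fun b => decide ((1, 1, b) = (1, 1, 0) ∨ (1, 1, b) = (1, 4, 4)) || [(0, 15), (1, 14)].any fun r => (wordL mclRows (relWord 1 r.1 1 b))^[r.2] (eightL 3) != eightL 3) = true := by decide +kernel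
theorem mcl_rel_neg1_2 : ((List.range 5).all fun b => decide ((1, 2, b) = (1, 1, 0) ∨ (1, 2, b) = (1, 4, 4)) || [(0, 15), (1, 14)].any fun r => (wordL mclRows (relWord 1 r.1 2 b))^[r.2] (eightL 3) != eightL 3) = true := by decide +kernel
theorem mcl_rel_neg1_3 : ((List.range 5).all fun b => decide ((1, 3, b) = (1, 1, 0) ∨ (1, 3, b) = (1, 4, 4)) || [(0, 15), (1, 14)].any fun r => (wordL mclRows (relWord 1 r.1 3 b))^[r.2] (eightL 3) != eightL 3) = true := by decide +kernel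
theorem mcl_rel_neg1_4 : ((List.range 5).all fun b => decide ((1, 4, b) = (1, 1, 0) ∨ (1, 4, b) = (1, 4, 4)) || [(0, 15), (1, 14)].any fun r => (wordL mclRows (relWord 1 r.1 4 b))^[r.2] (eightL 3) != eightL 3) = true := by decide +kernel
theorem mcl_rel_neg10_0 : ((List.range 5).all fun b => decide ((10, 0, b) = (1, 1, 0) ∨ (10, 0, b) = (1, 4, 4)) || [(0, 15), (1, 14)].any fun r => (wordL mclRows (relWord 10 r.1 0 b))^[r.2] (eightL 3) != eightL 3) = true := by decide +kernel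
theorem mcl_rel_neg10_1 : ((List.range 5).all fun b => decide ((10, 1, b) = (1, 1, 0) ∨ (10, 1, b) = (1, 4, 4)) || [(0, 15), (1, 14)].any fun r => (wordL mclRows (relWord 10 r.1 1 b))^[r.2] (eightL 3) != eightL 3) = true := by decide +kernel
theorem mcl_rel_neg10_2 : ((List.range 5).all fun b => decide ((10, 2, b) = (1, 1, 0) ∨ (10, 2, b) = (1, 4, 4)) || [(0, 15), (1, 14)].any fun r => (wordL mclRows (relWord 10 r.1 2 b))^[r.2] (eightL 3) != eightL 3) = true := by decide +kernel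
theorem mcl_rel_neg10_3 : ((List.range 5).all fun b => decide ((10, 3, b) = (1, 1, 0) ∨ (10, 3, b) = (1, 4, 4)) || [(0, 15), (1, 14)].any fun r => (wordL mclRows (relWord 10 r.1 3 b))^[r.2] (eightL 3) != eightL 3) = true := by decide +kernel
theorem mcl_rel_neg10_4 : ((List.range 5).all fun b => decide ((10, 4, b) = (1, 1, 0) ∨ (10, 4, b) = (1, 4, 4)) || [(0, 15), (1, 14)].any fun r => (wordL mclRows (relWord 10 r.1 4 b))^[r.2] (eightL 3) != eightL 3) = true := by decide +kernel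
theorem mcl_rel : relCheck mclRows [(0, 15), (1, 14)] (1, 4, 4) = true := by
  rw [relCheck, Bool.and_eq_true]
  constructor
  · simp only [List.all_cons, List.all_nil, Bool.and_true, Bool.and_eq_true]
    exact ⟨mcl_rel_pos0, mcl_rel_pos1⟩
  · refine List.all_eq_true.mpr fun k hk => List.all_eq_true.mpr fun a ha => ?_
    simp only [List.mem_cons, List.not_mem_nil, or_false] at hk
    rw [List.mem_range] at ha
    rcases hk with rfl | rfl <;> interval_cases a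
    exacts [mcl_rel_neg1_0, mcl_rel_neg1_1, mcl_rel_neg1_2, mcl_rel_neg1_3, mcl_rel_neg1_4, mcl_rel_neg10_0, mcl_rel_neg10_1, mcl_rel_neg10_2, mcl_rel_neg10_3, mcl_rel_neg10_4]

theorem mcl_words : wordsCheck mclRows mclWt mclW7 mclPt mclP7 = true := by decide +kernel
theorem mcl_orbit : decide ((mclOrb.map fun w => wordL mclRows w (eightL 23)).Nodup) = true := by
  decide +kernel
theorem mcl_index : pairIndexCheck 2025 mclOrb.length = true := by decide +kernel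

/-- the model -/
noncomputable def mclPair : OutPair where
  P := pvU
  M := mclMat
  R := 2025
  rels := [(0, 15), (1, 14)]
  sp := (1, 4, 4)
  wt := mclWt
  w7 := mclW7
  pt := mclPt
  p7 := mclP7
  orb := mclOrb
  card := (card_mcl_model).trans (by norm_num)
  sq11 := by norm_num
  elt := mcl_elt
  sol := mcl_sol
  rel := mcl_rel
  words := mcl_words
  orbit := mcl_orbit
  npos := by decide
  index := mcl_index

/-- eight times the matrix -/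
def hsRows : List (List ℤ) :=
  [[5, 1, 1, 1, 1, 1, 1, 1, 1, 1, 1, 1, 1, 1, 1, -3, 1, 1, 1, 1, 1, 1, 1, -3],
   [1, 1, 1, 1, 1, -3, 1, 1, 1, 1, 1, -3, -3, 1, 1, 1, 1, -3, 1, 1, -3, 1, 1, 1],
   [1, 1, 1, 1, 1, -3, 1, 1, 1, 1, -3, 1, 1, -3, -3, 1, 1, 1, 1, 1, 1, 1, -3, 1],
   [-3, 1, 1, 1, 1, 1, 1, 1, 1, 1, 1, 1, 1, 1, 1, 5, 1, 1, 1, 1, 1, 1, 1, -3],
   [1, 1, 1, 1, 1, 1, 1, -3, 1, 1, 1, 1, 1, 1, 1, 1, -3, 1, 1, -3, -3, 1, -3, 1],
   [1, 1, 1, -3, 1, -3, -3, 1, 1, -3, 1, 1, 1, 1, 1, 1, 1, 1, 1, -3, 1, 1, 1, 1],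
   [1, 1, 1, 1, 1, 1, 1, -3, 1, -3, 1, 1, 1, 1, -3, 1, 1, -3, 1, 1, 1, -3, 1, 1],
   [1, 1, -3, -3, 1, 1, 1, -3, 1, 1, 1, -3, 1, -3, 1, 1, 1, 1, 1, 1, 1, 1, 1, 1],
   [1, 1, -3, 1, 1, 1, -3, 1, -3, 1, 1, 1, 1, 1, 1, 1, 1, -3, 1, 1, 1, 1, -3, 1],
   [1, 1, 1, 1, -3, 1, 1, 1, 1, -3, 1, -3, 1, 1, 1, 1, 1, 1, -3, 1, 1, 1, -3, 1],
   [1, 1, 1, -3, -3, 1, 1, 1, 1, 1, -3, 1, 1, 1, 1, 1, -3, -3, 1, 1, 1, 1, 1, 1],
   [1, 1, 1, 1, -3, 1, -3, 1, 1, 1, 1, 1, 1, -3, 1, 1, 1, 1, 1, 1, -3, -3, 1, 1],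
   [1, 1, -3, 1, -3, 1, 1, 1, 1, 1, 1, 1, -3, 1, -3, 1, 1, 1, 1, -3, 1, 1, 1, 1],
   [1, -3, 1, 1, 1, 1, 1, 1, 1, 1, 1, 1, 1, -3, 1, 1, 1, -3, -3, -3, 1, 1, 1, 1],
   [1, -3, 1, 1, -3, -3, 1, -3, -3, 1, 1, 1, 1, 1, 1, 1, 1, 1, 1, 1, 1, 1, 1, 1],
   [1, 1, 1, 1, 1, 1, 1, 1, -3, -3, 1, 1, -3, -3, 1, 1, -3, 1, 1, 1, 1, 1, 1, 1],
   [1, -3, 1, 1, 1, 1, -3, 1, 1, 1, 1, -3, 1, 1, -3, 1, -3, 1, 1, 1, 1, 1, 1, 1],
   [1, 1, -3, 1, 1, -3, 1, 1, 1, 1, 1, 1, 1, 1, 1, 1, -3, 1, -3, 1, 1, -3, 1, 1],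
   [1, 1, 1, 1, 1, 1, 1, 1, -3, 1, -3, -3, 1, 1, 1, 1, 1, 1, 1, -3, 1, -3, 1, 1],
   [1, -3, -3, 1, 1, 1, 1, 1, 1, -3, -3, 1, 1, 1, 1, 1, 1, 1, 1, 1, -3, 1, 1, 1],
   [1, 1, 1, -3, 1, 1, 1, 1, -3, 1, 1, 1, 1, 1, -3, 1, 1, 1, -3, 1, -3, 1, 1, 1],
   [1, -3, 1, -3, 1, 1, 1, 1, 1, 1, 1, 1, -3, 1, 1, 1, 1, 1, 1, 1, 1, -3, -3, 1],
   [1, 1, 1, 1, 1, 1, -3, -3, 1, 1, -3, 1, -3, 1, 1, 1, 1, 1, -3, 1, 1, 1, 1, 1],
   [-3, 1, 1, 1, 1, 1, 1, 1, 1, 1, 1, 1, 1, 1, 1, -3, 1, 1, 1, 1, 1, 1, 1, 5]]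

theorem hsRows_gens : matOK hsRows = true := by decide +kernel

theorem hsRows_orth : ∀ a b : GolayPt,
    ∑ p, entryL hsRows p a * entryL hsRows p b = if a = b then 64 else 0 := by
  decide +kernel

/-- the matrix element -/
def hsMat : MatData := ⟨hsRows, hsRows_gens, hsRows_orth⟩

/-- normalises the element of order five -/
def hsWt : List ℕ :=
  [0, 0, 0, 2, 2, 2, 2, 0, 0, 0, 0, 0, 0, 0, 0, 0, 0, 2, 2, 0, 2, 2, 1, 0, 1, 1, 0, 1, 1, 2, 2, 2, 2, 2, 2, 2, 2, 0, 0, 0, 0, 0, 0, 0, 0, 0, 0, 2, 2, 2, 0, 2]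

/-- of order seven -/
def hsW7 : List ℕ :=
  [2, 2, 2, 2, 2, 2, 2, 2, 0, 0, 0, 2, 0, 2, 2]

/-- the permutation of the first word -/
def hsPt : Fin 24 → Fin 24 := fun i => ([0, 6, 1, 15, 2, 16, 4, 12, 20, 10, 13, 22, 5, 21, 14, 3, 7, 11, 18, 17, 8, 9, 19, 23] : List (Fin 24)).getD i.val 0

/-- the permutation of the second word -/
def hsP7 : Fin 24 → Fin 24 := fun i => ([0, 12, 15, 19, 21, 4, 13, 16, 11, 10, 6, 20, 17, 22, 14, 7, 1, 2, 5, 9, 18, 8, 3, 23] : List (Fin 24)).getD i.val 0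

/-- orbit words -/
def hsOrb : List (List ℕ) :=
  [[], [2]]

theorem hs_e : (pvU').e = -1 := rfl
theorem hs_elt : pairEltCheck hsRows (pvU').e = true := by rw [hs_e]; decide +kernel
theorem hs_sol : twSearch (pvU').e ((List.range 5).map fun a => (applyL hsRows)^[a] (eightL 23)) = true := by
  rw [hs_e]; decide +kernel
theorem hs_rel_pos0 : ((List.finRange 24).all fun i => (wordL hsRows (relWord 1 0 1 0))^[7] (eightL i) == eightL i) = true := by decide +kernel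
theorem hs_rel_neg1_0 : ((List.range 5).all fun b => decide ((1, 0, b) = (1, 1, 0) ∨ (1, 0, b) = (10, 4, 0)) || [(0, 7)].any fun r => (wordL hsRows (relWord 1 r.1 0 b))^[r.2] (eightL 3) != eightL 3) = true := by decide +kernel
theorem hs_rel_neg1_1 : ((List.range 5).all fun b => decide ((1, 1, b) = (1, 1, 0) ∨ (1, 1, b) = (10, 4, 0)) || [(0, 7)].any fun r => (wordL hsRows (relWord 1 r.1 1 b))^[r.2] (eightL 3) != eightL 3) = true := by decide +kernel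
theorem hs_rel_neg1_2 : ((List.range 5).all fun b => decide ((1, 2, b) = (1, 1, 0) ∨ (1, 2, b) = (10, 4, 0)) || [(0, 7)].any fun r => (wordL hsRows (relWord 1 r.1 2 b))^[r.2] (eightL 3) != eightL 3) = true := by decide +kernel
theorem hs_rel_neg1_3 : ((List.range 5).all fun b => decide ((1, 3, b) = (1, 1, 0) ∨ (1, 3, b) = (10, 4, 0)) || [(0, 7)].any fun r => (wordL hsRows (relWord 1 r.1 3 b))^[r.2] (eightL 3) != eightL 3) = true := by decide +kernel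
theorem hs_rel_neg1_4 : ((List.range 5).all fun b => decide ((1, 4, b) = (1, 1, 0) ∨ (1, 4, b) = (10, 4, 0)) || [(0, 7)].any fun r => (wordL hsRows (relWord 1 r.1 4 b))^[r.2] (eightL 3) != eightL 3) = true := by decide +kernel
theorem hs_rel_neg10_0 : ((List.range 5).all fun b => decide ((10, 0, b) = (1, 1, 0) ∨ (10, 0, b) = (10, 4, 0)) || [(0, 7)].any fun r => (wordL hsRows (relWord 10 r.1 0 b))^[r.2] (eightL 3) != eightL 3) = true := by decide +kernel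
theorem hs_rel_neg10_1 : ((List.range 5).all fun b => decide ((10, 1, b) = (1, 1, 0) ∨ (10, 1, b) = (10, 4, 0)) || [(0, 7)].any fun r => (wordL hsRows (relWord 10 r.1 1 b))^[r.2] (eightL 3) != eightL 3) = true := by decide +kernel
theorem hs_rel_neg10_2 : ((List.range 5).all fun b => decide ((10, 2, b) = (1, 1, 0) ∨ (10, 2, b) = (10, 4, 0)) || [(0, 7)].any fun r => (wordL hsRows (relWord 10 r.1 2 b))^[r.2] (eightL 3) != eightL 3) = true := by decide +kernel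
theorem hs_rel_neg10_3 : ((List.range 5).all fun b => decide ((10, 3, b) = (1, 1, 0) ∨ (10, 3, b) = (10, 4, 0)) || [(0, 7)].any fun r => (wordL hsRows (relWord 10 r.1 3 b))^[r.2] (eightL 3) != eightL 3) = true := by decide +kernel
theorem hs_rel_neg10_4 : ((List.range 5).all fun b => decide ((10, 4, b) = (1, 1, 0) ∨ (10, 4, b) = (10, 4, 0)) || [(0, 7)].any fun r => (wordL hsRows (relWord 10 r.1 4 b))^[r.2] (eightL 3) != eightL 3) = true := by decide +kernel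
theorem hs_rel : relCheck hsRows [(0, 7)] (10, 4, 0) = true := by
  rw [relCheck, Bool.and_eq_true]
  constructor
  · simp only [List.all_cons, List.all_nil, Bool.and_true, Bool.and_eq_true]
    exact hs_rel_pos0
  · refine List.all_eq_true.mpr fun k hk => List.all_eq_true.mpr fun a ha => ?_
    simp only [List.mem_cons, List.not_mem_nil, or_false] at hk
    rw [List.mem_range] at ha
    rcases hk with rfl | rfl <;> interval_cases a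
    exacts [hs_rel_neg1_0, hs_rel_neg1_1, hs_rel_neg1_2, hs_rel_neg1_3, hs_rel_neg1_4, hs_rel_neg10_0, hs_rel_neg10_1, hs_rel_neg10_2, hs_rel_neg10_3, hs_rel_neg10_4]

theorem hs_words : wordsCheck hsRows hsWt hsW7 hsPt hsP7 = true := by decide +kernel
theorem hs_orbit : decide ((hsOrb.map fun w => wordL hsRows w (eightL 23)).Nodup) = true := by
  decide +kernel
theorem hs_index : pairIndexCheck 100 hsOrb.length = true := by decide +kernel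

/-- the model -/
noncomputable def hsPair : OutPair where
  P := pvU'
  M := hsMat
  R := 100
  rels := [(0, 7)]
  sp := (10, 4, 0)
  wt := hsWt
  w7 := hsW7
  pt := hsPt
  p7 := hsP7
  orb := hsOrb
  card := (card_hs_group).trans (by norm_num)
  sq11 := by norm_num
  elt := hs_elt
  sol := hs_sol
  rel := hs_rel
  words := hs_words
  orbit := hs_orbit
  npos := by decide
  index := hs_index

end H95
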