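import Cfsg.Agent.H95.FrameMap
import Cfsg.Agent.H95.Unique

/-!
An even lattice of rank 24 without roots with the first three shell sizes of the Leech lattice is
isometric to it.
-/

set_option autoImplicit false

namespace H95

open Cfsg Finset Matrix

/-- 8 times the form of the matrix -/
def dForm (B : Matrix (Fin 24) (Fin 24) ℤ) (x y : Fin 24 → ℤ) : ℤ := 8 * (x ⬝ᵥ (B *ᵥ y))

theorem card_quot_twice_pi : Nat.card ((Fin 24 → ℤ) ⧸ twice (Fin 24 → ℤ)) = 2 ^ 24 := by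
  let r : (Fin 24 → ℤ) →+ (Fin 24 → ZMod 2) :=
    { toFun := fun x i => (x i : ZMod 2), map_zero' := by funext i; simp,
      map_add' := fun x y => by funext i; simp }
  have hker : r.ker = twice (Fin 24 → ℤ) := by
    ext x
    rw [AddMonoidHom.mem_ker, mem_twice]
    constructor
    · intro hx
      refine ⟨fun i => x i / 2, ?_⟩
      funext i
      have : (2 : ℤ) ∣ x i := (ZMod.intCast_zmod_eq_zero_iff_dvd _ 2).mp (congrFun hx i)
      simp
      omega
    · rintro ⟨y, rfl⟩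
      funext i
      exact (ZMod.intCast_zmod_eq_zero_iff_dvd _ 2).mpr ⟨y i, by simp⟩
  have hs : Function.Surjective r := by
    intro f
    refine ⟨fun i => ((f i).val : ℤ), ?_⟩
    funext i
    simp [r]
  rw [← hker]
  have : Nat.card ((Fin 24 → ℤ) ⧸ r.ker) = r.ker.index := rfl
  rw [this, AddSubgroup.index_ker, AddMonoidHom.range_eq_top.mpr hs, AddSubgroup.card_top,
    Nat.card_fun, Nat.card_zmod, Nat.card_fin]

theorem recognise (B : Matrix (Fin 24) (Fin 24) ℤ) (hsymm : B.IsSymm)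
    (hpos : ∀ x : Fin 24 → ℤ, x ≠ 0 → 0 < x ⬝ᵥ (B *ᵥ x))
    (heven : ∀ x : Fin 24 → ℤ, (2 : ℤ) ∣ x ⬝ᵥ (B *ᵥ x)) (h2 : ∀ x : Fin 24 → ℤ, x ⬝ᵥ (B *ᵥ x) ≠ 2)
    (h4 : {x : Fin 24 → ℤ | x ⬝ᵥ (B *ᵥ x) = 4}.ncard = 196560)
    (h6 : {x : Fin 24 → ℤ | x ⬝ᵥ (B *ᵥ x) = 6}.ncard = 16773120)
    (h8 : {x : Fin 24 → ℤ | x ⬝ᵥ (B *ᵥ x) = 8}.ncard = 398034000) :
    ∃ f : (Fin 24 → ℤ) ≃+ leechLattice, ∀ x : Fin 24 → ℤ,
      sqNorm ((f x : leechLattice) : GolayPt → ℤ) = 8 * (x ⬝ᵥ (B *ᵥ x)) := by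
  have hset : ∀ n : ℤ, {x : Fin 24 → ℤ | dForm B x x = 8 * n} = {x | x ⬝ᵥ (B *ᵥ x) = n} := by
    intro n; ext x; simp [dForm]
  have hlike : LeechLike (dForm B) :=
    { add_left := fun x y z => by simp [dForm, add_dotProduct, mul_add]
      symm := fun x y => by
        unfold dForm
        rw [dotProduct_mulVec, ← mulVec_transpose, hsymm.eq, dotProduct_comm]
      dvd8 := fun x y => Dvd.intro _ rfl
      dvd16 := fun x => by obtain ⟨k, hk⟩ := heven x; exact ⟨k, by rw [dForm, hk]; ring⟩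
      min32 := fun x hx => by
        have := hpos x hx
        have := h2 x
        obtain ⟨k, hk⟩ := heven x
        unfold dForm
        omega
      embed := ⟨AddMonoidHom.id _, fun a b h => h⟩
      card_quot := card_quot_twice_pi
      count32 := by rw [show (32 : ℤ) = 8 * 4 from rfl, hset]; exact h4
      count48 := by rw [show (48 : ℤ) = 8 * 6 from rfl, hset]; exact h6
      count64 := by rw [show (64 : ℤ) = 8 * 8 from rfl, hset]; exact h8 }
  obtain ⟨x, hx⟩ : ∃ x, dForm B x x = 64 :=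
    Set.nonempty_of_ncard_ne_zero (s := {x | dForm B x x = 64}) (by rw [hlike.count64]; norm_num)
  obtain ⟨f, hf, hfo, hfc, -⟩ :=
    hlike.exists_frame hx (ι := GolayPt) (rfl : Fintype.card GolayPt = 24)
  have hcls : ∀ i j, f i - f j ∈ twice (Fin 24 → ℤ) := fun i j => by
    have := sub_mem (hfc j) (hfc i)
    rwa [sub_sub_sub_cancel_left] at this
  obtain ⟨σ, c, Φ, hd, -⟩ := hlike.exists_iso hf hfo hcls golayUnique
  exact ⟨Φ, fun x => by rw [sqNorm_eq_dot]; exact hd x x⟩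

end H95
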